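import Mathlib.RingTheory.AdjoinRoot
import Mathlib.Algebra.Category.Ring.Basic
import Mathlib.Algebra.Polynomial.Lifts
import Mathlib.Algebra.Colimit.Ring
import Mathlib.Algebra.MvPolynomial.CommRing
import Mathlib.RingTheory.Ideal.Quotient.Operations

/-!
# An absolutely integrally closed extension
-/

set_option autoImplicit false

noncomputable section

universe u

open Polynomial

namespace Groth.Agent.H15.AIC

variable (A : Type u) [CommRing A]

/-- Monic polynomials of positive degree. -/
abbrev Idx : Type u := {f : A[X] // f.Monic ∧ f.natDegree ≠ 0}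

/-- The relations. -/
def rels : Ideal (MvPolynomial (Idx A) A) :=
  Ideal.span (Set.range fun f : Idx A => f.1.eval₂ MvPolynomial.C (MvPolynomial.X f))

/-- Roots adjoined. -/
abbrev Step : Type u := MvPolynomial (Idx A) A ⧸ rels A

theorem exists_root (f : A[X]) (hf : f.Monic) (hd : f.natDegree ≠ 0) :
    ∃ r : Step A, f.eval₂ (algebraMap A (Step A)) r = 0 := by
  refine ⟨Ideal.Quotient.mk _ (MvPolynomial.X ⟨f, hf, hd⟩), ?_⟩
  have h : Ideal.Quotient.mk (rels A) (f.eval₂ MvPolynomial.C (MvPolynomial.X ⟨f, hf, hd⟩)) = 0 :=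
    Ideal.Quotient.eq_zero_iff_mem.2 (Ideal.subset_span ⟨⟨f, hf, hd⟩, rfl⟩)
  rw [Polynomial.hom_eval₂] at h
  exact h

theorem finite_ext (s : Finset (Idx A)) :
    ∃ (C : Type u) (_ : CommRing C) (φ : A →+* C), Function.Injective φ ∧ ∀ f ∈ s, ∃ x : C, f.1.eval₂ φ x = 0 := by
  classical
  induction s using Finset.induction with
  | empty => exact ⟨A, inferInstance, RingHom.id A, fun _ _ h => h, by simp⟩
  | insert f s _ ih =>
    obtain ⟨C, _, φ, hφ, hs⟩ := ih
    rcases subsingleton_or_nontrivial C with hC | hC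
    · exact ⟨C, inferInstance, φ, hφ, fun _ _ => ⟨0, Subsingleton.elim _ _⟩⟩
    set g := f.1.map φ
    have hg : g.Monic := f.2.1.map φ
    have hdg : g.natDegree ≠ 0 := by rw [f.2.1.natDegree_map]; exact f.2.2
    have hof : Function.Injective (AdjoinRoot.of g) := by
      rw [injective_iff_map_eq_zero]
      intro a ha
      by_contra hne
      exact hg.not_dvd_of_natDegree_lt (Polynomial.C_ne_zero.2 hne) (by rw [Polynomial.natDegree_C]; omega) (AdjoinRoot.mk_eq_zero.1 ha)
    refine ⟨AdjoinRoot g, inferInstance, (AdjoinRoot.of g).comp φ, hof.comp hφ, fun h hh => ?_⟩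
    rcases Finset.mem_insert.1 hh with rfl | hh
    · exact ⟨AdjoinRoot.root g, by rw [← Polynomial.eval₂_map]; exact AdjoinRoot.eval₂_root g⟩
    · obtain ⟨x, hx⟩ := hs h hh
      exact ⟨AdjoinRoot.of g x, by rw [← Polynomial.hom_eval₂, hx, map_zero]⟩

theorem injective : Function.Injective (algebraMap A (Step A)) := by
  classical
  rw [injective_iff_map_eq_zero]
  intro a ha
  have ha' : MvPolynomial.C a ∈ rels A := Ideal.Quotient.eq_zero_iff_mem.1 ha
  obtain ⟨T, hT, hmem⟩ := Submodule.mem_span_finite_of_mem_span ha'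
  obtain ⟨s, hs⟩ : ∃ s : Finset (Idx A), ↑T ⊆ (fun f : Idx A => f.1.eval₂ MvPolynomial.C (MvPolynomial.X f)) '' ↑s := by
    choose g hg using hT
    exact ⟨T.attach.image fun t => g t.2, fun t ht => ⟨g ht, Finset.mem_image.2 ⟨⟨t, ht⟩, Finset.mem_attach _ _, rfl⟩, hg ht⟩⟩
  obtain ⟨C, _, φ, hφ, hr⟩ := finite_ext A s
  choose r hr using hr
  let ρ : Idx A → C := fun f => if h : f ∈ s then r f h else 0
  let E := MvPolynomial.eval₂Hom φ ρ
  have hle : Ideal.span (↑T : Set (MvPolynomial (Idx A) A)) ≤ RingHom.ker E := Ideal.span_le.2 fun t ht => by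
    obtain ⟨f, hf, rfl⟩ := hs ht
    rw [SetLike.mem_coe, RingHom.mem_ker, Polynomial.hom_eval₂, show E.comp MvPolynomial.C = φ by ext x; simp [E]]
    simp only [E, MvPolynomial.eval₂Hom_X', ρ, dif_pos (Finset.mem_coe.1 hf)]
    exact hr f _
  have := RingHom.mem_ker.1 (hle hmem)
  simp only [E, MvPolynomial.eval₂Hom_C] at this
  exact hφ (this.trans (map_zero φ).symm)

/-- The tower. -/
def tower : ℕ → CommRingCat.{u}
  | 0 => CommRingCat.of A
  | n + 1 => CommRingCat.of (Step (tower n))

/-- One step of the tower. -/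
def inc (k : ℕ) : tower A k →+* tower A (k + 1) := algebraMap (tower A k) (Step (tower A k))

/-- The transition maps. -/
def tmap (i j : ℕ) (h : i ≤ j) : tower A i →+* tower A j :=
  Nat.leRecOn (C := fun k => tower A i →+* tower A k) h
    (fun {k} φ => (inc A k).comp φ) (RingHom.id _)

theorem tmap_self (i : ℕ) : tmap A i i le_rfl = RingHom.id _ := Nat.leRecOn_self _

theorem tmap_succ (i j : ℕ) (h : i ≤ j) :
    tmap A i (j + 1) (h.trans j.le_succ) = (inc A j).comp (tmap A i j h) :=
  Nat.leRecOn_succ h _

theorem tmap_injective (i j : ℕ) (h : i ≤ j) : Function.Injective (tmap A i j h) := by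
  induction h with
  | refl => rw [tmap_self]; exact fun _ _ e => e
  | @step k h ih => rw [tmap_succ A i k h]; exact (injective (tower A k) : Function.Injective (inc A k)).comp ih

instance system : DirectedSystem (fun i => tower A i) (fun i j h => tmap A i j h) where
  map_self i x := by rw [tmap_self]; rfl
  map_map k j i hij hjk x := by
    induction hjk with
    | refl => rw [tmap_self]; rfl
    | @step m hjm ih => rw [tmap_succ A j m hjm, tmap_succ A i m (hij.trans hjm), RingHom.comp_apply, RingHom.comp_apply, ih]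

/-- The extension. -/
abbrev Lim : Type u := Ring.DirectLimit (fun i => tower A i) (fun i j h => tmap A i j h)

theorem main : ∃ (B : Type u) (_ : CommRing B) (_ : Algebra A B), Function.Injective (algebraMap A B) ∧
    ∀ f : B[X], f.Monic → ∃ s : Multiset B, f = (s.map fun b => X - C b).prod := by
  refine ⟨Lim A, inferInstance, (Ring.DirectLimit.of (fun i => tower A i) (fun i j h => tmap A i j h) 0).toAlgebra,
    Ring.DirectLimit.of_injective (tmap A) (tmap_injective A) 0, ?_⟩
  rcases subsingleton_or_nontrivial (Lim A) with hL | hL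
  · exact fun f _ => ⟨0, Subsingleton.elim _ _⟩
  intro f
  induction hn : f.natDegree generalizing f with
  | zero => intro hf; exact ⟨0, by simpa using hf.natDegree_eq_zero.1 hn⟩
  | succ n ih =>
    intro hf
    obtain ⟨i, p, hp⟩ := Ring.DirectLimit.Polynomial.exists_of (G := fun i => tower A i) (f' := tmap A) f
    obtain ⟨q, hq, hdq, hqm⟩ := Polynomial.lifts_and_degree_eq_and_monic (f := Ring.DirectLimit.of (fun i => tower A i) (fun i j h => tmap A i j h) i) ((Polynomial.mem_lifts f).2 ⟨p, hp⟩) hf
    have hqd : q.natDegree ≠ 0 := by rw [natDegree_eq_of_degree_eq hdq, hn]; omega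
    obtain ⟨r, hr⟩ := exists_root (tower A i) q hqm hqd
    set b : Lim A := Ring.DirectLimit.of (fun i => tower A i) (fun i j h => tmap A i j h) (i + 1) r
    have hb : f.IsRoot b := by
      have hcomp : (Ring.DirectLimit.of (fun i => tower A i) (fun i j h => tmap A i j h) (i + 1)).comp (inc A i) =
          Ring.DirectLimit.of (fun i => tower A i) (fun i j h => tmap A i j h) i := by
        ext x
        have := Ring.DirectLimit.of_f (G := fun i => tower A i) (f := fun i j h => tmap A i j h) i.le_succ x
        rw [tmap_succ A i i le_rfl, tmap_self] at this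
        exact this
      rw [IsRoot, ← hq, eval_map, ← hcomp]
      refine (Polynomial.hom_eval₂ q _ _ r).symm.trans ?_
      exact (congrArg _ hr).trans (map_zero _)
    obtain ⟨g, hg⟩ := dvd_iff_isRoot.2 hb
    have hgm : g.Monic := (monic_X_sub_C b).of_mul_monic_left (hg ▸ hf)
    have hgd : g.natDegree = n := by
      have := congrArg natDegree hg
      rw [(monic_X_sub_C b).natDegree_mul hgm, natDegree_X_sub_C, hn] at this
      omega
    obtain ⟨s, hs⟩ := ih g hgd hgm
    exact ⟨b ::ₘ s, by rw [Multiset.map_cons, Multiset.prod_cons, ← hs, ← hg]⟩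

end Groth.Agent.H15.AIC
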