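import Groth.Agent.H15.BezoutHilbert
import Mathlib.RingTheory.Polynomial.UniqueFactorization
import Mathlib.RingTheory.UniqueFactorizationDomain.Basic
import Mathlib.Algebra.MvPolynomial.Division

/-!
# The affine count in Bezout's theorem for two plane curves
-/

set_option autoImplicit false

noncomputable section

universe u

namespace Groth.Agent.H15.AffineBezout

open MvPolynomial Groth.Agent.H15.BezoutHilbert

attribute [local instance] MvPolynomial.gradedAlgebra

variable (k : Type u) [Field k]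

local notation "R" => MvPolynomial (Fin (2 + 1)) k
local notation "S" => MvPolynomial (Fin 2) k

/-- Substitute a constant for the last variable. -/
abbrev sub (c : MvPolynomial (Fin 2) k) : MvPolynomial (Fin 3) k →ₐ[k] MvPolynomial (Fin 2) k :=
  MvPolynomial.aeval (Fin.cons (MvPolynomial.X 0) (Fin.cons (MvPolynomial.X 1)
    (Fin.cons c Fin.elim0)) : Fin 3 → MvPolynomial (Fin 2) k)

/-- Add a variable. -/
def emb : MvPolynomial (Fin 2) k →ₐ[k] MvPolynomial (Fin 3) k := MvPolynomial.aeval ![X 0, X 1]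

theorem sub_eq (c : S) : sub k c = MvPolynomial.aeval ![X 0, X 1, c] := by
  unfold sub
  congr 1

theorem sub_emb (c p : S) : sub k c (emb k p) = p := by
  have : (sub k c).comp (emb k) = AlgHom.id k S := by
    refine MvPolynomial.algHom_ext fun i => ?_
    fin_cases i <;> simp [emb, sub_eq]
  exact DFunLike.congr_fun this p

theorem X_dvd_sub (a : R) : (X 2 : R) ∣ a - emb k (sub k 0 a) := by
  induction a using MvPolynomial.induction_on with
  | C r => simp [emb, sub_eq]
  | add p q hp hq =>
    rw [map_add, map_add, add_sub_add_comm]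
    exact dvd_add hp hq
  | mul_X p i hp =>
    rw [map_mul, map_mul]
    fin_cases i
    · simp only [sub_eq, emb, aeval_X, Fin.zero_eta, Matrix.cons_val_zero, ← sub_mul] at hp ⊢
      exact dvd_mul_of_dvd_left hp _
    · have e : emb k (sub k 0 (X 1)) = X 1 := by simp [emb, sub_eq]
      show X 2 ∣ p * X 1 - emb k (sub k 0 p) * emb k (sub k 0 (X 1))
      rw [e, ← sub_mul]
      exact dvd_mul_of_dvd_left hp _
    · have e : emb k (sub k 0 (X 2)) = 0 := by simp [emb, sub_eq]
      show X 2 ∣ p * X 2 - emb k (sub k 0 p) * emb k (sub k 0 (X 2))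
      rw [e, mul_zero, sub_zero]
      exact dvd_mul_left _ _

theorem exponent_three (α : Fin 3 →₀ ℕ) :
    α = Finsupp.single 0 (α 0) + Finsupp.single 1 (α 1) + Finsupp.single 2 (α 2) := by
  ext i; fin_cases i <;> simp

theorem sub_one_monomial (α : Fin 3 →₀ ℕ) (c : k) :
    sub k 1 (monomial α c) = monomial (Finsupp.single 0 (α 0) + Finsupp.single 1 (α 1)) c := by
  rw [sub_eq, aeval_monomial, Finsupp.prod_fintype _ _ (fun i => pow_zero _), Fin.prod_univ_three]
  simp [X_pow_eq_monomial, algebraMap_eq, C_mul_monomial, monomial_mul]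

/-- Homogenisation in degree `M`. -/
def hz (M : ℕ) : MvPolynomial (Fin 2) k →ₗ[k] MvPolynomial (Fin 3) k :=
  (basisMonomials (Fin 2) k).constr k fun β =>
    monomial (Finsupp.single 0 (β 0) + Finsupp.single 1 (β 1) + Finsupp.single 2 (M - (β 0 + β 1))) 1

theorem hz_monomial (M : ℕ) (β : Fin 2 →₀ ℕ) (c : k) :
    hz k M (monomial β c) =
      monomial (Finsupp.single 0 (β 0) + Finsupp.single 1 (β 1) + Finsupp.single 2 (M - (β 0 + β 1))) c := by
  have : monomial β c = c • basisMonomials (Fin 2) k β := by simp [smul_monomial]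
  rw [this, map_smul, hz, Module.Basis.constr_basis]
  simp [smul_monomial]

theorem degree_three (α : Fin 3 →₀ ℕ) : α.degree = α 0 + α 1 + α 2 := by
  rw [Finsupp.degree_eq_sum, Fin.sum_univ_three]

theorem hz_sub (M : ℕ) {a : R} (ha : a.IsHomogeneous M) : hz k M (sub k 1 a) = a := by
  conv_rhs => rw [a.as_sum]
  conv_lhs => rw [a.as_sum]
  simp only [map_sum]
  refine Finset.sum_congr rfl fun α hα => ?_
  rw [sub_one_monomial, hz_monomial]
  congr 2
  have hdeg : α.degree = M := by
    by_contra h
    exact (mem_support_iff.1 hα) (ha.coeff_eq_zero h)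
  rw [degree_three] at hdeg
  conv_rhs => rw [exponent_three α]
  congr 2 <;> simp <;> omega

theorem hz_spec (M : ℕ) (s : S) (hs : s.totalDegree ≤ M) : (hz k M s).IsHomogeneous M ∧ sub k 1 (hz k M s) = s := by
  constructor
  · conv => arg 1; rw [s.as_sum, map_sum]
    refine IsHomogeneous.sum _ _ _ fun β hβ => ?_
    rw [hz_monomial]
    refine isHomogeneous_monomial _ ?_
    have := (le_totalDegree hβ).trans hs
    rw [Finsupp.sum_fintype _ _ (fun _ => rfl), Fin.sum_univ_two] at this
    rw [degree_three]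
    simp
    omega
  · conv_rhs => rw [s.as_sum]
    conv_lhs => rw [s.as_sum]
    simp only [map_sum]
    refine Finset.sum_congr rfl fun β _ => ?_
    rw [hz_monomial, sub_one_monomial]
    congr 2
    ext i
    fin_cases i <;> simp

variable {k}

theorem sub_zero_ne_zero {f g : R} {m : ℕ} (hg : g.IsHomogeneous m) (hm : 0 < m)
    (h : IsRelPrime (sub k 0 f) (sub k 0 g)) : sub k 0 f ≠ 0 := by
  intro h0
  rw [h0, isRelPrime_zero_left] at h
  have hg' : MvPolynomial.constantCoeff (sub k 0 g) = 0 := by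
    have h2 : (MvPolynomial.constantCoeff : S →+* k).comp (sub k 0).toRingHom = MvPolynomial.constantCoeff := by
      refine MvPolynomial.ringHom_ext (fun r => by simp [sub_eq]) fun i => ?_
      fin_cases i <;> simp [sub_eq]
    have h3 : MvPolynomial.constantCoeff g = 0 := by
      rw [constantCoeff_eq]
      exact hg.coeff_eq_zero (by simp; omega)
    rw [← h3]
    exact RingHom.congr_fun h2 g
  exact not_isUnit_zero (hg' ▸ h.map MvPolynomial.constantCoeff : IsUnit (0 : k))

theorem T_regular {n m : ℕ} {f g : R} (hf : f.IsHomogeneous n) (hg : g.IsHomogeneous m) (hn : 0 < n) (hm : 0 < m)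
    (hT : IsRelPrime (sub k 0 f) (sub k 0 g)) {a : R} (ha : X 2 * a ∈ Ideal.span {f, g}) :
    a ∈ Ideal.span {f, g} := by
  obtain ⟨u, v, huv⟩ := Ideal.mem_span_pair.1 ha
  have h0 : sub k 0 u * sub k 0 f + sub k 0 v * sub k 0 g = 0 := by
    have h0' := congrArg (sub k 0) huv
    rw [map_add, map_mul, map_mul, map_mul] at h0'
    simpa [sub_eq] using h0'
  have hfne := sub_zero_ne_zero hg hm hT
  have hgne := sub_zero_ne_zero hf hn hT.symm
  obtain ⟨w, hw⟩ : sub k 0 g ∣ sub k 0 u :=
    hT.symm.dvd_of_dvd_mul_right ⟨-sub k 0 v, by linear_combination h0⟩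
  have hv : sub k 0 v = -(w * sub k 0 f) := mul_right_cancel₀ hgne (by linear_combination h0 - sub k 0 f * hw)
  have dvd_of : ∀ c : R, sub k 0 c = 0 → (X 2 : R) ∣ c := fun c hc => by
    have := X_dvd_sub k c
    rwa [hc, map_zero, sub_zero] at this
  obtain ⟨u', hu'⟩ := dvd_of (u - emb k w * g) (by rw [map_sub, map_mul, sub_emb, hw, mul_comm w, sub_self])
  obtain ⟨v', hv'⟩ := dvd_of (v + emb k w * f) (by rw [map_add, map_mul, sub_emb, hv, neg_add_cancel])
  have e : a = u' * f + v' * g :=
    mul_left_cancel₀ (X_ne_zero 2) (by linear_combination -huv + f * hu' + g * hv')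
  rw [e]
  exact Ideal.mem_span_pair.2 ⟨u', v', rfl⟩

theorem count {n m : ℕ} {f g : R} (hf : f.IsHomogeneous n) (hg : g.IsHomogeneous m) (hf0 : f ≠ 0)
    (hfg : IsRelPrime f g) (M : ℕ) (hM : n + m ≤ M) :
    idim (Ideal.span {f, g}) M + n * m = (M + 2).choose 2 := by
  have hbot : ∀ j, idim (⊥ : Ideal R) j = 0 := fun j => by
    rw [idim, Submodule.restrictScalars_bot, bot_inf_eq, finrank_bot]
  have hf1 : ∀ j, n ≤ j → idim (Ideal.span {f}) j = (j - n + 2).choose 2 := fun j hj => by
    have := idim_step (J := ⊥) (Ideal.IsHomogeneous.bot _) hf (fun a ha => by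
      rw [Ideal.mem_bot] at ha ⊢
      exact (mul_eq_zero.1 ha).resolve_right hf0) hj
    rw [hbot, hbot, bot_sup_eq] at this
    omega
  have h2 := idim_step (J := Ideal.span {f}) (Ideal.homogeneous_span _ _ (by rintro _ rfl; exact ⟨n, hf⟩)) hg
    (fun a ha => by
      rw [Ideal.mem_span_singleton] at ha ⊢
      exact hfg.dvd_of_dvd_mul_right ha) (show m ≤ M by omega)
  rw [hf1 M (by omega), hf1 (M - m) (by omega), ← Ideal.span_union, Set.singleton_union] at h2
  obtain ⟨c, rfl⟩ : ∃ c, M = n + m + c := ⟨M - (n + m), by omega⟩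
  rw [show n + m + c - m - n + 2 = c + 2 by omega, show n + m + c - n + 2 = m + c + 2 by omega,
    show n + m + c - m + 2 = n + c + 2 by omega] at h2
  have e : ∀ a : ℕ, ((a + 2).choose 2 : ℚ) = ((a : ℚ) + 2) * ((a : ℚ) + 1) / 2 := fun a => by
    rw [Nat.cast_choose_two]; push_cast; ring
  have h2' : (idim (Ideal.span {f, g}) (n + m + c) : ℚ) + ((c + 2).choose 2 : ℕ) =
      ((m + c + 2).choose 2 : ℕ) + ((n + c + 2).choose 2 : ℕ) := by exact_mod_cast h2
  rw [e, e, e] at h2'
  have hgoal : (idim (Ideal.span {f, g}) (n + m + c) : ℚ) + (n * m : ℕ) = ((n + m + c + 2).choose 2 : ℕ) := by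
    rw [e]
    push_cast at h2' ⊢
    linarith
  exact_mod_cast hgoal

theorem main {n m : ℕ} {f g : R} (hf : f.IsHomogeneous n) (hg : g.IsHomogeneous m) (hn : 0 < n) (hm : 0 < m)
    (hf0 : f ≠ 0) (hfg : IsRelPrime f g) (hT : IsRelPrime (sub k 0 f) (sub k 0 g)) :
    Module.finrank k (S ⧸ Ideal.span ({sub k 1 f, sub k 1 g} : Set S)) = n * m := by
  classical
  set J : Ideal R := Ideal.span {f, g} with hJ
  set J' : Ideal S := Ideal.span ({sub k 1 f, sub k 1 g} : Set S) with hJ'
  have hJh : J.IsHomogeneous (homogeneousSubmodule (Fin 3) k) := Ideal.homogeneous_span _ _ (by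
    rintro x (rfl | rfl)
    · exact ⟨n, hf⟩
    · exact ⟨m, hg⟩)
  have hmap : J' = J.map (sub k 1) := by rw [hJ, Ideal.map_span, Set.image_pair]
  let φ : ∀ M, ↥(homogeneousSubmodule (Fin 3) k M) →ₗ[k] (S ⧸ J') := fun M =>
    (Ideal.Quotient.mkₐ k J').toLinearMap ∘ₗ (sub k 1).toLinearMap ∘ₗ Submodule.subtype _
  have hφ : ∀ (M : ℕ) (a : ↥(homogeneousSubmodule (Fin 3) k M)),
      φ M a = Ideal.Quotient.mkₐ k J' (sub k 1 (a : MvPolynomial (Fin 3) k)) := fun M a => by
    simp only [φ, LinearMap.comp_apply, AlgHom.toLinearMap_apply, Submodule.subtype_apply]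
  have hTsub : sub k 1 (X 2) = 1 := by simp [sub_eq]
  have hker : ∀ M, LinearMap.ker (φ M) = (J.restrictScalars k ⊓ homogeneousSubmodule (Fin 3) k M).submoduleOf _ := by
    intro M
    ext ⟨a, ha⟩
    constructor
    · intro h
      have h' : sub k 1 a ∈ J' := Ideal.Quotient.eq_zero_iff_mem.1 h
      rw [hmap, Ideal.mem_map_iff_of_surjective _ (fun s => ⟨emb k s, sub_emb k 1 s⟩)] at h'
      obtain ⟨b, hb, hba⟩ := h'
      set N := max M b.totalDegree
      let b' : R := ∑ j ∈ Finset.range (b.totalDegree + 1), X 2 ^ (N - j) * homogeneousComponent j b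
      have hb'J : b' ∈ J := sum_mem fun j _ => J.mul_mem_left _ (homogeneousComponent_mem_of_mem hJh hb j)
      have hb'h : b'.IsHomogeneous N := IsHomogeneous.sum _ _ _ fun j hj => by
        rw [Finset.mem_range] at hj
        have := ((isHomogeneous_X k (2 : Fin 3)).pow (N - j)).mul (homogeneousComponent_isHomogeneous j b)
        rwa [show 1 * (N - j) + j = N by omega] at this
      have hb's : sub k 1 b' = sub k 1 b := by
        conv_rhs => rw [← sum_homogeneousComponent b]
        simp only [b', map_sum, map_mul, map_pow, hTsub, one_pow, one_mul]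
      have hah : (X 2 ^ (N - M) * a).IsHomogeneous N := by
        have := ((isHomogeneous_X k (2 : Fin 3)).pow (N - M)).mul (show a.IsHomogeneous M from ha)
        rwa [show 1 * (N - M) + M = N by omega] at this
      have e : X 2 ^ (N - M) * a = b' := by
        rw [← hz_sub k N hah, ← hz_sub k N hb'h, hb's, hba]
        simp only [map_mul, map_pow, hTsub, one_pow, one_mul]
      have hmemJ : X 2 ^ (N - M) * a ∈ J := e ▸ hb'J
      refine ⟨?_, ha⟩
      show a ∈ J
      clear e hah
      revert hmemJ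
      generalize N - M = j
      intro hmemJ
      induction j with
      | zero => simpa using hmemJ
      | succ j ih => exact ih (T_regular hf hg hn hm hT (by rwa [pow_succ', mul_assoc] at hmemJ))
    · intro h
      refine Ideal.Quotient.eq_zero_iff_mem.2 ?_
      rw [hmap]
      exact Ideal.mem_map_of_mem _ h.1
  have hdim : ∀ M, n + m ≤ M → Module.finrank k (LinearMap.range (φ M)) = n * m := fun M hM => by
    have : Module.Finite k ↥(homogeneousSubmodule (Fin 3) k M) := Module.Finite.iff_fg.2 (homogeneousSubmodule_fg _ _ M)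
    have h := LinearMap.finrank_range_add_finrank_ker (φ M)
    rw [hker, (Submodule.submoduleOfEquivOfLe inf_le_right).finrank_eq, finrank_homogeneous] at h
    have h2 := count hf hg hf0 hfg M hM
    have hid : idim J M = Module.finrank k ↥(J.restrictScalars k ⊓ homogeneousSubmodule (Fin 3) k M) := rfl
    rw [← hid] at h
    simp only [hJ] at h
    omega
  have hmono : ∀ M M', M ≤ M' → LinearMap.range (φ M) ≤ LinearMap.range (φ M') := by
    rintro M M' hMM _ ⟨⟨a, ha⟩, rfl⟩
    refine ⟨⟨X 2 ^ (M' - M) * a, ?_⟩, ?_⟩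
    · have := ((isHomogeneous_X k (2 : Fin 3)).pow (M' - M)).mul (show a.IsHomogeneous M from ha)
      rwa [show 1 * (M' - M) + M = M' by omega] at this
    · rw [hφ, hφ]
      refine congrArg (Ideal.Quotient.mkₐ k J') ?_
      simp only [map_mul, map_pow, hTsub, one_pow, one_mul]
  have htop : LinearMap.range (φ (n + m)) = ⊤ := by
    refine eq_top_iff.2 fun z _ => ?_
    obtain ⟨s, rfl⟩ := Ideal.Quotient.mk_surjective z
    set M := max (n + m) s.totalDegree
    obtain ⟨h1, h2⟩ := hz_spec k M s (le_max_right _ _)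
    have : Module.Finite k ↥(homogeneousSubmodule (Fin 3) k M) := Module.Finite.iff_fg.2 (homogeneousSubmodule_fg _ _ M)
    rw [Submodule.eq_of_le_of_finrank_eq (hmono (n + m) M (le_max_left _ _)) (by rw [hdim _ le_rfl, hdim _ (le_max_left _ _)])]
    exact ⟨⟨_, h1⟩, congrArg (Ideal.Quotient.mk J') h2⟩
  have h := hdim (n + m) le_rfl
  rwa [htop, finrank_top] at h

end Groth.Agent.H15.AffineBezout
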