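import Mathlib.RingTheory.LocalRing.Module
import Mathlib.RingTheory.Artinian.Ring
import Mathlib.RingTheory.HopkinsLevitzki
import Mathlib.RingTheory.Flat.Tensor
import Mathlib.LinearAlgebra.TensorProduct.RightExactness
import Mathlib.RingTheory.Regular.RegularSequence

/-! Maps into flat modules over an Artinian local ring that are injective modulo the maximal ideal. -/

set_option autoImplicit false
set_option maxHeartbeats 400000
universe u v

namespace Groth.Agent.H15.ArtFlat

open IsLocalRing TensorProduct Submodule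
open scoped Pointwise

variable {R : Type u} [CommRing R] [IsLocalRing R] [IsArtinianRing R]

theorem nilp : IsNilpotent (maximalIdeal R) := by
  have := IsArtinianRing.isNilpotent_jacobson_bot (R := R)
  rwa [IsLocalRing.jacobson_eq_maximalIdeal ⊥ bot_ne_top] at this

variable {M : Type v} [AddCommGroup M] [Module R M]

theorem eq_top_of_sup_smul_eq_top {I : Ideal R} (hI : IsNilpotent I) (N : Submodule R M)
    (h : N ⊔ I • ⊤ = ⊤) : N = ⊤ := by
  obtain ⟨n, hn⟩ := hI
  have : ∀ j, N ⊔ (I ^ j) • (⊤ : Submodule R M) = ⊤ := fun j => by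
    induction j with
    | zero => simp
    | succ j ih =>
      apply top_unique
      conv_lhs => rw [← h]
      conv_lhs => rw [← ih, Submodule.smul_sup, ← sup_assoc, ← mul_smul, ← pow_succ']
      exact sup_le_sup (sup_le le_rfl Submodule.smul_le_right) le_rfl
  simpa [hn] using this n

theorem free_of_flat (M : Type v) [AddCommGroup M] [Module R M] [Module.Flat R M] : Module.Free R M := by
  let k := ResidueField R
  let w := Module.Free.chooseBasis k (k ⊗[R] M)
  have hsurj : Function.Surjective (TensorProduct.mk R k M 1) :=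
    TensorProduct.mk_surjective R M k Ideal.Quotient.mk_surjective
  obtain ⟨v, hv⟩ := hsurj.comp_left w
  replace hv : TensorProduct.mk R k M 1 ∘ v = w := hv
  have hli : LinearIndependent R v := by
    refine Module.IsLocalRing.linearIndependent_of_flat v ?_
    rw [hv]
    exact w.linearIndependent
  refine Module.Free.of_basis (Module.Basis.mk hli ?_)
  refine top_le_iff.2 (eq_top_of_sup_smul_eq_top nilp _ (top_le_iff.1 fun x _ => ?_))
  have hx : (1 : k) ⊗ₜ[R] x ∈ (Submodule.span R (Set.range v)).map (TensorProduct.mk R k M 1) := by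
    rw [Submodule.map_span, ← Set.range_comp, hv]
    have h2 : Submodule.span R (Set.range w) =
        (Submodule.span k (Set.range w)).restrictScalars R :=
      (Submodule.restrictScalars_span R k Ideal.Quotient.mk_surjective _).symm
    rw [h2, w.span_eq]
    exact Submodule.mem_top
  obtain ⟨n, hn, hn'⟩ := hx
  have h3 : x - n ∈ (TensorProduct.mk R k M 1).ker := by
    rw [LinearMap.mem_ker, map_sub, hn']
    simp
  replace h3 : x - n ∈ maximalIdeal R • (⊤ : Submodule R M) :=
    (LinearMap.ker_tensorProductMk (I := maximalIdeal R) (Q := M)).le h3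
  exact Submodule.mem_sup.2 ⟨n, hn, x - n, h3, add_sub_cancel _ _⟩

/-- Above every proper ideal sits a socle element. -/
theorem exists_socle (J : Ideal R) (hJ : J ≠ ⊤) : ∃ e : R, e ∉ J ∧ ∀ r ∈ maximalIdeal R, r * e ∈ J := by
  classical
  obtain ⟨n, hn⟩ := nilp (R := R)
  have hex : ∃ k, maximalIdeal R ^ k ≤ J := ⟨n, by rw [hn]; exact bot_le⟩
  set k := Nat.find hex
  have hk : maximalIdeal R ^ k ≤ J := Nat.find_spec hex
  obtain ⟨l, hl⟩ : ∃ l, k = l + 1 := by
    rcases Nat.eq_zero_or_pos k with h | h
    · rw [h, pow_zero, Ideal.one_eq_top, top_le_iff] at hk; exact absurd hk hJ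
    · exact ⟨k - 1, by omega⟩
  have hnot : ¬ maximalIdeal R ^ l ≤ J := Nat.find_min hex (by omega)
  obtain ⟨e, he, heJ⟩ := SetLike.not_le_iff_exists.1 hnot
  exact ⟨e, heJ, fun r hr => hk (by rw [hl, pow_succ']; exact Ideal.mul_mem_mul hr he)⟩

theorem mem_max_of_mul_mem {J : Ideal R} {e : R} (he : e ∉ J) {c : R} (h : c * e ∈ J) :
    c ∈ maximalIdeal R := by
  rw [IsLocalRing.mem_maximalIdeal, mem_nonunits_iff]
  exact fun hu => he ((J.unit_mul_mem_iff_mem hu).1 h)

theorem mem_smul_top_of_smul_mem [Module.Free R M] {J : Ideal R} {e : R} (he : e ∉ J) {x : M}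
    (h : e • x ∈ J • (⊤ : Submodule R M)) : x ∈ maximalIdeal R • (⊤ : Submodule R M) := by
  classical
  let b := Module.Free.chooseBasis R M
  have hc : ∀ y ∈ J • (⊤ : Submodule R M), ∀ i, b.repr y i ∈ J := fun y hy i => by
    refine Submodule.smul_induction_on hy (fun r hr z _ => ?_) fun y z hy hz => ?_
    · simpa using J.mul_mem_right _ hr
    · simpa using J.add_mem hy hz
  rw [← b.linearCombination_repr x, Finsupp.linearCombination_apply]
  refine Submodule.sum_mem _ fun i _ => Submodule.smul_mem_smul (mem_max_of_mul_mem he ?_) mem_top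
  have := hc _ h i
  rwa [map_smul, Finsupp.smul_apply, smul_eq_mul, mul_comm] at this

theorem smul_mem_of_mem_max {J : Ideal R} {e : R} (he : ∀ r ∈ maximalIdeal R, r * e ∈ J) {x : M}
    (hx : x ∈ maximalIdeal R • (⊤ : Submodule R M)) : e • x ∈ J • (⊤ : Submodule R M) := by
  refine Submodule.smul_induction_on hx (fun r hr z _ => ?_) fun y z hy hz => ?_
  · rw [smul_smul, mul_comm]; exact Submodule.smul_mem_smul (he r hr) mem_top
  · rw [smul_add]; exact add_mem hy hz

variable {Q : Type v} [AddCommGroup Q] [Module R Q] {N : Type v} [AddCommGroup N] [Module R N]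

/-- If `g` is injective modulo `U` and the maximal ideal, it is so modulo every ideal. -/
theorem key [Module.Flat R N] (g : Q →ₗ[R] N) (U : Submodule R Q) (hU : U ≤ LinearMap.ker g)
    (hred : ∀ x, g x ∈ maximalIdeal R • (⊤ : Submodule R N) → x ∈ U ⊔ maximalIdeal R • ⊤)
    (J : Ideal R) : ∀ x, g x ∈ J • (⊤ : Submodule R N) → x ∈ U ⊔ J • ⊤ := by
  haveI := free_of_flat (R := R) N
  induction J using WellFoundedGT.induction with
  | _ J ih =>
    intro x hx
    by_cases hJ : J = ⊤
    · subst hJ; simp
    obtain ⟨e, he, hem⟩ := exists_socle J hJ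
    have hlt : J < J ⊔ Ideal.span {e} :=
      lt_of_le_not_ge le_sup_left fun h => he (h (Submodule.mem_sup_right (Ideal.mem_span_singleton_self e)))
    have h1 := ih _ hlt x (Submodule.smul_mono le_sup_left le_rfl hx)
    rw [Submodule.sup_smul, Submodule.ideal_span_singleton_smul] at h1
    obtain ⟨u, hu, w, hw, rfl⟩ := Submodule.mem_sup.1 h1
    obtain ⟨y, hy, t, ht, rfl⟩ := Submodule.mem_sup.1 hw
    obtain ⟨z, -, rfl⟩ := (Submodule.mem_smul_pointwise_iff_exists _ _ _).1 ht
    have hgy : g y ∈ J • (⊤ : Submodule R N) := by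
      refine Submodule.smul_induction_on hy (fun r hr z _ => ?_) fun y z hy hz => ?_
      · rw [map_smul]; exact Submodule.smul_mem_smul hr mem_top
      · rw [map_add]; exact add_mem hy hz
    rw [map_add, map_add, LinearMap.mem_ker.1 (hU hu), zero_add, map_smul, Submodule.add_mem_iff_right _ hgy] at hx
    obtain ⟨u', hu', z', hz', rfl⟩ := Submodule.mem_sup.1 (hred z (mem_smul_top_of_smul_mem he hx))
    rw [smul_add, show u + (y + (e • u' + e • z')) = (u + e • u') + (y + e • z') by abel]
    exact Submodule.add_mem_sup (U.add_mem hu (U.smul_mem _ hu')) (Submodule.add_mem _ hy (smul_mem_of_mem_max hem hz'))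

/-- Flatness of the cokernel. -/
theorem flat_coker {M : Type v} [AddCommGroup M] [Module R M] [Module.Flat R N]
    (g : Q →ₗ[R] N) (h : N →ₗ[R] M) (hex : Function.Exact g h) (hh : Function.Surjective h)
    (hJ : ∀ (J : Ideal R) x, g x ∈ J • (⊤ : Submodule R N) → x ∈ LinearMap.ker g ⊔ J • ⊤) :
    Module.Flat R M := by
  rw [Module.Flat.iff_rTensor_injective]
  intro J _
  rw [injective_iff_map_eq_zero]
  intro z hz
  obtain ⟨z, rfl⟩ := LinearMap.lTensor_surjective J hh z
  let μ : J ⊗[R] N →ₗ[R] N := (TensorProduct.lid R N).toLinearMap ∘ₗ J.subtype.rTensor N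
  let μM : J ⊗[R] M →ₗ[R] M := (TensorProduct.lid R M).toLinearMap ∘ₗ J.subtype.rTensor M
  let μQ : J ⊗[R] Q →ₗ[R] Q := (TensorProduct.lid R Q).toLinearMap ∘ₗ J.subtype.rTensor Q
  have hinj : Function.Injective μ :=
    (TensorProduct.lid R N).injective.comp (Module.Flat.rTensor_preserves_injective_linearMap _ J.subtype_injective)
  have hμ : ∀ w, h (μ w) = μM (h.lTensor J w) := by
    intro w
    induction w using TensorProduct.induction_on with
    | zero => simp
    | tmul r n => simp [μ, μM]
    | add a b ha hb => simp only [map_add, ha, hb]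
  have hμg : ∀ w, g (μQ w) = μ (g.lTensor J w) := by
    intro w
    induction w using TensorProduct.induction_on with
    | zero => simp
    | tmul r n => simp [μ, μQ]
    | add a b ha hb => simp only [map_add, ha, hb]
  have hrange : ∀ w, μ w ∈ J • (⊤ : Submodule R N) := by
    intro w
    induction w using TensorProduct.induction_on with
    | zero => simp
    | tmul r n => simp only [μ, LinearMap.comp_apply, LinearMap.rTensor_tmul, Submodule.subtype_apply,
        LinearEquiv.coe_coe, TensorProduct.lid_tmul]; exact Submodule.smul_mem_smul r.2 mem_top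
    | add a b ha hb => rw [map_add]; exact add_mem ha hb
  have h0 : h (μ z) = 0 := by
    rw [hμ]
    show (TensorProduct.lid R M) (J.subtype.rTensor M _) = 0
    rw [hz, map_zero]
  obtain ⟨q, hq⟩ := (hex _).1 h0
  obtain ⟨u, hu, w, hw, rfl⟩ := Submodule.mem_sup.1 (hJ J q (hq ▸ hrange z))
  obtain ⟨w', rfl⟩ : ∃ w', μQ w' = w := by
    refine Submodule.smul_induction_on hw (fun r hr n _ => ⟨⟨r, hr⟩ ⊗ₜ[R] n, by simp [μQ]⟩) fun a b ha hb => ?_
    obtain ⟨a', rfl⟩ := ha; obtain ⟨b', rfl⟩ := hb
    exact ⟨a' + b', map_add _ _ _⟩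
  rw [map_add, LinearMap.mem_ker.1 hu, zero_add, hμg] at hq
  rw [← hinj hq, ← LinearMap.comp_apply, ← LinearMap.lTensor_comp, hex.linearMap_comp_eq_zero]
  simp

/-- Injectivity of an endomorphism modulo one proper ideal gives injectivity modulo the maximal ideal. -/
theorem red_of_injective [Module.Flat R Q] (g : Q →ₗ[R] N) (J : Ideal R) (hJ : J ≠ ⊤)
    (hinj : ∀ x, g x ∈ J • (⊤ : Submodule R N) → x ∈ J • (⊤ : Submodule R Q)) :
    ∀ x, g x ∈ maximalIdeal R • (⊤ : Submodule R N) → x ∈ maximalIdeal R • (⊤ : Submodule R Q) := by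
  haveI := free_of_flat (R := R) Q
  obtain ⟨e, he, hem⟩ := exists_socle J hJ
  intro x hx
  refine mem_smul_top_of_smul_mem he (hinj _ ?_)
  rw [map_smul]
  exact smul_mem_of_mem_max hem hx

section Reg

open RingTheory.Sequence

variable {S : Type v} [CommRing S] [Algebra R S]

/-- For a flat module, regularity modulo a proper ideal is regularity modulo the maximal ideal. -/
theorem regMod_iff [Module S M] [IsScalarTower R S M] [Module.Flat R M] (f : S) (J : Ideal R) (hJ : J ≠ ⊤) :
    (∀ x : M, f • x ∈ J • (⊤ : Submodule R M) → x ∈ J • (⊤ : Submodule R M)) ↔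
      ∀ x : M, f • x ∈ maximalIdeal R • (⊤ : Submodule R M) → x ∈ maximalIdeal R • (⊤ : Submodule R M) := by
  let g : M →ₗ[R] M := (LinearMap.lsmul S M f).restrictScalars R
  refine ⟨fun h => red_of_injective g J hJ h, fun h x hx => ?_⟩
  simpa using key g ⊥ bot_le (fun y hy => by simpa using h y hy) J x hx

theorem flat_quotSMulTop [Module S M] [IsScalarTower R S M] [Module.Flat R M] {f : S} (hf : IsSMulRegular M f) :
    Module.Flat R (QuotSMulTop f M) := by
  let g : M →ₗ[R] M := (LinearMap.lsmul S M f).restrictScalars R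
  have h0 : ∀ x : M, f • x ∈ (⊥ : Ideal R) • (⊤ : Submodule R M) → x ∈ (⊥ : Ideal R) • (⊤ : Submodule R M) := by
    intro x hx
    rw [Submodule.bot_smul, Submodule.mem_bot] at hx ⊢
    exact hf.right_eq_zero_of_smul hx
  have hred := (regMod_iff f ⊥ bot_ne_top).1 h0
  refine flat_coker g ((f • (⊤ : Submodule S M)).mkQ.restrictScalars R) ?_ ?_ ?_
  · intro y
    constructor
    · intro hy
      have hy' : y ∈ f • (⊤ : Submodule S M) := (Submodule.Quotient.mk_eq_zero (f • (⊤ : Submodule S M)) (x := y)).1 hy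
      obtain ⟨x, -, hx⟩ := (Submodule.mem_smul_pointwise_iff_exists y f (⊤ : Submodule S M)).1 hy'
      exact ⟨x, hx⟩
    · rintro ⟨x, rfl⟩
      exact (Submodule.Quotient.mk_eq_zero (f • (⊤ : Submodule S M))).2 (Submodule.smul_mem_pointwise_smul x f ⊤ mem_top)
  · exact fun z => Submodule.mkQ_surjective (f • (⊤ : Submodule S M)) z
  · intro J x hx
    refine Submodule.mem_sup_right ?_
    have h1 : ∀ y, g y ∈ maximalIdeal R • (⊤ : Submodule R M) → y ∈ (⊥ : Submodule R M) ⊔ maximalIdeal R • ⊤ :=
      fun y hy => Submodule.mem_sup_right (hred y hy)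
    have h2 := key g ⊥ bot_le h1 J x hx
    rwa [bot_sup_eq] at h2

end Reg

end Groth.Agent.H15.ArtFlat
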