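import Groth.Agent.H15.ArtFlat
import Mathlib.RingTheory.Ideal.Quotient.Nilpotent

/-! Regular sequences on flat modules over an Artinian local ring and their reductions. -/

set_option autoImplicit false
set_option maxHeartbeats 400000
universe u v

namespace Groth.Agent.H15.ArtReg

open IsLocalRing Submodule RingTheory.Sequence Groth.Agent.H15.ArtFlat
open scoped Pointwise

variable {R : Type u} [CommRing R] [IsLocalRing R] [IsArtinianRing R] (I : Ideal R)
variable {S : Type v} [CommRing S] [Algebra R S]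

omit [IsLocalRing R] [IsArtinianRing R] in
theorem mem_K {M : Type v} [AddCommGroup M] [Module R M] [Module S M] [IsScalarTower R S M] (x : M) :
    x ∈ I.map (algebraMap R S) • (⊤ : Submodule S M) ↔ x ∈ I • (⊤ : Submodule R M) := by
  rw [← Submodule.restrictScalars_mem R, Ideal.smul_restrictScalars, Submodule.restrictScalars_top]

omit [IsLocalRing R] [IsArtinianRing R] in
theorem isSMulRegular_quot {M : Type v} [AddCommGroup M] [Module R M] [Module S M] [IsScalarTower R S M] (r : S) :
    IsSMulRegular (M ⧸ I.map (algebraMap R S) • (⊤ : Submodule S M)) r ↔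
      ∀ x : M, r • x ∈ I • (⊤ : Submodule R M) → x ∈ I • (⊤ : Submodule R M) := by
  rw [isSMulRegular_iff_right_eq_zero_of_smul]
  constructor
  · intro h x hx
    rw [← mem_K (S := S)] at hx ⊢
    rw [← Submodule.Quotient.mk_eq_zero] at hx ⊢
    exact h _ hx
  · intro h x hx
    obtain ⟨x, rfl⟩ := Submodule.Quotient.mk_surjective _ x
    rw [← Submodule.Quotient.mk_smul, Submodule.Quotient.mk_eq_zero, mem_K] at hx
    rw [Submodule.Quotient.mk_eq_zero, mem_K]
    exact h x hx

theorem isSMulRegular_iff (hI : I ≠ ⊤) {M : Type v} [AddCommGroup M] [Module R M] [Module S M]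
    [IsScalarTower R S M] [Module.Flat R M] (r : S) :
    IsSMulRegular M r ↔ IsSMulRegular (M ⧸ I.map (algebraMap R S) • (⊤ : Submodule S M)) r := by
  rw [isSMulRegular_quot, regMod_iff r I hI, ← regMod_iff (M := M) r ⊥ bot_ne_top,
    isSMulRegular_iff_right_eq_zero_of_smul]
  simp only [Submodule.bot_smul, Submodule.mem_bot]

/-- `(M ⧸ rM) ⧸ K ≅ (M ⧸ K) ⧸ r`. -/
noncomputable def quotComm {M : Type v} [AddCommGroup M] [Module S M] (r : S) (K : Ideal S) :
    (QuotSMulTop r M ⧸ (K • ⊤ : Submodule S (QuotSMulTop r M))) ≃ₗ[S] QuotSMulTop r (M ⧸ K • (⊤ : Submodule S M)) :=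
  Submodule.quotEquivOfEq _ _ (by rw [Submodule.map_smul'', Submodule.map_top, Submodule.range_mkQ]) ≪≫ₗ
    Submodule.quotientQuotientEquivQuotientSup (r • ⊤) (K • ⊤) ≪≫ₗ
    Submodule.quotEquivOfEq _ _ (sup_comm _ _) ≪≫ₗ
    (Submodule.quotientQuotientEquivQuotientSup (K • ⊤) (r • ⊤)).symm ≪≫ₗ
    Submodule.quotEquivOfEq _ _ (by rw [Submodule.map_pointwise_smul, Submodule.map_top, Submodule.range_mkQ])

theorem isWeaklyRegular_iff (hI : I ≠ ⊤) (rs : List S) :
    ∀ (M : Type v) [AddCommGroup M] [Module R M] [Module S M] [IsScalarTower R S M] [Module.Flat R M],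
      IsWeaklyRegular M rs ↔ IsWeaklyRegular (M ⧸ I.map (algebraMap R S) • (⊤ : Submodule S M)) rs := by
  induction rs with
  | nil => intros; exact iff_of_true (IsWeaklyRegular.nil S _) (IsWeaklyRegular.nil S _)
  | cons r rs ih =>
    intro M _ _ _ _ _
    rw [isWeaklyRegular_cons_iff, isWeaklyRegular_cons_iff, ← isSMulRegular_iff I hI]
    refine and_congr_right fun hr => ?_
    haveI := flat_quotSMulTop (R := R) hr
    rw [ih (QuotSMulTop r M)]
    exact (quotComm r _).isWeaklyRegular_congr rs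

theorem flat_quot_ofList (rs : List S) :
    ∀ (M : Type v) [AddCommGroup M] [Module R M] [Module S M] [IsScalarTower R S M] [Module.Flat R M],
      IsWeaklyRegular M rs → Module.Flat R (M ⧸ (Ideal.ofList rs • ⊤ : Submodule S M)) := by
  induction rs with
  | nil =>
    intro M _ _ _ _ _ _
    exact Module.Flat.of_linearEquiv
      ((Submodule.quotEquivOfEqBot _ (by rw [Ideal.ofList_nil, Submodule.bot_smul])).restrictScalars R)
  | cons r rs ih =>
    intro M _ _ _ _ _ h
    rw [isWeaklyRegular_cons_iff] at h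
    haveI := flat_quotSMulTop (R := R) h.1
    haveI := ih (QuotSMulTop r M) h.2
    exact Module.Flat.of_linearEquiv ((quotOfListConsSMulTopEquivQuotSMulTopInner M r rs).restrictScalars R)

theorem eq_top_of_sup_map_eq_top (hI : I ≠ ⊤) (L : Ideal S) (h : L ⊔ I.map (algebraMap R S) = ⊤) : L = ⊤ := by
  have hnil : IsNilpotent (I.map (algebraMap R S)) := by
    obtain ⟨n, hn⟩ := nilp (R := R)
    refine ⟨n, le_bot_iff.1 ?_⟩
    rw [← Ideal.map_pow]
    refine (Ideal.map_mono (Ideal.pow_right_mono (IsLocalRing.le_maximalIdeal hI) n)).trans ?_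
    rw [hn]; simp
  obtain ⟨l, hl, k, hk, hlk⟩ := Submodule.mem_sup.1 (h ▸ Submodule.mem_top : (1 : S) ∈ L ⊔ I.map (algebraMap R S))
  obtain ⟨n, hn⟩ := hnil
  have hkn : IsNilpotent k := ⟨n, by simpa [hn] using Ideal.pow_mem_pow hk n⟩
  exact L.eq_top_of_isUnit_mem hl (by rw [eq_sub_of_add_eq hlk]; exact hkn.isUnit_one_sub)

omit [IsLocalRing R] [IsArtinianRing R] in
/-- Transfer to a surjective image of `S` with kernel `I S`. -/
theorem transfer {T : Type*} [CommRing T] (π : S →+* T) (hπ : Function.Surjective π)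
    (hker : RingHom.ker π = I.map (algebraMap R S)) (rs : List S) :
    IsWeaklyRegular (S ⧸ I.map (algebraMap R S) • (⊤ : Submodule S S)) rs ↔ IsWeaklyRegular T (rs.map π) := by
  have hK : I.map (algebraMap R S) • (⊤ : Submodule S S) = RingHom.ker π := by
    rw [hker, smul_eq_mul, ← Ideal.one_eq_top, mul_one]
  let e : (S ⧸ I.map (algebraMap R S) • (⊤ : Submodule S S)) ≃+ T :=
    (Submodule.quotEquivOfEq _ (RingHom.ker π) hK).toAddEquiv.trans (RingHom.quotientKerEquivOfSurjective hπ).toAddEquiv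
  refine e.isWeaklyRegular_congr (List.forall₂_map_right_iff.2 (List.forall₂_same.2 fun r _ x => ?_))
  obtain ⟨x, rfl⟩ := Submodule.Quotient.mk_surjective _ x
  exact map_mul π r x

end Groth.Agent.H15.ArtReg
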