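import Groth.Agent.Lib.FlatCA.FiberMod
import Mathlib.RingTheory.Localization.BaseChange
import Mathlib.LinearAlgebra.TensorProduct.Quotient
import Mathlib.RingTheory.LocalRing.ResidueField.Ideal
import Mathlib.RingTheory.Flat.Basic

/-!
# Associated primes of fibre modules
-/

universe u

open TensorProduct

namespace Groth.Agent.H15.AssFib

theorem mem_ass_iff {S M : Type u} [CommRing S] [AddCommGroup M] [Module S M] {q : Ideal S} :
    q ∈ _root_.FlatCA.ass S M ↔ q.IsPrime ∧ ∃ m : M, ∀ s, s ∈ q ↔ s • m = 0 := by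
  refine and_congr_right fun _ => exists_congr fun m => ?_
  simp [SetLike.ext_iff, Submodule.mem_annihilator_span_singleton]

theorem ass_mono {S M M' : Type u} [CommRing S] [AddCommGroup M] [Module S M] [AddCommGroup M'] [Module S M']
    (f : M →ₗ[S] M') (hf : Function.Injective f) : _root_.FlatCA.ass S M ⊆ _root_.FlatCA.ass S M' := by
  intro q hq
  obtain ⟨hp, m, hm⟩ := mem_ass_iff.1 hq
  exact mem_ass_iff.2 ⟨hp, f m, fun s => by rw [hm, ← map_smul, map_eq_zero_iff f hf]⟩

theorem ass_congr {S M M' : Type u} [CommRing S] [AddCommGroup M] [Module S M] [AddCommGroup M'] [Module S M']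
    (e : M ≃ₗ[S] M') : _root_.FlatCA.ass S M = _root_.FlatCA.ass S M' :=
  (ass_mono e.toLinearMap e.injective).antisymm (ass_mono e.symm.toLinearMap e.symm.injective)

variable {R S : Type u} [CommRing R] [CommRing S] [Algebra R S] (N : Type u) [AddCommGroup N] [Module S N]
  [Module R N] [IsScalarTower R S N] (p : Ideal R)

theorem mem_map_smul_top_iff (n : N) :
    n ∈ (p.map (algebraMap R S)) • (⊤ : Submodule S N) ↔ n ∈ p • (⊤ : Submodule R N) := by
  conv_lhs => rw [← Submodule.restrictScalars_mem R]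
  rw [Ideal.smul_restrictScalars, Submodule.restrictScalars_top]

theorem tmul_one_eq_zero_iff (n : N) :
    n ⊗ₜ[R] (1 : R ⧸ p) = 0 ↔ n ∈ (p.map (algebraMap R S)) • (⊤ : Submodule S N) := by
  rw [mem_map_smul_top_iff, ← LinearEquiv.map_eq_zero_iff (TensorProduct.tensorQuotEquivQuotSMul N p),
    ← Submodule.Quotient.mk_eq_zero]
  simp [TensorProduct.tensorQuotEquivQuotSMul]

omit [Module S N] [IsScalarTower R S N] in
theorem exists_tmul_one (x : N ⊗[R] (R ⧸ p)) : ∃ n : N, x = n ⊗ₜ 1 := by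
  obtain ⟨n, hn⟩ := Submodule.Quotient.mk_surjective _ (TensorProduct.tensorQuotEquivQuotSMul N p x)
  refine ⟨n, (TensorProduct.tensorQuotEquivQuotSMul N p).injective ?_⟩
  rw [← hn]
  simp [TensorProduct.tensorQuotEquivQuotSMul]

omit [Module R N] [IsScalarTower R S N] in
theorem smul_mk_eq_zero_iff (s : S) (n : N) :
    s • (Submodule.Quotient.mk n : N ⧸ (p.map (algebraMap R S)) • (⊤ : Submodule S N)) = 0 ↔
      s • n ∈ (p.map (algebraMap R S)) • (⊤ : Submodule S N) := by
  rw [← Submodule.Quotient.mk_smul, Submodule.Quotient.mk_eq_zero]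

/-- `ass (N ⊗ R/p) = ass (N / pN)`. -/
theorem ass_quot_iff (q : Ideal S) :
    q ∈ _root_.FlatCA.ass S (N ⊗[R] (R ⧸ p)) ↔
      q ∈ _root_.FlatCA.ass S (N ⧸ (p.map (algebraMap R S)) • (⊤ : Submodule S N)) := by
  rw [mem_ass_iff, mem_ass_iff]
  refine and_congr_right fun _ => ⟨?_, ?_⟩
  · rintro ⟨x, hx⟩
    obtain ⟨n, rfl⟩ := exists_tmul_one N p x
    exact ⟨Submodule.Quotient.mk n, fun s => by
      rw [hx, TensorProduct.smul_tmul', tmul_one_eq_zero_iff (S := S), smul_mk_eq_zero_iff]⟩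
  · rintro ⟨x, hx⟩
    obtain ⟨n, rfl⟩ := Submodule.Quotient.mk_surjective _ x
    exact ⟨n ⊗ₜ 1, fun s => by
      rw [hx, TensorProduct.smul_tmul', tmul_one_eq_zero_iff (S := S), smul_mk_eq_zero_iff]⟩

variable [p.IsPrime]

/-- `R/p → κ(p)`. -/
noncomputable def toRes : (R ⧸ p) →ₗ[R] p.ResidueField :=
  (IsScalarTower.toAlgHom R (R ⧸ p) p.ResidueField).toLinearMap

theorem toRes_one : toRes p 1 = 1 := map_one (algebraMap (R ⧸ p) p.ResidueField)

instance : IsLocalizedModule p.primeCompl (toRes p) where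
  map_units t := by
    have h0 : algebraMap R p.ResidueField t ≠ 0 := fun h => t.2 (Ideal.algebraMap_residueField_eq_zero.1 h)
    rw [Module.End.isUnit_iff]
    show Function.Bijective fun c : p.ResidueField => (t : R) • c
    simp_rw [Algebra.smul_def]
    exact mulLeft_bijective₀ _ h0
  surj c := by
    obtain ⟨a, s, hs, rfl⟩ := IsFractionRing.div_surjective (A := R ⧸ p) c
    obtain ⟨a, rfl⟩ := Ideal.Quotient.mk_surjective a
    obtain ⟨s, rfl⟩ := Ideal.Quotient.mk_surjective s
    have hs' : s ∉ p := fun h =>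
      nonZeroDivisors.ne_zero hs (Ideal.Quotient.eq_zero_iff_mem.2 h)
    have h0 : algebraMap R p.ResidueField s ≠ 0 := fun h => hs' (Ideal.algebraMap_residueField_eq_zero.1 h)
    refine ⟨(Ideal.Quotient.mk p a, ⟨s, hs'⟩), ?_⟩
    show s • _ = algebraMap (R ⧸ p) p.ResidueField (Ideal.Quotient.mk p a)
    rw [Algebra.smul_def, ← Ideal.Quotient.algebraMap_eq, ← IsScalarTower.algebraMap_apply,
      ← IsScalarTower.algebraMap_apply, mul_div_cancel₀ _ h0]
  exists_of_eq {x y} h := ⟨1, by rw [IsFractionRing.injective (R ⧸ p) p.ResidueField h]⟩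

omit [Module S N] [IsScalarTower R S N] in
theorem loc : IsLocalizedModule p.primeCompl (AlgebraTensorModule.rTensor R N (toRes p)) := inferInstance

omit [Module S N] [IsScalarTower R S N] in
theorem surj (x : N ⊗[R] p.ResidueField) :
    ∃ t : R, t ∉ p ∧ ∃ n : N, t • x = n ⊗ₜ[R] (1 : p.ResidueField) := by
  haveI := loc N p
  obtain ⟨⟨y, t⟩, h⟩ := IsLocalizedModule.surj p.primeCompl (AlgebraTensorModule.rTensor R N (toRes p))
    (TensorProduct.comm R N _ x)
  obtain ⟨n, hn⟩ := exists_tmul_one N p (TensorProduct.comm R _ N y)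
  have hy : y = (1 : R ⧸ p) ⊗ₜ[R] n := (TensorProduct.comm R _ N).injective (by rw [hn]; rfl)
  refine ⟨t, t.2, n, (TensorProduct.comm R N _).injective ?_⟩
  rw [map_smul]
  change (t : R) • TensorProduct.comm R N p.ResidueField x = _
  have h' : (t : R) • TensorProduct.comm R N p.ResidueField x =
      AlgebraTensorModule.rTensor R N (toRes p) y := h
  rw [h', hy]
  simp [toRes_one]

theorem ker (n : N) : n ⊗ₜ[R] (1 : p.ResidueField) = 0 ↔
    ∃ t : R, t ∉ p ∧ t • n ∈ (p.map (algebraMap R S)) • (⊤ : Submodule S N) := by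
  haveI := loc N p
  rw [← LinearEquiv.map_eq_zero_iff (TensorProduct.comm R N _), TensorProduct.comm_tmul,
    ← toRes_one p, ← LinearMap.rTensor_tmul N (toRes p) n (1 : R ⧸ p)]
  show AlgebraTensorModule.rTensor R N (toRes p) ((1 : R ⧸ p) ⊗ₜ[R] n) = 0 ↔ _
  rw [IsLocalizedModule.eq_zero_iff p.primeCompl]
  constructor
  · rintro ⟨t, ht⟩
    refine ⟨t, t.2, (tmul_one_eq_zero_iff N p _).1 ?_⟩
    apply (TensorProduct.comm R _ _).injective
    rw [map_zero, TensorProduct.comm_tmul, TensorProduct.tmul_smul]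
    exact ht
  · rintro ⟨t, ht, h⟩
    refine ⟨⟨t, ht⟩, ?_⟩
    change t • ((1 : R ⧸ p) ⊗ₜ[R] n) = 0
    rw [← TensorProduct.tmul_smul]
    apply (TensorProduct.comm R _ _).injective
    rw [map_zero, TensorProduct.comm_tmul]
    exact (tmul_one_eq_zero_iff N p _).2 h

omit [Module S N] [IsScalarTower R S N] in
theorem smul_eq_zero_imp (x : N ⊗[R] p.ResidueField) {t : R} (ht : t ∉ p) (h : t • x = 0) : x = 0 := by
  haveI := loc N p
  apply (TensorProduct.comm R N _).injective
  rw [map_zero]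
  apply IsLocalizedModule.smul_injective (AlgebraTensorModule.rTensor R N (toRes p)) (⟨t, ht⟩ : p.primeCompl)
  change t • TensorProduct.comm R N p.ResidueField x = t • (0 : p.ResidueField ⊗[R] N)
  rw [← map_smul, h, map_zero, smul_zero]

theorem ass_fiberMod :
    _root_.FlatCA.ass S (_root_.FlatCA.fiberMod p S N) = _root_.FlatCA.ass S (N ⊗[R] p.ResidueField) :=
  ass_congr (Groth.Agent.Lib.FlatCA.FiberMod.fiberModEquiv p S N)

/-- Flatness: scalars outside `p` act injectively on `N/pN`. -/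
theorem mem_of_smul_mem [Module.Flat R N] (n : N) {t : R} (ht : t ∉ p)
    (h : t • n ∈ (p.map (algebraMap R S)) • (⊤ : Submodule S N)) :
    n ∈ (p.map (algebraMap R S)) • (⊤ : Submodule S N) := by
  rw [← tmul_one_eq_zero_iff] at h ⊢
  have hinj : Function.Injective (LinearMap.lsmul R (R ⧸ p) t) := by
    rw [← LinearMap.ker_eq_bot, eq_bot_iff]
    intro x hx
    obtain ⟨x, rfl⟩ := Ideal.Quotient.mk_surjective x
    have hx' : Ideal.Quotient.mk p (t * x) = 0 := by rw [← hx]; rfl
    exact Ideal.Quotient.eq_zero_iff_mem.2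
      ((‹p.IsPrime›.mem_or_mem (Ideal.Quotient.eq_zero_iff_mem.1 hx')).resolve_left ht)
  apply Module.Flat.lTensor_preserves_injective_linearMap (M := N) _ hinj
  rw [map_zero, LinearMap.lTensor_tmul, LinearMap.lsmul_apply, TensorProduct.tmul_smul, TensorProduct.smul_tmul']
  exact h

end Groth.Agent.H15.AssFib
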