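import Mathlib.Data.ZMod.Basic
import Mathlib.LinearAlgebra.BilinearForm.Basic
import Mathlib.LinearAlgebra.BilinearForm.Hom
import Mathlib.LinearAlgebra.Basis.Fin
import Mathlib.LinearAlgebra.FreeModule.PID
import Mathlib.LinearAlgebra.FreeModule.Finite.Basic
import Mathlib.LinearAlgebra.Dimension.Finrank
import Mathlib.RingTheory.PrincipalIdealDomain
import Mathlib.GroupTheory.SpecificGroups.Cyclic
import Mathlib.LinearAlgebra.BilinearForm.Properties
import Mathlib.RingTheory.Int.Basic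
import Mathlib.Algebra.EuclideanDomain.Int
import Mathlib.Tactic.LinearCombination

/-!
Lattice computation: the subgroup of `Hom(ℤ^r, ℤ/δ)` generated by boundary forms.
-/

namespace Groth.Agent.H15.BdryForms

variable {r δ : ℕ}

theorem exists_adapted_basis (d : Fin (r + 1) → ℤ) :
    ∃ B : Module.Basis (Fin (r + 1)) ℤ (Fin (r + 1) → ℤ), d = (Finset.univ.gcd d) • B 0 := by
  classical
  obtain ⟨v, hv, hv1⟩ := Finset.extract_gcd d (s := Finset.univ) Finset.univ_nonempty
  obtain ⟨c, hc⟩ := Finset.gcd_eq_sum_mul Finset.univ v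
  set f : (Fin (r + 1) → ℤ) →ₗ[ℤ] ℤ := ∑ i, c i • LinearMap.proj i with hf
  have hfv : f v = 1 := by
    rw [← hv1, hc]
    simp [hf, mul_comm]
  obtain ⟨m, b⟩ : Σ m, Module.Basis (Fin m) ℤ (LinearMap.ker f) := Module.basisOfFiniteTypeTorsionFree'
  have hli : ∀ (a : ℤ), ∀ x ∈ LinearMap.ker f, a • v + x = 0 → a = 0 := by
    intro a x hx h
    have := congrArg f h
    rw [map_add, map_smul, hfv, LinearMap.mem_ker.mp hx, map_zero, smul_eq_mul, mul_one, add_zero] at this
    exact this
  have hsp : ∀ z, ∃ a : ℤ, z + a • v ∈ LinearMap.ker f := fun z => ⟨-f z, by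
    rw [LinearMap.mem_ker, map_add, map_smul, hfv, smul_eq_mul, mul_one, add_neg_cancel]⟩
  set B := Module.Basis.mkFinCons v b hli hsp with hB
  have hm : m = r := by
    have := Module.finrank_eq_card_basis B
    rw [Module.finrank_fin_fun, Fintype.card_fin] at this
    omega
  subst hm
  refine ⟨B, ?_⟩
  rw [hB, Module.Basis.coe_mkFinCons, Fin.cons_zero]
  funext i
  exact hv i (Finset.mem_univ i)

theorem cast_quad_eq (g : ℤ) (hδ : (δ : ℤ) ∣ 2 * (g - 1)) (x : ℤ) :
    (((1 - g) * (x * x) : ℤ) : ZMod δ) = (((1 - g) * x : ℤ) : ZMod δ) := by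
  rw [ZMod.intCast_eq_intCast_iff_dvd_sub]
  obtain ⟨y, hy⟩ := Int.even_mul_pred_self x
  obtain ⟨q, hq⟩ := hδ
  exact ⟨q * y, by linear_combination (g - 1) * hy + y * hq⟩

theorem cast_two_eq (g : ℤ) (hδ : (δ : ℤ) ∣ 2 * (g - 1)) (x : ℤ) :
    (((1 - g) * (2 * x) : ℤ) : ZMod δ) = 0 := by
  rw [ZMod.intCast_zmod_eq_zero_iff_dvd]
  exact hδ.trans ⟨-x, by ring⟩

/-- The boundary forms. -/
def gens (δ : ℕ) (g : ℤ) (d : Fin (r + 1) → ℤ) : Set ((Fin (r + 1) → ℤ) →+ ZMod δ) :=
  {φ | ∃ b : LinearMap.BilinForm ℤ (Fin (r + 1) → ℤ), b.IsSymm ∧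
      ∀ x, φ x = ((b d x + (1 - g) * b x x : ℤ) : ZMod δ)}

theorem mem_zmultiples_cast {δ : ℕ} (a z : ℤ) :
    (z : ZMod δ) ∈ AddSubgroup.zmultiples (a : ZMod δ) ↔ (Int.gcd δ a : ℤ) ∣ z := by
  constructor
  · intro h
    obtain ⟨t, ht⟩ := AddSubgroup.mem_zmultiples_iff.mp h
    rw [zsmul_eq_mul, ← Int.cast_mul, ZMod.intCast_eq_intCast_iff_dvd_sub] at ht
    have := (Int.gcd_dvd_left _ _ : (Int.gcd δ a : ℤ) ∣ δ).trans ht
    have h2 : (Int.gcd δ a : ℤ) ∣ t * a := (Int.gcd_dvd_right _ _).mul_left t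
    simpa using dvd_add this h2
  · rintro ⟨q, rfl⟩
    refine AddSubgroup.mem_zmultiples_iff.mpr ⟨Int.gcdB δ a * q, ?_⟩
    rw [zsmul_eq_mul, Int.gcd_eq_gcd_ab]
    push_cast
    rw [ZMod.natCast_self]
    ring

variable (B : Module.Basis (Fin (r + 1)) ℤ (Fin (r + 1) → ℤ))

/-- Values on a basis. -/
noncomputable def values : ((Fin (r + 1) → ℤ) →+ ZMod δ) ≃+ (Fin (r + 1) → ZMod δ) where
  toFun φ i := φ (B i)
  invFun v := (B.constr ℤ v).toAddMonoidHom
  left_inv φ := by
    have : B.constr ℤ (fun i => φ (B i)) = φ.toIntLinearMap := B.ext fun i => by simp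
    ext x
    simp [this]
  right_inv v := by funext i; simp
  map_add' φ ψ := by funext i; simp

theorem values_symm_apply (v : Fin (r + 1) → ZMod δ) (i : Fin (r + 1)) :
    ((values B).symm v : (Fin (r + 1) → ℤ) →+ ZMod δ) (B i) = v i :=
  congrFun ((values B).apply_symm_apply v) i

/-- The coordinatewise target of the boundary forms. -/
def target (δ : ℕ) (g D : ℤ) (i : Fin (r + 1)) : AddSubgroup (ZMod δ) :=
  AddSubgroup.zmultiples ((if i = 0 then D + 1 - g else (Int.gcd (g - 1) D : ℤ)) : ℤ)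

theorem mem_closure_gens_iff (g : ℤ) (hδ : (δ : ℤ) ∣ 2 * (g - 1)) (d : Fin (r + 1) → ℤ) (D : ℤ)
    (hd : d = D • B 0) (φ : (Fin (r + 1) → ℤ) →+ ZMod δ) :
    φ ∈ AddSubgroup.closure (gens δ g d) ↔ ∀ i, φ (B i) ∈ target δ g D i := by
  classical
  constructor
  · intro h i
    have : AddSubgroup.closure (gens δ g d) ≤ (target δ g D i).comap (AddMonoidHom.eval (B i)) := by
      rw [AddSubgroup.closure_le]
      rintro ψ ⟨b, hb, hψ⟩
      show ψ (B i) ∈ target δ g D i
      rw [hψ, hd, map_smul, LinearMap.smul_apply, smul_eq_mul]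
      simp only [target]
      split_ifs with h
      · subst h
        exact (mem_zmultiples_cast _ _).mpr ((Int.gcd_dvd_right _ _).trans ⟨b (B 0) (B 0), by ring⟩)
      · refine (mem_zmultiples_cast _ _).mpr ((Int.gcd_dvd_right _ _).trans ?_)
        exact dvd_add (dvd_mul_of_dvd_left (Int.gcd_dvd_right _ _) _)
          (dvd_mul_of_dvd_left (dvd_sub_comm.mp (Int.gcd_dvd_left _ _)) _)
    exact this h
  · intro h
    -- the elementary forms
    have hel : ∀ (i : Fin (r + 1)) (a : ℤ) (b : LinearMap.BilinForm ℤ (Fin (r + 1) → ℤ)), b.IsSymm →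
        (∀ x, ((b d x + (1 - g) * b x x : ℤ) : ZMod δ) = ((a * B.repr x i : ℤ) : ZMod δ)) →
        (values B).symm (Pi.single i (a : ZMod δ)) ∈ AddSubgroup.closure (gens δ g d) := by
      intro i a b hb hab
      refine AddSubgroup.subset_closure ⟨b, hb, fun x => ?_⟩
      rw [hab]
      show B.constr ℤ (Pi.single i (a : ZMod δ)) x = _
      rw [Module.Basis.constr_apply_fintype (S := ℤ), Finset.sum_eq_single i (fun j _ hj => by simp [hj]) (fun hh => absurd (Finset.mem_univ i) hh)]
      simp [mul_comm]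
    let c : Fin (r + 1) → (Fin (r + 1) → ℤ) →ₗ[ℤ] ℤ := fun i => B.coord i
    let b2 : Fin (r + 1) → Fin (r + 1) → LinearMap.BilinForm ℤ (Fin (r + 1) → ℤ) := fun i j =>
      LinearMap.mk₂ ℤ (fun x y => c i x * c j y) (fun _ _ _ => by simp [add_mul]) (fun a x y => by rw [map_smul, smul_eq_mul, smul_eq_mul, mul_assoc])
        (fun _ _ _ => by simp [mul_add]) (fun a x y => by rw [map_smul, smul_eq_mul, smul_eq_mul, mul_left_comm])
    have hc : ∀ i, c i d = if i = 0 then D else 0 := fun i => by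
      simp only [c, hd, map_smul, Module.Basis.coord_apply, B.repr_self, smul_eq_mul, Finsupp.single_apply]
      by_cases hi : i = 0 <;> simp [hi, eq_comm]
    -- each coordinate
    have key : ∀ i, ∀ z ∈ target δ g D i, (values B).symm (Pi.single i z) ∈ AddSubgroup.closure (gens δ g d) := by
      intro i z hz
      obtain ⟨t, rfl⟩ := AddSubgroup.mem_zmultiples_iff.mp hz
      rw [Pi.single_zsmul, map_zsmul]
      refine AddSubgroup.zsmul_mem _ ?_ t
      split_ifs with hi
      · subst hi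
        refine hel 0 (D + 1 - g) (b2 0 0) ⟨fun x y => by simp [b2, mul_comm]⟩ fun x => ?_
        simp only [b2, LinearMap.mk₂_apply, hc, if_true]
        rw [Int.cast_add, cast_quad_eq g hδ, ← Int.cast_add]
        congr 1
        simp only [c, Module.Basis.coord_apply]
        ring
      · have h1 : (values B).symm (Pi.single i (((1 - g : ℤ)) : ZMod δ)) ∈ AddSubgroup.closure (gens δ g d) := by
          refine hel i (1 - g) (b2 i i) ⟨fun x y => by simp [b2, mul_comm]⟩ fun x => ?_
          simp only [b2, LinearMap.mk₂_apply, hc, if_neg hi, zero_mul, zero_add]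
          rw [cast_quad_eq g hδ]
          rfl
        have h2 : (values B).symm (Pi.single i ((D : ℤ) : ZMod δ)) ∈ AddSubgroup.closure (gens δ g d) := by
          refine hel i D (b2 0 i + b2 i 0) ⟨fun x y => by simp [b2, mul_comm, add_comm]⟩ fun x => ?_
          simp only [b2, LinearMap.add_apply, LinearMap.mk₂_apply, hc, if_neg hi, if_true, zero_mul, add_zero]
          rw [show c 0 x * c i x + c i x * c 0 x = 2 * (c 0 x * c i x) by ring, Int.cast_add,
            cast_two_eq g hδ, add_zero]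
          rfl
        rw [show ((Int.gcd (g - 1) D : ℤ) : ZMod δ) =
            (-Int.gcdA (g - 1) D) • ((1 - g : ℤ) : ZMod δ) + Int.gcdB (g - 1) D • (D : ZMod δ) by
          rw [Int.gcd_eq_gcd_ab, zsmul_eq_mul, zsmul_eq_mul]; push_cast; ring,
          Pi.single_add, Pi.single_zsmul, Pi.single_zsmul, map_add, map_zsmul, map_zsmul]
        exact add_mem (AddSubgroup.zsmul_mem _ h1 _) (AddSubgroup.zsmul_mem _ h2 _)
    rw [← (values B).symm_apply_apply φ, ← Finset.univ_sum_single (values B φ), map_sum]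
    exact AddSubgroup.sum_mem _ fun i _ => key i _ (h i)

/-- The quotient. -/
theorem quotient_equiv (g : ℤ) (hδ : (δ : ℤ) ∣ 2 * (g - 1)) (d : Fin (r + 1) → ℤ) :
    Nonempty ((((Fin (r + 1) → ℤ) →+ ZMod δ) ⧸ AddSubgroup.closure (gens δ g d)) ≃+
      (ZMod (Int.gcd δ (Finset.univ.gcd d + 1 - g)) ×
        (Fin r → ZMod (Int.gcd δ (Int.gcd (g - 1) (Finset.univ.gcd d)))))) := by
  classical
  obtain ⟨B, hd⟩ := exists_adapted_basis d
  set D := Finset.univ.gcd d
  set a := Int.gcd δ (D + 1 - g)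
  set c := Int.gcd δ (Int.gcd (g - 1) D)
  have hadvd : a ∣ δ := Int.natCast_dvd_natCast.mp (Int.gcd_dvd_left _ _)
  have hcdvd : c ∣ δ := Int.natCast_dvd_natCast.mp (Int.gcd_dvd_left _ _)
  let F : ((Fin (r + 1) → ℤ) →+ ZMod δ) →+ ZMod a × (Fin r → ZMod c) :=
    { toFun := fun φ => (ZMod.castHom hadvd _ (φ (B 0)), fun i => ZMod.castHom hcdvd _ (φ (B i.succ)))
      map_zero' := by
        ext <;> simp
      map_add' := fun φ ψ => Prod.ext
        (show ZMod.castHom hadvd (ZMod a) _ = ZMod.castHom hadvd (ZMod a) _ + ZMod.castHom hadvd (ZMod a) _ by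
          rw [AddMonoidHom.add_apply, map_add])
        (funext fun i => show ZMod.castHom hcdvd (ZMod c) _ = ZMod.castHom hcdvd (ZMod c) _ + ZMod.castHom hcdvd (ZMod c) _ by
          rw [AddMonoidHom.add_apply, map_add]) }
  have hF : Function.Surjective F := by
    rintro ⟨x, y⟩
    obtain ⟨x', rfl⟩ := ZMod.castHom_surjective hadvd x
    choose y' hy' using fun i => ZMod.castHom_surjective hcdvd (y i)
    refine ⟨(values B).symm (Fin.cons x' y'), ?_⟩
    refine Prod.ext ?_ (funext fun i => ?_)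
    · show ZMod.castHom hadvd (ZMod a) _ = _
      rw [values_symm_apply, Fin.cons_zero]
    · show ZMod.castHom hcdvd (ZMod c) _ = _
      rw [values_symm_apply, Fin.cons_succ]
      exact hy' i
  have hker : F.ker = AddSubgroup.closure (gens δ g d) := by
    ext φ
    rw [AddMonoidHom.mem_ker, mem_closure_gens_iff B g hδ d D hd, Fin.forall_fin_succ]
    simp only [F, AddMonoidHom.coe_mk, ZeroHom.coe_mk, Prod.ext_iff, Prod.fst_zero, Prod.snd_zero, funext_iff,
      Pi.zero_apply, target, if_true, Fin.succ_ne_zero, if_false]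
    refine and_congr ?_ (forall_congr' fun i => ?_)
    · obtain ⟨z, hz⟩ := ZMod.intCast_surjective (φ (B 0))
      rw [← hz, map_intCast, ZMod.intCast_zmod_eq_zero_iff_dvd, mem_zmultiples_cast]
    · obtain ⟨z, hz⟩ := ZMod.intCast_surjective (φ (B i.succ))
      rw [← hz, map_intCast, ZMod.intCast_zmod_eq_zero_iff_dvd, mem_zmultiples_cast]
  exact ⟨(QuotientAddGroup.quotientAddEquivOfEq hker.symm).trans (QuotientAddGroup.quotientKerEquivOfSurjective F hF)⟩

theorem zmultiples_equiv (hδ0 : 0 < δ) (a : ℤ) :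
    Nonempty (AddSubgroup.zmultiples (a : ZMod δ) ≃+ ZMod (δ / Int.gcd δ a)) := by
  have h1 : AddSubgroup.zmultiples (a : ZMod δ) = AddSubgroup.zmultiples ((Int.gcd δ a : ℕ) : ZMod δ) := by
    apply le_antisymm <;> rw [AddSubgroup.zmultiples_le]
    · have := (mem_zmultiples_cast (δ := δ) (Int.gcd δ a : ℤ) a).mpr ?_
      · simpa using this
      · exact (Int.gcd_dvd_right _ _).trans (Int.gcd_dvd_right _ _)
    · rw [← Int.cast_natCast]
      exact (mem_zmultiples_cast _ _).mpr dvd_rfl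
  have h2 : Nat.card (AddSubgroup.zmultiples (a : ZMod δ)) = δ / Int.gcd δ a := by
    rw [h1, Nat.card_zmultiples, ZMod.addOrderOf_coe _ hδ0.ne',
      Nat.gcd_eq_right (Int.natCast_dvd_natCast.mp (Int.gcd_dvd_left _ _))]
  rw [← h2]
  exact ⟨(zmodAddCyclicAddEquiv inferInstance).symm⟩

/-- The subgroup itself. -/
theorem closure_equiv (hδ0 : 0 < δ) (g : ℤ) (hδ : (δ : ℤ) ∣ 2 * (g - 1)) (d : Fin (r + 1) → ℤ) :
    Nonempty (AddSubgroup.closure (gens δ g d) ≃+
      (ZMod (δ / Int.gcd δ (Finset.univ.gcd d + 1 - g)) ×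
        (Fin r → ZMod (δ / Int.gcd δ (Int.gcd (g - 1) (Finset.univ.gcd d)))))) := by
  classical
  obtain ⟨B, hd⟩ := exists_adapted_basis d
  set D := Finset.univ.gcd d
  obtain ⟨e0⟩ := zmultiples_equiv hδ0 (D + 1 - g)
  obtain ⟨e1⟩ := zmultiples_equiv hδ0 (Int.gcd (g - 1) D : ℤ)
  have hiff := mem_closure_gens_iff B g hδ d D hd
  let G : AddSubgroup.closure (gens δ g d) ≃+
      (AddSubgroup.zmultiples ((D + 1 - g : ℤ) : ZMod δ) ×
        (Fin r → AddSubgroup.zmultiples (((Int.gcd (g - 1) D : ℤ)) : ZMod δ))) :=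
    { toFun := fun φ => (⟨φ.1 (B 0), by simpa [target] using (hiff φ.1).mp φ.2 0⟩,
        fun i => ⟨φ.1 (B i.succ), by simpa [target, Fin.succ_ne_zero] using (hiff φ.1).mp φ.2 i.succ⟩)
      invFun := fun p => ⟨(values B).symm (Fin.cons p.1.1 fun i => (p.2 i).1), (hiff _).mpr fun i => by
        rw [values_symm_apply]
        induction i using Fin.cases with
        | zero => simpa [target] using p.1.2
        | succ i => simpa [target, Fin.succ_ne_zero] using (p.2 i).2⟩
      left_inv := fun φ => by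
        apply Subtype.ext
        simp only
        rw [AddEquiv.symm_apply_eq]
        funext i
        induction i using Fin.cases with
        | zero => rfl
        | succ i => rfl
      right_inv := fun p => by
        refine Prod.ext (Subtype.ext ?_) (funext fun i => Subtype.ext ?_)
        · simp [values_symm_apply]
        · simp [values_symm_apply]
      map_add' := fun φ ψ => by
        ext <;> simp }
  exact ⟨G.trans (e0.prodCongr (AddEquiv.piCongrRight fun _ => e1))⟩

end Groth.Agent.H15.BdryForms
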