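import Groth.Agent.H20.CMRegular
import Groth.Agent.H25.CMUnmixed
import Mathlib.RingTheory.MvPolynomial.Homogeneous
import Mathlib.RingTheory.RegularLocalRing.Polynomial
import Mathlib.RingTheory.MvPolynomial.WeightedHomogeneous
import Mathlib.RingTheory.GradedAlgebra.Homogeneous.Ideal
import Mathlib.Data.Finsupp.Multiset
import Mathlib.Data.Sym.Card
import Mathlib.RingTheory.Ideal.Height
import Mathlib.RingTheory.Localization.AtPrime.Basic

/-!
# The Hilbert function of a homogeneous complete intersection of points
-/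

set_option autoImplicit false

noncomputable section

universe u

namespace Groth.Agent.H15.BezoutHilbert

open MvPolynomial RingTheory.Sequence

attribute [local instance] MvPolynomial.gradedAlgebra

section Comb

/-- The Hilbert function predicted by successive differences. -/
def F : List ℕ → ℕ → ℕ → ℕ
  | [], r, m => (m + r).choose r
  | d :: ds, r, m => ∑ a ∈ Finset.range d, F ds r (m - a)

theorem F_succ : ∀ (ds : List ℕ) (r x : ℕ), ds.sum ≤ x →
    F ds r (x + 1) + F ds (r + 1) x = F ds (r + 1) (x + 1)
  | [], r, x, _ => by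
    simp only [F]
    rw [show x + (r + 1) = x + 1 + r by omega, show x + 1 + (r + 1) = (x + 1 + r) + 1 by omega,
      Nat.choose_succ_succ']
  | d :: ds, r, x, h => by
    simp only [F, ← Finset.sum_add_distrib]
    refine Finset.sum_congr rfl fun a ha => ?_
    rw [Finset.mem_range] at ha
    rw [List.sum_cons] at h
    rw [show x + 1 - a = x - a + 1 by omega]
    exact F_succ ds r _ (by omega)

theorem F_telescope (ds : List ℕ) (r : ℕ) : ∀ (d m : ℕ), d + ds.sum ≤ m →
    F ds (r + 1) m = F ds (r + 1) (m - d) + F (d :: ds) r m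
  | 0, m, _ => by simp [F]
  | d + 1, m, h => by
    have h1 := F_telescope ds r d m (by omega)
    have h2 := F_succ ds r (m - (d + 1)) (by omega)
    rw [show m - (d + 1) + 1 = m - d by omega] at h2
    simp only [F, Finset.sum_range_succ] at h1 ⊢
    omega

theorem F_zero : ∀ (ds : List ℕ) (m : ℕ), F ds 0 m = ds.prod
  | [], m => by simp [F]
  | d :: ds, m => by simp [F, F_zero ds]

end Comb

variable {k : Type u} [Field k] {n : ℕ}

local notation "P" => MvPolynomial (Fin (n + 1)) k

theorem component_mul {f : P} {d : ℕ} (hf : f.IsHomogeneous d) (a : P) (m : ℕ) :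
    homogeneousComponent m (a * f) = if d ≤ m then homogeneousComponent (m - d) a * f else 0 := by
  conv_lhs => rw [← sum_homogeneousComponent a, Finset.sum_mul, map_sum]
  have hterm : ∀ i, homogeneousComponent m (homogeneousComponent i a * f) =
      if m = i + d then homogeneousComponent i a * f else 0 := fun i =>
    homogeneousComponent_of_mem ((homogeneousComponent_isHomogeneous i a).mul hf)
  simp only [hterm]
  split
  · rename_i hdm
    rw [Finset.sum_eq_single (m - d)]
    · rw [if_pos (by omega)]
    · intro i _ hne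
      rw [if_neg (by omega)]
    · intro hmem
      rw [Finset.mem_range] at hmem
      rw [homogeneousComponent_eq_zero _ _ (by omega), zero_mul, ite_self]
  · exact Finset.sum_eq_zero fun i _ => if_neg (by omega)

theorem saturated {J : Ideal P} (hJ : J.IsHomogeneous (homogeneousSubmodule (Fin (n + 1)) k))
    {s g : P} (hs : constantCoeff s ≠ 0) (h : s * g ∈ J) : g ∈ J := by
  rw [← sum_homogeneousComponent g]
  refine sum_mem fun j _ => ?_
  rename_i hj0
  clear hj0
  induction j using Nat.strong_induction_on with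
  | _ j ih =>
    have hmem : homogeneousComponent j (s * g) ∈ J := homogeneousComponent_mem_of_mem hJ h j
    conv at hmem => rw [← sum_homogeneousComponent g, Finset.mul_sum, map_sum]
    have hterm : ∀ i, homogeneousComponent j (s * homogeneousComponent i g) =
        if i ≤ j then homogeneousComponent (j - i) s * homogeneousComponent i g else 0 := fun i =>
      component_mul (homogeneousComponent_isHomogeneous i g) s j
    simp only [hterm] at hmem
    by_cases hj : j ∈ Finset.range (g.totalDegree + 1)
    · rw [← Finset.add_sum_erase _ _ hj, if_pos le_rfl, Nat.sub_self, homogeneousComponent_zero] at hmem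
      have hrest : ∑ i ∈ (Finset.range (g.totalDegree + 1)).erase j,
          (if i ≤ j then homogeneousComponent (j - i) s * homogeneousComponent i g else 0) ∈ J := by
        refine sum_mem fun i hi => ?_
        split
        · exact J.mul_mem_left _ (ih i (lt_of_le_of_ne ‹_› (Finset.mem_erase.1 hi).1))
        · exact J.zero_mem
      have h1 := (J.add_mem_iff_left hrest).1 hmem
      have h2 := J.mul_mem_left (C (constantCoeff s)⁻¹) h1
      rwa [← mul_assoc, ← map_mul, ← constantCoeff_eq, inv_mul_cancel₀ hs, map_one, one_mul] at h2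
    · rw [Finset.mem_range] at hj
      rw [homogeneousComponent_eq_zero _ _ (by omega)]
      exact J.zero_mem

theorem finrank_homogeneous (m : ℕ) :
    Module.finrank k ↥(homogeneousSubmodule (Fin (n + 1)) k m) = (m + n).choose n := by
  classical
  let e := ((Sym.equivNatSumOfFintype (Fin (n + 1)) m).trans
    ((Finsupp.equivFunOnFinite (α := Fin (n + 1)) (M := ℕ)).symm.subtypeEquiv
      (p := fun f => ∑ i, f i = m) (q := fun β => β.degree = m) fun f => by
        simp [Finsupp.degree_eq_sum]))
  rw [homogeneousSubmodule_eq_finsupp_supported]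
  show Module.finrank k ↥(restrictSupport k {d : Fin (n + 1) →₀ ℕ | d.degree = m}) = _
  rw [Module.finrank_eq_nat_card_basis (basisRestrictSupport k _)]
  show Nat.card {β : Fin (n + 1) →₀ ℕ // β.degree = m} = _
  rw [← Nat.card_congr e, Nat.card_eq_fintype_card, Sym.card_sym_eq_multichoose, Fintype.card_fin,
    Nat.multichoose_eq]
  rw [show n + 1 + m - 1 = n + m by omega, add_comm m n]
  exact Nat.choose_symm_add.symm

/-- The dimension of the degree `m` part of an ideal. -/
def idim (J : Ideal P) (m : ℕ) : ℕ :=
  Module.finrank k ↥(J.restrictScalars k ⊓ homogeneousSubmodule (Fin (n + 1)) k m)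

theorem idim_step {J : Ideal P} (hJ : J.IsHomogeneous (homogeneousSubmodule (Fin (n + 1)) k))
    {f : P} {d : ℕ} (hf : f.IsHomogeneous d) (hreg : ∀ g : P, g * f ∈ J → g ∈ J) {m : ℕ} (hm : d ≤ m) :
    idim (J ⊔ Ideal.span {f}) m + idim J (m - d) = idim J m + (m - d + n).choose n := by
  have hfin : ∀ j, Module.Finite k ↥(homogeneousSubmodule (Fin (n + 1)) k j) := fun j =>
    Module.Finite.iff_fg.2 (homogeneousSubmodule_fg _ _ j)
  set A := J.restrictScalars k ⊓ homogeneousSubmodule (Fin (n + 1)) k m with hA
  set B := (J ⊔ Ideal.span {f}).restrictScalars k ⊓ homogeneousSubmodule (Fin (n + 1)) k m with hB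
  have hAB : A ≤ B := fun x hx => ⟨Ideal.mem_sup_left hx.1, hx.2⟩
  have : Module.Finite k ↥B := Submodule.finiteDimensional_of_le inf_le_right
  let φ : ↥(homogeneousSubmodule (Fin (n + 1)) k (m - d)) →ₗ[k] ↥B :=
    ((LinearMap.mulRight k f).comp (Submodule.subtype _)).codRestrict B fun a =>
      ⟨Ideal.mem_sup_right (Ideal.mem_span_singleton.2 ⟨a, mul_comm _ _⟩), by
        have := (a.2 : (a : P).IsHomogeneous (m - d)).mul hf
        rwa [Nat.sub_add_cancel hm] at this⟩
  let Φ := (A.submoduleOf B).mkQ ∘ₗ φ
  have hsurj : Function.Surjective Φ := by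
    intro z
    obtain ⟨⟨b, hb1, hb2⟩, rfl⟩ := Submodule.Quotient.mk_surjective _ z
    obtain ⟨j, hj, t, ht, rfl⟩ := Submodule.mem_sup.1 hb1
    obtain ⟨a, rfl⟩ := Ideal.mem_span_singleton'.1 ht
    refine ⟨⟨homogeneousComponent (m - d) a, homogeneousComponent_mem _ _⟩, ?_⟩
    refine (Submodule.Quotient.eq _).2 ?_
    have e := homogeneousComponent_eq_self (p := j + a * f) hb2
    rw [map_add, component_mul hf, if_pos hm] at e
    show homogeneousComponent (m - d) a * f - (j + a * f) ∈ A
    rw [← e]
    refine ⟨?_, ?_⟩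
    · show _ ∈ J
      rw [show homogeneousComponent (m - d) a * f -
          (homogeneousComponent m j + homogeneousComponent (m - d) a * f) = -homogeneousComponent m j by ring]
      exact neg_mem (homogeneousComponent_mem_of_mem hJ hj m)
    · rw [show homogeneousComponent (m - d) a * f -
          (homogeneousComponent m j + homogeneousComponent (m - d) a * f) = -homogeneousComponent m j by ring]
      exact neg_mem (homogeneousComponent_mem m j)
  have hker : LinearMap.ker Φ =
      (J.restrictScalars k ⊓ homogeneousSubmodule (Fin (n + 1)) k (m - d)).submoduleOf _ := by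
    ext a
    rw [LinearMap.mem_ker]
    constructor
    · intro ha
      have hmem : (a : P) * f ∈ A := (Submodule.Quotient.mk_eq_zero (A.submoduleOf B) (x := φ a)).1 ha
      exact ⟨hreg _ hmem.1, a.2⟩
    · intro ha
      refine (Submodule.Quotient.mk_eq_zero (A.submoduleOf B) (x := φ a)).2 ⟨J.mul_mem_right f ha.1, ?_⟩
      exact (φ a).2.2
  have h1 := LinearMap.finrank_range_add_finrank_ker Φ
  rw [LinearMap.range_eq_top.2 hsurj, finrank_top, hker,
    (Submodule.submoduleOfEquivOfLe inf_le_right).finrank_eq, finrank_homogeneous] at h1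
  have h2 := Submodule.finrank_quotient_add_finrank (A.submoduleOf B)
  rw [(Submodule.submoduleOfEquivOfLe hAB).finrank_eq] at h2
  show Module.finrank k ↥B + idim J (m - d) = Module.finrank k ↥A + _
  simp only [idim] at h1 ⊢
  omega

/-- The irrelevant maximal ideal. -/
abbrev irr (k : Type u) [Field k] (n : ℕ) : Ideal (MvPolynomial (Fin (n + 1)) k) :=
  RingHom.ker (constantCoeff : MvPolynomial (Fin (n + 1)) k →+* k)

instance irr_isMaximal (k : Type u) [Field k] (n : ℕ) : (irr k n).IsMaximal :=
  RingHom.ker_isMaximal_of_surjective _ fun x => ⟨C x, constantCoeff_C _ x⟩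

theorem le_height_irr : ((n + 1 : ℕ) : ℕ∞) ≤ (irr k n).height := by
  classical
  let φ : ℕ → (P →ₐ[k] P) := fun i => aeval fun j : Fin (n + 1) => if (j : ℕ) < i then 0 else X j
  have hprime : ∀ i, (RingHom.ker (φ i).toRingHom).IsPrime := fun i => RingHom.ker_isPrime _
  have hcc : ∀ i, (constantCoeff.comp (φ i).toRingHom : P →+* k) = constantCoeff := fun i => by
    refine MvPolynomial.ringHom_ext (fun r => by simp [φ]) fun j => ?_
    simp only [φ, RingHom.comp_apply, AlgHom.toRingHom_eq_coe, RingHom.coe_coe, aeval_X]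
    split <;> simp
  let s : LTSeries (PrimeSpectrum P) :=
    ⟨n + 1, fun i => ⟨RingHom.ker (φ i).toRingHom, hprime i⟩, fun i => by
      show (⟨RingHom.ker (φ _).toRingHom, hprime _⟩ : PrimeSpectrum P) < ⟨RingHom.ker (φ _).toRingHom, hprime _⟩
      rw [← PrimeSpectrum.asIdeal_lt_asIdeal]
      refine lt_of_le_of_ne (fun p hp => ?_) fun h => ?_
      · rw [RingHom.mem_ker] at hp ⊢
        have hc : (φ ((i.succ : Fin (n + 2)) : ℕ)).comp (φ ((i.castSucc : Fin (n + 2)) : ℕ)) = φ ((i.succ : Fin (n + 2)) : ℕ) := by
          refine MvPolynomial.algHom_ext fun j => ?_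
          simp only [φ, AlgHom.comp_apply, aeval_X, Fin.coe_castSucc, Fin.val_succ]
          by_cases hj : (j : ℕ) < (i : ℕ)
          · rw [if_pos hj, map_zero, if_pos (by omega)]
          · rw [if_neg hj, aeval_X]
        show φ _ p = 0
        rw [← hc, AlgHom.comp_apply, show φ _ p = 0 from hp, map_zero]
      · have hX : (X i : P) ∈ RingHom.ker (φ ((i.succ : Fin (n + 2)) : ℕ)).toRingHom := by
          simp [φ, RingHom.mem_ker]
        simp only at h
        rw [← h] at hX
        simp [φ, RingHom.mem_ker] at hX⟩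
  have hlast : s.last ≤ (⟨irr k n, (irr_isMaximal k n).isPrime⟩ : PrimeSpectrum P) := by
    rw [← PrimeSpectrum.asIdeal_le_asIdeal]
    intro p hp
    show constantCoeff p = 0
    rw [← hcc (((Fin.last (n + 1)) : Fin (n + 2)) : ℕ), RingHom.comp_apply,
      show (φ _).toRingHom p = 0 from hp, map_zero]
  have := Order.length_le_height hlast
  exact this.trans_eq (PrimeSpectrum.height_eq_orderHeight _).symm

theorem regular_step (f : Fin n → P) (d : Fin n → ℕ) (hd : ∀ i, 1 ≤ d i) (hf : ∀ i, (f i).IsHomogeneous (d i))
    (hdim : ringKrullDim (P ⧸ Ideal.span (Set.range f)) ≤ 1) (i : Fin n) (g : P)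
    (hg : g * f i ∈ Ideal.span (f '' {j | j < i})) : g ∈ Ideal.span (f '' {j | j < i}) := by
  classical
  let S := Localization.AtPrime (irr k n)
  have hcm : LocCoh.IsCohenMacaulayLocalRing S :=
    Groth.Agent.H25.CMUnmixed.isCohenMacaulayLocalRing_of_regular S
  let rs : List S := List.ofFn fun j => algebraMap P S (f j)
  have hfm : ∀ j, f j ∈ irr k n := fun j => by
    rw [RingHom.mem_ker, constantCoeff_eq]
    refine (hf j).coeff_eq_zero ?_
    rw [map_zero]
    have := hd j
    omega
  have hmem : ∀ r ∈ rs, r ∈ IsLocalRing.maximalIdeal S := fun r hr => by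
    obtain ⟨j, rfl⟩ := List.mem_ofFn.1 hr
    rw [← Localization.AtPrime.map_eq_maximalIdeal]
    exact Ideal.mem_map_of_mem _ (hfm j)
  set J := Ideal.span (Set.range f) with hJ
  have hofList : Ideal.ofList rs = J.map (algebraMap P S) := by
    rw [Ideal.ofList, hJ, Ideal.map_span]
    congr 1
    ext x
    simp [rs, List.mem_ofFn]
  have hdimS : ringKrullDim (S ⧸ Ideal.ofList rs) + rs.length ≤ ringKrullDim S := by
    have h1 : ringKrullDim (S ⧸ Ideal.ofList rs) ≤ 1 := by
      rw [hofList]
      let g : P ⧸ J →+* S ⧸ J.map (algebraMap P S) :=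
        Ideal.quotientMap _ (algebraMap P S) Ideal.le_comap_map
      refine le_trans (Order.krullDim_le_of_strictMono (PrimeSpectrum.comap g)
        (Monotone.strictMono_of_injective (fun p q h => Ideal.comap_mono h) ?_)) hdim
      intro p q h
      have hcomp : ∀ r : PrimeSpectrum (S ⧸ J.map (algebraMap P S)),
          PrimeSpectrum.comap (Ideal.Quotient.mk J) (PrimeSpectrum.comap g r) =
            PrimeSpectrum.comap (algebraMap P S) (PrimeSpectrum.comap (Ideal.Quotient.mk _) r) := fun r => rfl
      have h' := congrArg (PrimeSpectrum.comap (Ideal.Quotient.mk J)) h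
      rw [hcomp, hcomp] at h'
      exact PrimeSpectrum.comap_injective_of_surjective _ Ideal.Quotient.mk_surjective
        (PrimeSpectrum.localization_comap_injective S (irr k n).primeCompl h')
    have h2 : ringKrullDim S = (irr k n).height := IsLocalization.AtPrime.ringKrullDim_eq_height (irr k n) S
    rw [h2, show rs.length = n from List.length_ofFn]
    calc ringKrullDim (S ⧸ Ideal.ofList rs) + (n : WithBot ℕ∞) ≤ 1 + (n : WithBot ℕ∞) := add_le_add h1 le_rfl
      _ = (((n + 1 : ℕ) : ℕ∞) : WithBot ℕ∞) := by push_cast; exact add_comm _ _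
      _ ≤ _ := WithBot.coe_le_coe.2 le_height_irr
  have hreg := (Groth.Agent.H20.CMRegular.isRegular_of_ringKrullDim_le rs hmem hdimS).toIsWeaklyRegular
  have hi : (i : ℕ) < rs.length := by simp [rs]
  have hri : rs[(i : ℕ)] = algebraMap P S (f i) := by simp [rs]
  have htake : Ideal.ofList (rs.take i) = (Ideal.span (f '' {j | j < i})).map (algebraMap P S) := by
    rw [Ideal.ofList, Ideal.map_span, ← Set.image_comp]
    congr 1
    ext x
    simp only [Set.mem_ofPred_eq, List.mem_take_iff_getElem, Set.mem_image, Function.comp_apply, rs]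
    constructor
    · rintro ⟨j, hj, rfl⟩
      simp only [List.length_ofFn, lt_min_iff] at hj
      exact ⟨⟨j, hj.2⟩, hj.1, by simp⟩
    · rintro ⟨j, hj, rfl⟩
      exact ⟨j, by simp only [List.length_ofFn, lt_min_iff]; exact ⟨hj, j.2⟩, by simp⟩
  have hkey := hreg.regular_mod_prev (i : ℕ) hi
  rw [hri] at hkey
  have hzero : algebraMap P S (f i) • (Submodule.Quotient.mk (algebraMap P S g) :
      S ⧸ (Ideal.ofList (rs.take (i : ℕ)) • ⊤ : Submodule S S)) = 0 := by
    rw [← Submodule.Quotient.mk_smul, Submodule.Quotient.mk_eq_zero, smul_eq_mul (α := Ideal S), Ideal.mul_top,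
      htake, smul_eq_mul, ← map_mul, mul_comm]
    exact Ideal.mem_map_of_mem _ hg
  have hz : (Submodule.Quotient.mk (algebraMap P S g) :
      S ⧸ (Ideal.ofList (rs.take (i : ℕ)) • ⊤ : Submodule S S)) = 0 :=
    hkey (hzero.trans (smul_zero _).symm)
  rw [Submodule.Quotient.mk_eq_zero, smul_eq_mul, Ideal.mul_top, htake,
    IsLocalization.algebraMap_mem_map_algebraMap_iff (irr k n).primeCompl] at hz
  obtain ⟨s, hs, hsg⟩ := hz
  refine saturated (Ideal.homogeneous_span _ _ fun x hx => ?_) (s := s) hs hsg
  obtain ⟨j, -, rfl⟩ := hx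
  exact ⟨d j, hf j⟩

theorem hilbert_eventually (f : Fin n → P) (d : Fin n → ℕ) (hd : ∀ i, 1 ≤ d i) (hf : ∀ i, (f i).IsHomogeneous (d i))
    (hdim : ringKrullDim (P ⧸ Ideal.span (Set.range f)) = 1) :
    ∃ m₀ : ℕ, ∀ m : ℕ, m₀ ≤ m →
      Module.finrank k ↥(homogeneousSubmodule (Fin (n + 1)) k m) -
        Module.finrank k ↥((Ideal.span (Set.range f)).restrictScalars k ⊓ homogeneousSubmodule (Fin (n + 1)) k m) =
      ∏ i : Fin n, d i := by
  classical
  let ds : ℕ → List ℕ := fun i => ((List.ofFn d).take i).reverse
  have key : ∀ i, i ≤ n → ∀ m, (ds i).sum ≤ m →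
      idim (Ideal.span (f '' {j | (j : ℕ) < i})) m + F (ds i) (n - i) m = (m + n).choose n := by
    intro i
    induction i with
    | zero =>
      intro _ m _
      have h : ({j : Fin n | (j : ℕ) < 0}) = ∅ := by ext; simp
      rw [h, Set.image_empty, Ideal.span_empty, idim, Submodule.restrictScalars_bot, bot_inf_eq, finrank_bot]
      simp [ds, F]
    | succ i ih =>
      intro hi m hm
      have hin : i < n := hi
      have hds : ds (i + 1) = d ⟨i, hin⟩ :: ds i := by
        simp only [ds]
        rw [List.take_succ, List.getElem?_eq_getElem (by simp [hin])]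
        simp
      rw [hds, List.sum_cons] at hm
      have hset : f '' {j : Fin n | (j : ℕ) < i + 1} = f '' {j : Fin n | (j : ℕ) < i} ∪ {f ⟨i, hin⟩} := by
        rw [← Set.image_singleton, ← Set.image_union]
        congr 1
        ext j
        simp only [Set.mem_ofPred_eq, Set.mem_union, Set.mem_singleton_iff, Fin.ext_iff]
        omega
      have hhom : (Ideal.span (f '' {j : Fin n | (j : ℕ) < i})).IsHomogeneous (homogeneousSubmodule (Fin (n + 1)) k) :=
        Ideal.homogeneous_span _ _ fun x hx => by
          obtain ⟨j, -, rfl⟩ := hx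
          exact ⟨d j, hf j⟩
      have hstep := idim_step hhom (hf ⟨i, hin⟩) (fun g hg => regular_step f d hd hf hdim.le ⟨i, hin⟩ g hg)
        (m := m) (by omega)
      have h1 := ih (by omega) m (by omega)
      have h2 := ih (by omega) (m - d ⟨i, hin⟩) (by omega)
      have h3 := F_telescope (ds i) (n - (i + 1)) (d ⟨i, hin⟩) m (by omega)
      rw [show n - (i + 1) + 1 = n - i by omega] at h3
      rw [hset, Ideal.span_union, hds]
      omega
  refine ⟨(ds n).sum, fun m hm => ?_⟩
  have h := key n le_rfl m hm
  have hall : f '' {j : Fin n | (j : ℕ) < n} = Set.range f := by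
    rw [show {j : Fin n | (j : ℕ) < n} = Set.univ from Set.eq_univ_of_forall fun j => j.2, Set.image_univ]
  rw [hall, Nat.sub_self, F_zero] at h
  have hprod : (ds n).prod = ∏ i, d i := by
    simp only [ds]
    rw [List.prod_reverse, List.take_of_length_le (by simp), List.prod_ofFn]
  rw [finrank_homogeneous, ← hprod]
  simp only [idim] at h
  omega

end Groth.Agent.H15.BezoutHilbert
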