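import Mathlib.LinearAlgebra.Dimension.Constructions
import Mathlib.LinearAlgebra.Dimension.Finrank
import Mathlib.LinearAlgebra.FiniteDimensional.Lemmas
import Mathlib.Algebra.DirectSum.Module
import Mathlib.LinearAlgebra.Dimension.StrongRankCondition
import Mathlib.LinearAlgebra.Basis.VectorSpace
import Mathlib.Algebra.Order.BigOperators.Group.Finset

/-!
# Numerical semistability of vector-valued bilinear forms
-/

set_option autoImplicit false

namespace Groth.Agent.H15.BilinStab

open Module Submodule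

universe u v

variable {K : Type u} [Field K] {W H : Type v} [AddCommGroup W] [Module K W] [AddCommGroup H]
  [Module K H] [FiniteDimensional K H] (q : H →ₗ[K] H →ₗ[K] W)

/-- The left orthogonal. -/
abbrev orth (V : Submodule K H) : Submodule K H := ⨅ (y : H) (_ : y ∈ V), LinearMap.ker (q.flip y)

variable {q}

omit [FiniteDimensional K H] in
theorem mem_orth {V : Submodule K H} {x : H} : x ∈ orth q V ↔ ∀ y ∈ V, q x y = 0 := by
  simp [orth]

theorem exists_triple (hsym : ∀ x y, q x y = 0 → q y x = 0) (V : Submodule K H)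
    (hiso : ∀ x ∈ V, ∀ y ∈ V, q x y = 0) :
    ∃ Hs : Fin 3 → Submodule K H, DirectSum.IsInternal Hs ∧ Hs 0 = V ∧
      Module.finrank K (Hs 0) + Module.finrank K (Hs 1) = Module.finrank K (orth q V) ∧
      Module.finrank K (Hs 0) + Module.finrank K (Hs 1) + Module.finrank K (Hs 2) = Module.finrank K H ∧
      (∀ i j : Fin 3, (∃ x ∈ Hs i, ∃ y ∈ Hs j, q x y ≠ 0) →
        ¬ (i = 0 ∧ j = 0) ∧ ¬ (i = 0 ∧ j = 1) ∧ ¬ (i = 1 ∧ j = 0)) := by
  have hle : V ≤ orth q V := fun x hx => mem_orth.2 fun y hy => hiso x hx y hy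
  obtain ⟨U0, hU0⟩ := Submodule.exists_isCompl V
  obtain ⟨U', hU'⟩ := Submodule.exists_isCompl (orth q V)
  set U := U0 ⊓ orth q V with hU
  have hsup : V ⊔ U = orth q V := by
    rw [hU, ← sup_inf_assoc_of_le _ hle, hU0.sup_eq_top, top_inf_eq]
  have hinf : V ⊓ U = ⊥ := eq_bot_iff.2 fun x hx =>
    (Submodule.mem_bot K).2 ((Submodule.mem_bot K).1 (hU0.inf_eq_bot ▸ (⟨hx.1, hx.2.1⟩ : x ∈ V ⊓ U0)))
  have hd1 : Module.finrank K V + Module.finrank K U = Module.finrank K (orth q V) := by
    have := Submodule.finrank_sup_add_finrank_inf_eq V U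
    rw [hsup, hinf, finrank_bot] at this
    omega
  have hd2 : Module.finrank K (orth q V) + Module.finrank K U' = Module.finrank K H :=
    Submodule.finrank_add_eq_of_isCompl hU'
  set Hs : Fin 3 → Submodule K H := ![V, U, U'] with hHs
  have hint : DirectSum.IsInternal Hs := by
    have hsurj : Function.Surjective (DirectSum.coeLinearMap Hs) := by
      rw [← LinearMap.range_eq_top, DirectSum.range_coeLinearMap, eq_top_iff, ← hU'.sup_eq_top, ← hsup]
      exact sup_le (sup_le (le_iSup Hs 0) (le_iSup Hs 1)) (le_iSup Hs 2)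
    have : FiniteDimensional K (DirectSum (Fin 3) fun i => Hs i) :=
      (DirectSum.linearEquivFunOnFintype K (Fin 3) fun i => Hs i).symm.finiteDimensional
    refine ⟨?_, hsurj⟩
    refine (LinearMap.injective_iff_surjective_of_finrank_eq_finrank ?_).2 hsurj
    rw [Module.finrank_directSum, Fin.sum_univ_three]
    show Module.finrank K V + Module.finrank K U + Module.finrank K U' = _
    omega
  refine ⟨Hs, hint, rfl, hd1, ?_, ?_⟩
  · show Module.finrank K V + Module.finrank K U + Module.finrank K U' = _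
    omega
  · intro i j hne
    obtain ⟨x, hx, y, hy, hxy⟩ := hne
    refine ⟨?_, ?_, ?_⟩ <;> rintro ⟨rfl, rfl⟩
    · exact hxy (hiso x hx y hy)
    · exact hxy (hsym y x (mem_orth.1 (hy : y ∈ U).2 x hx))
    · exact hxy (mem_orth.1 (hx : x ∈ U).2 y hy)

omit [FiniteDimensional K H] in
theorem sum_zero_of_bot {Hs : Fin 3 → Submodule K H} {i : Fin 3} (h : Module.finrank K (Hs i) = 0)
    [FiniteDimensional K (Hs i)] : Hs i = ⊥ := Submodule.finrank_eq_zero.1 h

theorem exists_weights_pos (hsym : ∀ x y, q x y = 0 → q y x = 0) (hq0 : q ≠ 0) (V : Submodule K H)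
    (hiso : ∀ x ∈ V, ∀ y ∈ V, q x y = 0)
    (hlt : Module.finrank K H < Module.finrank K V + Module.finrank K (orth q V)) :
    ∃ (Hs : Fin 3 → Submodule K H) (m : Fin 3 → ℤ), DirectSum.IsInternal Hs ∧
      (∑ i, m i * (Module.finrank K (Hs i) : ℤ)) = 0 ∧ (∃ i, m i ≠ 0 ∧ Hs i ≠ ⊥) ∧
      ∀ i j, (∃ x ∈ Hs i, ∃ y ∈ Hs j, q x y ≠ 0) → 0 < m i + m j := by
  obtain ⟨Hs, hint, h0, hd1, hd2, hpairs⟩ := exists_triple hsym V hiso
  have h0' : Module.finrank K (Hs 0) = Module.finrank K V := by rw [h0]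
  have hVne : Hs 0 ≠ ⊥ := by
    intro h
    rw [h, finrank_bot] at h0'
    have := Submodule.finrank_le (orth q V)
    omega
  have hw : Module.finrank K (Hs 1) = 0 → Module.finrank K (Hs 2) ≠ 0 := by
    intro h1 h2
    refine hq0 (LinearMap.ext fun x => LinearMap.ext fun y => ?_)
    have htop : V = ⊤ := Submodule.eq_top_of_finrank_eq (by omega)
    exact hiso x (htop ▸ trivial) y (htop ▸ trivial)
  have hne : ∀ i j, (∃ x ∈ Hs i, ∃ y ∈ Hs j, q x y ≠ 0) →
      Module.finrank K (Hs i) ≠ 0 ∧ Module.finrank K (Hs j) ≠ 0 := by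
    rintro i j ⟨x, hx, y, hy, hxy⟩
    constructor <;> intro h <;> rw [Submodule.finrank_eq_zero] at h
    · exact hxy (by rw [h, Submodule.mem_bot] at hx; simp [hx])
    · exact hxy (by rw [h, Submodule.mem_bot] at hy; simp [hy])
  set v : ℤ := (Module.finrank K (Hs 0) : ℤ) with hv
  set u : ℤ := (Module.finrank K (Hs 1) : ℤ) with hu
  set w : ℤ := (Module.finrank K (Hs 2) : ℤ) with hw'
  by_cases hu0 : Module.finrank K (Hs 1) = 0
  · refine ⟨Hs, ![-w, 0, v], hint, ?_, ⟨0, ?_, hVne⟩, fun i j hij => ?_⟩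
    · simp [Fin.sum_univ_three, ← hv, ← hw', hu0]
      ring
    · have := hw hu0
      simp only [Matrix.cons_val_zero]
      omega
    · obtain ⟨h00, -, -⟩ := hpairs i j hij
      obtain ⟨hi, hj⟩ := hne i j hij
      fin_cases i <;> fin_cases j <;> simp [hu0] at h00 hi hj ⊢ <;> omega
  · refine ⟨Hs, ![-((w + 1) * u), (w + 1) * v - (w + 2) * w, (w + 2) * u], hint, ?_, ⟨0, ?_, hVne⟩,
      fun i j hij => ?_⟩
    · simp [Fin.sum_univ_three, ← hv, ← hu, ← hw']
      ring
    · simp only [Matrix.cons_val_zero, ne_eq, neg_eq_zero, mul_eq_zero]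
      omega
    · obtain ⟨h00, h01, h10⟩ := hpairs i j hij
      have hb : 0 < (w + 1) * v - (w + 2) * w := by
        have h1 : (w + 1) * (w + 1) ≤ (w + 1) * v := mul_le_mul_of_nonneg_left (by omega) (by omega)
        linarith [h1, show (w + 1) * (w + 1) = (w + 2) * w + 1 by ring]
      have hc : 0 < (w + 2) * u := mul_pos (by omega) (by omega)
      have hac : 0 < -((w + 1) * u) + (w + 2) * u := by linarith [show (0 : ℤ) < u by omega]
      fin_cases i <;> fin_cases j <;> simp at h00 h01 h10 ⊢ <;> linarith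

theorem exists_weights_nonneg (hsym : ∀ x y, q x y = 0 → q y x = 0) (hq0 : q ≠ 0) (V : Submodule K H)
    (hV : V ≠ ⊥) (hiso : ∀ x ∈ V, ∀ y ∈ V, q x y = 0)
    (hle : Module.finrank K H ≤ Module.finrank K V + Module.finrank K (orth q V)) :
    ∃ (Hs : Fin 3 → Submodule K H) (m : Fin 3 → ℤ), DirectSum.IsInternal Hs ∧
      (∑ i, m i * (Module.finrank K (Hs i) : ℤ)) = 0 ∧ (∃ i, m i ≠ 0 ∧ Hs i ≠ ⊥) ∧
      ∀ i j, (∃ x ∈ Hs i, ∃ y ∈ Hs j, q x y ≠ 0) → 0 ≤ m i + m j := by
  rcases hle.lt_or_eq with hlt | heq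
  · obtain ⟨Hs, m, h1, h2, h3, h4⟩ := exists_weights_pos hsym hq0 V hiso hlt
    exact ⟨Hs, m, h1, h2, h3, fun i j h => (h4 i j h).le⟩
  obtain ⟨Hs, hint, h0, hd1, hd2, hpairs⟩ := exists_triple hsym V hiso
  refine ⟨Hs, ![-1, 0, 1], hint, ?_, ⟨0, by simp, h0 ▸ hV⟩, fun i j hij => ?_⟩
  · have h0' : Module.finrank K (Hs 0) = Module.finrank K V := by rw [h0]
    simp [Fin.sum_univ_three]
    omega
  · obtain ⟨h00, h01, h10⟩ := hpairs i j hij
    fin_cases i <;> fin_cases j <;> simp at h00 h01 h10 ⊢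

section Counting

variable {α : Type*} [Fintype α] (f : α → ℤ)

theorem sum_sub_range (M : ℕ) (P : α → ℕ → Prop) [∀ a t, Decidable (P a t)] :
    ∑ t ∈ Finset.range M, ((Finset.univ.filter fun a => P a t).card : ℤ) =
      ∑ a, (((Finset.range M).filter fun t => P a t).card : ℤ) := by
  simp only [Finset.card_filter, Nat.cast_sum]
  exact Finset.sum_comm

theorem filter_range_le (M : ℕ) (x : ℤ) (h : x ≤ M) :
    ((Finset.range M).filter fun t : ℕ => (t : ℤ) + 1 ≤ x).card = x.toNat := by
  rw [show ((Finset.range M).filter fun t : ℕ => (t : ℤ) + 1 ≤ x) = Finset.range x.toNat from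
    Finset.ext fun t => by simp only [Finset.mem_filter, Finset.mem_range]; omega, Finset.card_range]

theorem exists_threshold (hsum : ∑ a, f a = 0) (hne : ∃ a, f a ≠ 0) :
    (∃ t : ℤ, 0 < t ∧ (∃ a, f a ≤ -t) ∧
      Fintype.card α < (Finset.univ.filter fun a => f a ≤ -t).card + (Finset.univ.filter fun a => f a ≤ t).card) ∧
    (∃ t : ℤ, 0 < t ∧ (∃ a, f a ≤ -t) ∧
      Fintype.card α ≤ (Finset.univ.filter fun a => f a ≤ -t).card + (Finset.univ.filter fun a => f a < t).card) := by
  classical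
  obtain ⟨a₀, ha₀⟩ := hne
  set M : ℕ := ∑ a, (f a).natAbs with hM
  have hMle : ∀ a, (f a).natAbs ≤ M := fun a =>
    Finset.single_le_sum (f := fun a => (f a).natAbs) (fun b _ => Nat.zero_le _) (Finset.mem_univ a)
  have hN : ∑ a, ((-f a).toNat : ℤ) = ∑ a, ((f a).toNat : ℤ) := by
    refine (sub_eq_zero.1 ?_).symm
    rw [← Finset.sum_sub_distrib]
    exact Eq.trans (Finset.sum_congr rfl fun a _ => by omega) hsum
  have hneg : ∃ a, f a < 0 := by
    by_contra! h
    exact ha₀ ((Finset.sum_eq_zero_iff_of_nonneg fun a _ => h a).1 hsum a₀ (Finset.mem_univ _))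
  have hpos : ∃ a, 0 < f a := by
    by_contra! h
    exact ha₀ ((Finset.sum_eq_zero_iff_of_nonpos fun a _ => h a).1 hsum a₀ (Finset.mem_univ _))
  have hle : ∑ t ∈ Finset.range M, ((Finset.univ.filter fun a => f a ≤ -((t : ℤ) + 1)).card : ℤ) =
      ∑ a, ((-f a).toNat : ℤ) := by
    rw [sum_sub_range]
    refine Finset.sum_congr rfl fun a _ => ?_
    rw [← filter_range_le M (-f a) (by have := hMle a; omega)]
    exact congrArg (fun s : Finset ℕ => (s.card : ℤ)) (Finset.filter_congr fun t _ => by omega)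
  have hcompl : ∀ (P Q : α → Prop) [DecidablePred P] [DecidablePred Q], (∀ a, ¬ P a ↔ Q a) →
      Fintype.card α = (Finset.univ.filter P).card + (Finset.univ.filter Q).card := fun P Q _ _ h => by
    rw [← Finset.card_univ, ← Finset.card_filter_add_card_filter_not P]
    exact congrArg (_ + ·) (congrArg Finset.card (Finset.filter_congr fun a _ => h a))
  obtain ⟨a₁, ha₁⟩ := hneg
  obtain ⟨a₂, ha₂⟩ := hpos
  constructor
  · by_contra hcon
    push Not at hcon
    have hstep : ∀ t ∈ Finset.range M, ((Finset.univ.filter fun a => f a ≤ -((t : ℤ) + 1)).card : ℤ) ≤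
        ((Finset.univ.filter fun a => (t : ℤ) + 1 ≤ f a - 1).card : ℤ) := by
      intro t _
      by_cases h : ∃ a, f a ≤ -((t : ℤ) + 1)
      · have h1 := hcon ((t : ℤ) + 1) (by omega) h
        have h2 := hcompl (fun a => f a ≤ (t : ℤ) + 1) (fun a => (t : ℤ) + 1 ≤ f a - 1) (fun a => by omega)
        omega
      · rw [Finset.filter_eq_empty_iff.2 fun a _ ha => h ⟨a, ha⟩]
        simp
    have hsumle := Finset.sum_le_sum hstep
    rw [hle, sum_sub_range M (fun a t => (t : ℤ) + 1 ≤ f a - 1), hN] at hsumle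
    refine absurd hsumle (not_le.2 (Finset.sum_lt_sum (fun a _ => ?_) ⟨a₂, Finset.mem_univ _, ?_⟩))
    · rw [filter_range_le M (f a - 1) (by have := hMle a; omega)]
      omega
    · rw [filter_range_le M (f a₂ - 1) (by have := hMle a₂; omega)]
      omega
  · by_contra hcon
    push Not at hcon
    have hstep : ∀ t ∈ Finset.range M, ((Finset.univ.filter fun a => f a ≤ -((t : ℤ) + 1)).card : ℤ) ≤
        ((Finset.univ.filter fun a => (t : ℤ) + 1 ≤ f a).card : ℤ) ∧ (t = 0 →
        ((Finset.univ.filter fun a => f a ≤ -((t : ℤ) + 1)).card : ℤ) <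
        ((Finset.univ.filter fun a => (t : ℤ) + 1 ≤ f a).card : ℤ)) := by
      intro t _
      by_cases h : ∃ a, f a ≤ -((t : ℤ) + 1)
      · have h1 := hcon ((t : ℤ) + 1) (by omega) h
        have h2 := hcompl (fun a => f a < (t : ℤ) + 1) (fun a => (t : ℤ) + 1 ≤ f a) (fun a => by omega)
        omega
      · rw [Finset.filter_eq_empty_iff.2 fun a _ ha => h ⟨a, ha⟩]
        refine ⟨by simp, fun ht => absurd ⟨a₁, ?_⟩ h⟩
        subst ht
        omega
    have hM1 : 1 ≤ M := by have := hMle a₁; omega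
    have hsumlt := Finset.sum_lt_sum (fun t ht => (hstep t ht).1)
      ⟨0, Finset.mem_range.2 hM1, (hstep 0 (Finset.mem_range.2 hM1)).2 rfl⟩
    rw [hle, sum_sub_range M (fun a t => (t : ℤ) + 1 ≤ f a), hN] at hsumlt
    refine absurd hsumlt (not_lt.2 (le_of_eq (Finset.sum_congr rfl fun a _ => ?_)))
    rw [filter_range_le M (f a) (by have := hMle a; omega)]

end Counting

section Directions

variable {ι : Type} [Fintype ι] [DecidableEq ι] (Hs : ι → Submodule K H) (m : ι → ℤ)

omit [FiniteDimensional K H] [Fintype ι] [DecidableEq ι] in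
theorem q_eq_zero_of_spans {ιb : Type*} (b : ιb → H) (S T : Set ιb)
    (h : ∀ a ∈ S, ∀ c ∈ T, q (b a) (b c) = 0) :
    ∀ x ∈ Submodule.span K (b '' S), ∀ y ∈ Submodule.span K (b '' T), q x y = 0 := by
  intro x hx y hy
  induction hx using Submodule.span_induction with
  | mem z hz =>
    obtain ⟨a, ha, rfl⟩ := hz
    induction hy using Submodule.span_induction with
    | mem w hw => obtain ⟨c, hc, rfl⟩ := hw; exact h a ha c hc
    | zero => simp
    | add w w' _ _ h1 h2 => simp [h1, h2]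
    | smul r w _ h1 => simp [h1]
  | zero => simp
  | add z z' _ _ h1 h2 => simp [h1, h2]
  | smul r z _ h1 => simp [h1]

theorem exists_bad (hint : DirectSum.IsInternal Hs)
    (hsum : (∑ i, m i * (Module.finrank K (Hs i) : ℤ)) = 0) (hne : ∃ i, m i ≠ 0 ∧ Hs i ≠ ⊥) :
    ((∀ i j, (∃ x ∈ Hs i, ∃ y ∈ Hs j, q x y ≠ 0) → 0 < m i + m j) →
      ∃ V : Submodule K H, V ≠ ⊥ ∧ (∀ x ∈ V, ∀ y ∈ V, q x y = 0) ∧
        Module.finrank K H < Module.finrank K V + Module.finrank K (orth q V)) ∧
    ((∀ i j, (∃ x ∈ Hs i, ∃ y ∈ Hs j, q x y ≠ 0) → 0 ≤ m i + m j) →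
      ∃ V : Submodule K H, V ≠ ⊥ ∧ (∀ x ∈ V, ∀ y ∈ V, q x y = 0) ∧
        Module.finrank K H ≤ Module.finrank K V + Module.finrank K (orth q V)) := by
  classical
  let b := hint.collectedBasis fun i => Module.finBasis K (Hs i)
  let f : (Σ i, Fin (Module.finrank K (Hs i))) → ℤ := fun a => m a.1
  have hsum' : ∑ a, f a = 0 := by
    rw [Fintype.sum_sigma, ← hsum]
    exact Finset.sum_congr rfl fun i _ => by simp [f, mul_comm]
  have hne' : ∃ a, f a ≠ 0 := by
    obtain ⟨i, hi, hb⟩ := hne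
    exact ⟨⟨i, ⟨0, Nat.pos_of_ne_zero fun h => hb (Submodule.finrank_eq_zero.1 h)⟩⟩, hi⟩
  obtain ⟨⟨t, ht, hex, hlt⟩, t', ht', hex', hle⟩ := exists_threshold f hsum' hne'
  have hcard : Fintype.card (Σ i, Fin (Module.finrank K (Hs i))) = Module.finrank K H :=
    (Module.finrank_eq_card_basis b).symm
  have hdim : ∀ S : Finset (Σ i, Fin (Module.finrank K (Hs i))),
      Module.finrank K (Submodule.span K (b '' (S : Set _))) = S.card := by
    intro S
    rw [show b '' (S : Set _) = Set.range (fun a : S => b a) from Set.ext fun z => by simp,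
      finrank_span_eq_card (b := fun a : S => b a) (b.linearIndependent.comp _ Subtype.val_injective), Fintype.card_coe]
  have hzero : ∀ {a c}, ¬ (∃ x ∈ Hs (Sigma.fst a), ∃ y ∈ Hs (Sigma.fst c), q x y ≠ 0) →
      q (b a) (b c) = 0 := by
    intro a c h
    by_contra hne
    exact h ⟨_, hint.collectedBasis_mem _ a, _, hint.collectedBasis_mem _ c, hne⟩
  constructor
  · intro hpos
    set S := Finset.univ.filter fun a => f a ≤ -t with hS
    set T := Finset.univ.filter fun a => f a ≤ t with hT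
    refine ⟨Submodule.span K (b '' (S : Set _)), fun h => ?_, ?_, ?_⟩
    · have h' := hdim S
      rw [h, finrank_bot] at h'
      obtain ⟨a, ha⟩ := hex
      exact (Finset.card_pos.2 ⟨a, Finset.mem_filter.2 ⟨Finset.mem_univ _, ha⟩⟩).ne h'
    · refine q_eq_zero_of_spans (fun a => b a) _ _ fun a ha c hc => hzero fun h => ?_
      have := hpos _ _ h
      simp only [hS, Finset.coe_filter, Finset.mem_univ, true_and, Set.mem_ofPred_eq, f] at ha hc
      omega
    · have hTle : Submodule.span K (b '' (T : Set _)) ≤ orth q (Submodule.span K (b '' (S : Set _))) :=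
        fun x hx => mem_orth.2 fun y hy => q_eq_zero_of_spans (fun a => b a) _ _ (fun a ha c hc => hzero fun h => by
          have := hpos _ _ h
          simp only [hS, hT, Finset.coe_filter, Finset.mem_univ, true_and, Set.mem_ofPred_eq, f] at ha hc
          omega) x hx y hy
      have := Submodule.finrank_mono hTle
      rw [hdim] at this
      rw [hdim, ← hcard]
      omega
  · intro hnn
    set S := Finset.univ.filter fun a => f a ≤ -t' with hS
    set T := Finset.univ.filter fun a => f a < t' with hT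
    refine ⟨Submodule.span K (b '' (S : Set _)), fun h => ?_, ?_, ?_⟩
    · have h' := hdim S
      rw [h, finrank_bot] at h'
      obtain ⟨a, ha⟩ := hex'
      exact (Finset.card_pos.2 ⟨a, Finset.mem_filter.2 ⟨Finset.mem_univ _, ha⟩⟩).ne h'
    · refine q_eq_zero_of_spans (fun a => b a) _ _ fun a ha c hc => hzero fun h => ?_
      have := hnn _ _ h
      simp only [hS, Finset.coe_filter, Finset.mem_univ, true_and, Set.mem_ofPred_eq, f] at ha hc
      omega
    · have hTle : Submodule.span K (b '' (T : Set _)) ≤ orth q (Submodule.span K (b '' (S : Set _))) :=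
        fun x hx => mem_orth.2 fun y hy => q_eq_zero_of_spans (fun a => b a) _ _ (fun a ha c hc => hzero fun h => by
          have := hnn _ _ h
          simp only [hS, hT, Finset.coe_filter, Finset.mem_univ, true_and, Set.mem_ofPred_eq, f] at ha hc
          omega) x hx y hy
      have := Submodule.finrank_mono hTle
      rw [hdim] at this
      rw [hdim, ← hcard]
      omega

end Directions

end Groth.Agent.H15.BilinStab
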