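import Mathlib.NumberTheory.RamificationInertia.Basic
import Mathlib.RingTheory.DedekindDomain.AdicValuation
import Mathlib.RingTheory.DedekindDomain.IntegralClosure
import Mathlib.FieldTheory.PurelyInseparable.Exponent
import Mathlib.RingTheory.Polynomial.Eisenstein.Basic
import Mathlib.RingTheory.Polynomial.GaussLemma
import Mathlib.RingTheory.DiscreteValuationRing.Basic
import Mathlib.RingTheory.AdjoinRoot
import Mathlib.Algebra.GCDMonoid.Finset
import Mathlib.RingTheory.Int.Basic
import Mathlib.GroupTheory.Archimedean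

/-!
# The index of the diagonal form `x₀^d = π x₁^d + ⋯ + π^N x_N^d`
-/

set_option autoImplicit false
set_option linter.deprecated false

noncomputable section

universe u

namespace Groth.Agent.H15.DiagIndex

open scoped WithZero
open WithZero UniqueFactorizationMonoid Polynomial

theorem key {L : Type u} [Field L] (v : Valuation L ℤᵐ⁰) (c : L) (E : ℕ) (hc : v c = exp (-(E : ℤ)))
    (d N : ℕ) (hd : 1 ≤ d) (x : Fin (N + 1) → L) (hx : x ≠ 0)
    (heq : x 0 ^ d = ∑ i : Fin N, c ^ ((i : ℕ) + 1) * x i.succ ^ d) :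
    ∃ δ, 1 ≤ δ ∧ δ ≤ N ∧ δ ∣ d ∧ d / δ ∣ E := by
  classical
  let a : Fin (N + 1) → L := Fin.cons (-1) fun i => c ^ ((i : ℕ) + 1)
  let t : Fin (N + 1) → L := fun i => a i * x i ^ d
  have ha : ∀ i : Fin (N + 1), v (a i) = exp (-(((i : ℕ) * E : ℕ) : ℤ)) := by
    intro i
    induction i using Fin.cases with
    | zero => simp [a]
    | succ i =>
      simp only [a, Fin.cons_succ, map_pow, hc, Fin.val_succ]
      rw [← exp_nsmul]
      congr 1
      push_cast
      simp [nsmul_eq_mul]
  have hsum : ∑ i, t i = 0 := by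
    simp only [t, a, Fin.sum_univ_succ, Fin.cons_zero, Fin.cons_succ]
    rw [← heq]
    ring
  obtain ⟨i₁, hi₁⟩ := Function.ne_iff.1 hx
  obtain ⟨i, -, hmax⟩ := Finset.exists_max_image Finset.univ (fun j => v (t j)) ⟨0, Finset.mem_univ _⟩
  have hpos : v (t i₁) ≠ 0 := by
    simp only [t, map_mul, map_pow, ha]
    exact mul_ne_zero exp_ne_zero (pow_ne_zero _ (v.ne_zero_iff.2 hi₁))
  have hi0 : v (t i) ≠ 0 := fun h => hpos (le_antisymm (h ▸ hmax i₁ (Finset.mem_univ _)) zero_le)
  obtain ⟨j, hj, hne⟩ : ∃ j, v (t j) = v (t i) ∧ j ≠ i := by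
    by_contra hcon
    push Not at hcon
    have := v.map_sum_eq_of_lt (Finset.mem_univ i) (f := t) fun j hj =>
      lt_of_le_of_ne (hmax j (Finset.mem_univ _)) fun h => (Finset.mem_sdiff.1 hj).2 (Finset.mem_singleton.2 (hcon j h))
    rw [hsum, map_zero] at this
    exact hi0 this.symm
  have hxj : v (x j) ≠ 0 := fun h => hi0 (by rw [← hj]; simp [t, h, zero_pow (by omega : d ≠ 0)])
  have hxi : v (x i) ≠ 0 := fun h => hi0 (by simp [t, h, zero_pow (by omega : d ≠ 0)])
  simp only [t, map_mul, map_pow, ha] at hj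
  rw [← exp_log hxj, ← exp_log hxi, ← exp_nsmul, ← exp_nsmul, ← exp_add, ← exp_add, exp_inj,
    nsmul_eq_mul, nsmul_eq_mul] at hj
  set m := ((i : ℤ) - (j : ℤ)).natAbs with hm
  have hdvd : d ∣ E * m := by
    have h : (d : ℤ) ∣ (E : ℤ) * ((i : ℤ) - (j : ℤ)) :=
      ⟨log (v (x i)) - log (v (x j)), by push_cast at hj; linear_combination hj⟩
    have h' := Int.natAbs_dvd_natAbs.2 h
    simpa [Int.natAbs_mul] using h'
  have hm0 : 0 < m := by
    rw [hm, Int.natAbs_pos, sub_ne_zero]
    intro h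
    exact hne (Fin.ext (by omega))
  have hmN : m ≤ N := by
    have := i.is_le; have := j.is_le
    omega
  refine ⟨Nat.gcd d m, Nat.gcd_pos_of_pos_left _ hd, (Nat.le_of_dvd hm0 (Nat.gcd_dvd_right _ _)).trans hmN,
    Nat.gcd_dvd_left _ _, ?_⟩
  rw [Nat.div_dvd_iff_dvd_mul (Nat.gcd_dvd_left _ _) (Nat.gcd_pos_of_pos_left _ hd), mul_comm,
    ← Nat.gcd_mul_left]
  exact Nat.dvd_gcd (dvd_mul_left _ _) hdvd

theorem sep_sum {R K L : Type u} [CommRing R] [IsDomain R] [IsDiscreteValuationRing R] [Field K] [Algebra R K]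
    [IsFractionRing R K] [Field L] [Algebra K L] [Algebra R L] [IsScalarTower R K L] [FiniteDimensional K L]
    [Algebra.IsSeparable K L] (ϖ : R) (hϖ : Irreducible ϖ) (D q : ℕ)
    (h : ∀ (v : Valuation L ℤᵐ⁰) (E : ℕ), v (algebraMap R L ϖ) = exp (-(E : ℤ)) → D ∣ q * E) :
    D ∣ q * Module.finrank K L := by
  classical
  let B := integralClosure R L
  have : IsIntegralClosure B R L := integralClosure.isIntegralClosure R L
  have : Module.Finite R B := IsIntegralClosure.finite R K L B
  have : IsDedekindDomain B := IsIntegralClosure.isDedekindDomain R K L B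
  have : IsFractionRing B L := IsIntegralClosure.isFractionRing_of_finite_extension R K L B
  have hinj : Function.Injective (algebraMap R B) := fun a b hab => by
    have := congrArg (fun z : B => (z : L)) hab
    exact IsFractionRing.injective R K ((algebraMap K L).injective
      (by simpa [← IsScalarTower.algebraMap_apply] using this))
  have : FaithfulSMul R B := (faithfulSMul_iff_algebraMap_injective R B).2 hinj
  set p := IsLocalRing.maximalIdeal R with hp
  have hp0 : p ≠ ⊥ := IsDiscreteValuationRing.not_a_field R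
  rw [← Ideal.sum_ramification_inertia B K L hp0, Finset.mul_sum]
  refine Finset.dvd_sum fun P hP => ?_
  rw [← mul_assoc]
  refine dvd_mul_of_dvd_left ?_ _
  obtain ⟨hPp, hPl⟩ := (IsDedekindDomain.mem_primesOverFinset_iff hp0 _).1 hP
  have hP0 : P ≠ ⊥ := Ideal.ne_bot_of_liesOver_of_ne_bot hp0 P
  let w : IsDedekindDomain.HeightOneSpectrum B := ⟨P, hPp, hP0⟩
  have hmap : p.map (algebraMap R B) = Ideal.span {algebraMap R B ϖ} := by
    rw [hp, hϖ.maximalIdeal_eq, Ideal.map_span, Set.image_singleton]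
  have hne : algebraMap R B ϖ ≠ 0 := (map_ne_zero_iff _ hinj).2 hϖ.ne_zero
  refine h (w.valuation L) _ ?_
  rw [IsScalarTower.algebraMap_apply R B L, w.valuation_of_algebraMap, w.intValuation_if_neg hne,
    Ideal.IsDedekindDomain.ramificationIdx'_eq_normalizedFactors_count (by rw [hmap]; simpa using hne) hPp hP0,
    hmap, count_associates_factors_eq (by simpa using hne) hPp hP0]

theorem dvd_finrank {R K L : Type u} [CommRing R] [IsDomain R] [IsDiscreteValuationRing R] [Field K] [Algebra R K]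
    [IsFractionRing R K] [Field L] [Algebra K L] [FiniteDimensional K L] (ϖ : R) (hϖ : Irreducible ϖ)
    (d N : ℕ) (hd : 1 ≤ d) (x : Fin (N + 1) → L) (hx : x ≠ 0)
    (heq : x 0 ^ d = ∑ i : Fin N, algebraMap K L (algebraMap R K (ϖ ^ ((i : ℕ) + 1))) * x i.succ ^ d) :
    ((Finset.Icc 1 N).filter (fun δ => δ ∣ d)).gcd (fun δ => d / δ) ∣ Module.finrank K L := by
  classical
  let Ls := separableClosure K L
  let p := ringExpChar K
  have : ExpChar L p := expChar_of_injective_algebraMap (algebraMap K L).injective p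
  obtain ⟨k, hk⟩ := IsPurelyInseparable.finrank_eq_pow (F := Ls) L p
  have hmem : ∀ a : L, iterateFrobenius L p k a ∈ Ls := fun a => by
    have : ExpChar Ls p := expChar_of_injective_algebraMap (algebraMap K Ls).injective p
    rw [iterateFrobenius_def]
    obtain ⟨y, hy⟩ := IsPurelyInseparable.elemExponent_def' Ls p a
    have hle : p ^ IsPurelyInseparable.elemExponent Ls a ∣ p ^ k := by
      rw [← IsPurelyInseparable.minpoly_natDegree_eq' Ls p a, ← hk]
      exact minpoly.degree_dvd (Algebra.IsIntegral.isIntegral a)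
    obtain ⟨c, hc⟩ := hle
    rw [hc, pow_mul, ← hy]
    exact pow_mem y.2 _
  let φ : L →+* Ls := (iterateFrobenius L p k).codRestrict Ls hmem
  let _ : Algebra R Ls := ((algebraMap K Ls).comp (algebraMap R K)).toAlgebra
  have : IsScalarTower R K Ls := IsScalarTower.of_algebraMap_eq fun _ => rfl
  have hn : Module.finrank K L = p ^ k * Module.finrank K Ls := by
    rw [← Module.finrank_mul_finrank K Ls L, hk, mul_comm]
  rw [hn]
  refine sep_sum ϖ hϖ _ _ fun v E hE => ?_
  have hφ : φ (algebraMap K L (algebraMap R K ϖ)) = algebraMap R Ls ϖ ^ p ^ k :=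
    Subtype.ext (iterateFrobenius_def p k _)
  have hv : v.comap φ (algebraMap K L (algebraMap R K ϖ)) = exp (-((p ^ k * E : ℕ) : ℤ)) := by
    rw [Valuation.comap_apply, hφ, map_pow, hE, ← exp_nsmul]
    simp
  obtain ⟨δ, h1, h2, h3, h4⟩ := key (v.comap φ) (algebraMap K L (algebraMap R K ϖ)) (p ^ k * E) hv d N hd x hx
    (by simpa [map_pow] using heq)
  exact (Finset.gcd_dvd (Finset.mem_filter.2 ⟨Finset.mem_Icc.2 ⟨h1, h2⟩, h3⟩)).trans h4

theorem exists_degree {R K : Type u} [CommRing R] [IsDomain R] [IsDiscreteValuationRing R] [Field K] [Algebra R K]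
    [IsFractionRing R K] (ϖ : R) (hϖ : Irreducible ϖ) (d N δ : ℕ) (hd : 1 ≤ d) (h1 : 1 ≤ δ) (h2 : δ ≤ N)
    (h3 : δ ∣ d) :
    ∃ (L : Type u) (_ : Field L) (_ : Algebra K L),
        FiniteDimensional K L ∧ ((d / δ : ℕ) : ℤ) = (Module.finrank K L : ℤ) ∧
        ∃ x : Fin (N + 1) → L, x ≠ 0 ∧
          x 0 ^ d = ∑ i : Fin N, algebraMap K L (algebraMap R K (ϖ ^ ((i : ℕ) + 1))) * x i.succ ^ d := by
  set m := d / δ with hm
  have hm0 : 0 < m := Nat.div_pos (Nat.le_of_dvd hd h3) h1
  have hmonic : (X ^ m - C ϖ : R[X]).Monic := monic_X_pow_sub_C ϖ hm0.ne'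
  have hprime : (Ideal.span {ϖ}).IsPrime := (Ideal.span_singleton_prime hϖ.ne_zero).2 hϖ.prime
  have heis : (X ^ m - C ϖ : R[X]).IsEisensteinAt (Ideal.span {ϖ}) := by
    refine ⟨?_, fun {i} hi => ?_, ?_⟩
    · rw [hmonic.leadingCoeff]
      exact fun h => hprime.ne_top ((Ideal.eq_top_iff_one _).2 h)
    · rw [natDegree_X_pow_sub_C] at hi
      rw [coeff_sub, coeff_X_pow, coeff_C, if_neg hi.ne]
      split <;> simp [Ideal.mem_span_singleton_self]
    · rw [Ideal.span_singleton_pow, coeff_sub, coeff_X_pow, coeff_C, if_neg hm0.ne, if_pos rfl, zero_sub,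
        neg_mem_iff, Ideal.mem_span_singleton]
      rintro ⟨c, hc⟩
      have h' : ϖ * 1 = ϖ * (ϖ * c) := by linear_combination hc
      exact hϖ.not_isUnit (IsUnit.of_mul_eq_one c (mul_left_cancel₀ hϖ.ne_zero h').symm)
  have hirr : Irreducible ((X ^ m - C ϖ : R[X]).map (algebraMap R K)) :=
    hmonic.irreducible_iff_irreducible_map_fraction_map.1
      (heis.irreducible hprime hmonic.isPrimitive (by rw [natDegree_X_pow_sub_C]; exact hm0))
  set f := (X ^ m - C ϖ : R[X]).map (algebraMap R K) with hf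
  have : Fact (Irreducible f) := ⟨hirr⟩
  refine ⟨AdjoinRoot f, inferInstance, inferInstance,
    (AdjoinRoot.powerBasis hirr.ne_zero).finite, ?_, ?_⟩
  · rw [(AdjoinRoot.powerBasis hirr.ne_zero).finrank, AdjoinRoot.powerBasis_dim, hf,
      hmonic.natDegree_map, natDegree_X_pow_sub_C]
  · classical
    let i₀ : Fin N := ⟨δ - 1, by omega⟩
    refine ⟨Fin.cons (AdjoinRoot.root f) (Pi.single i₀ 1), fun h => ?_, ?_⟩
    · have := congrFun h i₀.succ
      simp at this
    · have hroot : AdjoinRoot.root f ^ m = algebraMap K (AdjoinRoot f) (algebraMap R K ϖ) := by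
        have := AdjoinRoot.eval₂_root f
        rw [hf] at this
        simpa [eval₂_map, sub_eq_zero, AdjoinRoot.algebraMap_eq] using this
      rw [Finset.sum_eq_single i₀]
      · simp only [Fin.cons_zero, Fin.cons_succ, Pi.single_eq_same, one_pow, mul_one]
        conv_lhs => rw [← Nat.div_mul_cancel h3, ← hm, pow_mul, hroot]
        rw [map_pow, map_pow, show (i₀ : ℕ) + 1 = δ from Nat.sub_add_cancel h1]
      · intro j _ hj
        simp [hj, zero_pow (by omega : d ≠ 0)]
      · simp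

theorem main {R K : Type u} [CommRing R] [IsDomain R] [IsDiscreteValuationRing R] [Field K] [Algebra R K]
    [IsFractionRing R K] (ϖ : R) (hϖ : Irreducible ϖ) (d N : ℕ) (hd : 1 ≤ d) :
    AddSubgroup.closure {m : ℤ | ∃ (L : Type u) (_ : Field L) (_ : Algebra K L),
        FiniteDimensional K L ∧ m = (Module.finrank K L : ℤ) ∧
        ∃ x : Fin (N + 1) → L, x ≠ 0 ∧
          x 0 ^ d = ∑ i : Fin N, algebraMap K L (algebraMap R K (ϖ ^ ((i : ℕ) + 1))) * x i.succ ^ d} =
      AddSubgroup.zmultiples ((((Finset.Icc 1 N).filter (fun δ => δ ∣ d)).gcd (fun δ => d / δ) : ℕ) : ℤ) := by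
  refine le_antisymm ((AddSubgroup.closure_le _).2 ?_) ?_
  · rintro z ⟨L, _, _, hfin, rfl, x, hx, heq⟩
    exact Int.mem_zmultiples_iff.2 (Int.natCast_dvd_natCast.2 (dvd_finrank ϖ hϖ d N hd x hx heq))
  · obtain ⟨g, hg⟩ := Int.subgroup_cyclic (AddSubgroup.closure {m : ℤ | ∃ (L : Type u) (_ : Field L) (_ : Algebra K L),
        FiniteDimensional K L ∧ m = (Module.finrank K L : ℤ) ∧
        ∃ x : Fin (N + 1) → L, x ≠ 0 ∧
          x 0 ^ d = ∑ i : Fin N, algebraMap K L (algebraMap R K (ϖ ^ ((i : ℕ) + 1))) * x i.succ ^ d})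
    rw [← AddSubgroup.zmultiples_eq_closure] at hg
    rw [hg, AddSubgroup.zmultiples_le, Int.mem_zmultiples_iff, Int.dvd_natCast]
    refine Finset.dvd_gcd fun δ hδ => ?_
    simp only [Finset.mem_filter, Finset.mem_Icc] at hδ
    rw [← Int.dvd_natCast, ← Int.mem_zmultiples_iff, ← hg]
    exact AddSubgroup.subset_closure (exists_degree ϖ hϖ d N δ hd hδ.1.1 hδ.1.2 hδ.2)

end Groth.Agent.H15.DiagIndex
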