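import Groth.Agent.Lib.Dim.Basic
import Mathlib.RingTheory.Ideal.MinimalPrime.Noetherian
import Mathlib.RingTheory.Ideal.GoingUp
import Mathlib.RingTheory.TensorProduct.Finite
import Mathlib.RingTheory.FiniteType

set_option autoImplicit false

universe u

open scoped TensorProduct

namespace Groth.Agent.H15.DimKernel

theorem ringKrullDim_le_of_isIntegral (R S : Type u) [CommRing R] [CommRing S] [Algebra R S] [Algebra.IsIntegral R S] :
    ringKrullDim S ≤ ringKrullDim R := by
  have hmono : StrictMono (fun q : PrimeSpectrum S => PrimeSpectrum.comap (algebraMap R S) q) := by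
    intro a b hab
    obtain ⟨x, hxb, hxa⟩ := SetLike.exists_of_lt ((PrimeSpectrum.asIdeal_lt_asIdeal a b).2 hab)
    refine (PrimeSpectrum.asIdeal_lt_asIdeal _ _).1 ?_
    exact Ideal.comap_lt_comap_of_integral_mem_sdiff (I := a.asIdeal) hab.le ⟨hxb, hxa⟩ (Algebra.IsIntegral.isIntegral x)
  exact Order.krullDim_le_of_strictMono _ hmono

/-- `dim (R ⊗ F) ≤ dim R` for a finite algebra `F`. -/
theorem ringKrullDim_tensor_le (k : Type u) [Field k] (R F : Type u) [CommRing R] [Algebra k R] [CommRing F]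
    [Algebra k F] [Module.Finite k F] : ringKrullDim (R ⊗[k] F) ≤ ringKrullDim R :=
  ringKrullDim_le_of_isIntegral R (R ⊗[k] F)

/-- `r` elements of a finite type algebra of dimension less than `r` are algebraically dependent. -/
theorem exists_ne_zero_aeval_eq_zero (k : Type u) [Field k] {r : ℕ} (A : Type u) [CommRing A] [Algebra k A]
    [Algebra.FiniteType k A] (hdim : ringKrullDim A < (r : ℕ)) (a : Fin r → A) :
    ∃ h : MvPolynomial (Fin r) k, h ≠ 0 ∧ MvPolynomial.aeval a h = 0 := by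
  classical
  haveI : IsNoetherianRing A := Algebra.FiniteType.isNoetherianRing k A
  have hfin := minimalPrimes.finite_of_isNoetherianRing A
  have hq : ∀ q ∈ minimalPrimes A, ∃ h : MvPolynomial (Fin r) k, h ≠ 0 ∧ MvPolynomial.aeval a h ∈ q := by
    intro q hq
    by_contra hcon
    push_neg at hcon
    haveI : q.IsPrime := hq.1.1
    let f : MvPolynomial (Fin r) k →ₐ[k] A ⧸ q := (Ideal.Quotient.mkₐ k q).comp (MvPolynomial.aeval a)
    have hf : Function.Injective f := by
      rw [injective_iff_map_eq_zero]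
      intro h hh
      by_contra hne
      exact hcon h hne (Ideal.Quotient.eq_zero_iff_mem.mp hh)
    have h1 := trdeg_le_of_injective f hf
    rw [MvPolynomial.trdeg_of_isDomain] at h1
    obtain ⟨s, g, -, -, hs, hdims⟩ := Groth.Agent.Lib.Dim.Basic.exists_noether k (A ⧸ q)
    rw [hs] at h1
    have hrs : r ≤ s := by simpa using h1
    have h2 : ((s : ℕ) : WithBot ℕ∞) < ((r : ℕ) : WithBot ℕ∞) :=
      lt_of_le_of_lt (hdims ▸ ringKrullDim_quotient_le q) hdim
    have h3 : s < r := by exact_mod_cast h2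
    omega
  choose h hne hmem using hq
  have hnil : MvPolynomial.aeval a (∏ q ∈ hfin.toFinset.attach, h q.1 (hfin.mem_toFinset.mp q.2)) ∈ nilradical A := by
    rw [nilradical, ← Ideal.sInf_minimalPrimes, Submodule.mem_sInf]
    intro q hq
    rw [map_prod]
    refine Ideal.prod_mem q (Finset.mem_attach _ ⟨q, hfin.mem_toFinset.mpr hq⟩) ?_
    exact hmem q hq
  obtain ⟨N, hN⟩ := hnil
  refine ⟨(∏ q ∈ hfin.toFinset.attach, h q.1 (hfin.mem_toFinset.mp q.2)) ^ N, pow_ne_zero N ?_, by rw [map_pow, hN]⟩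
  exact Finset.prod_ne_zero_iff.mpr fun q _ => hne q.1 (hfin.mem_toFinset.mp q.2)

universe v

/-- The universal form of the dependence relation between `(x i - ξ i) * u ^ N`. -/
theorem exists_relation (k : Type u) [Field k] {r : ℕ} (R F : Type u) [CommRing R] [Algebra k R] [Algebra.FiniteType k R]
    [CommRing F] [Algebra k F] [Module.Finite k F] (hdim : ringKrullDim R < (r : ℕ))
    (x : Fin r → R) (ξ : Fin r → F) (uR : R) (uF : F) (N : ℕ) :
    ∃ h : MvPolynomial (Fin r) k, h ≠ 0 ∧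
      ∀ (Ω : Type v) [CommRing Ω] [Algebra k Ω] (φR : R →ₐ[k] Ω) (φF : F →ₐ[k] Ω) (g : Fin r → Ω),
        (∀ i, g i = (φR (x i) - φF (ξ i)) * (φR uR * φF uF) ^ N) → MvPolynomial.aeval g h = 0 := by
  haveI : Algebra.FiniteType k (R ⊗[k] F) :=
    Algebra.FiniteType.trans (S := R) inferInstance inferInstance
  obtain ⟨h, hne, hh⟩ := exists_ne_zero_aeval_eq_zero k (R ⊗[k] F) (lt_of_le_of_lt (ringKrullDim_tensor_le k R F) hdim)
    (fun i => (x i ⊗ₜ[k] 1 - 1 ⊗ₜ[k] ξ i) * (uR ⊗ₜ[k] uF) ^ N)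
  refine ⟨h, hne, fun Ω _ _ φR φF g hg => ?_⟩
  have hga : g = fun i => Algebra.TensorProduct.lift φR φF (fun _ _ => Commute.all _ _)
      ((x i ⊗ₜ[k] 1 - 1 ⊗ₜ[k] ξ i) * (uR ⊗ₜ[k] uF) ^ N) := by
    funext i
    rw [map_mul, map_pow, map_sub]
    simp [Algebra.TensorProduct.lift_tmul, hg i]
  rw [hga, ← MvPolynomial.comp_aeval_apply, hh, map_zero]

end Groth.Agent.H15.DimKernel
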