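import Mathlib.Algebra.Category.ModuleCat.Colimits
import Mathlib.Algebra.Category.ModuleCat.Abelian
import Mathlib.Algebra.Homology.ShortComplex.ExactFunctor
import Mathlib.Algebra.Homology.ShortComplex.ModuleCat
import Mathlib.LinearAlgebra.TensorProduct.RightExactness

/-!
Eilenberg–Watts for module categories over commutative rings.
-/

namespace Groth.Agent.H15.EW

open CategoryTheory CategoryTheory.Limits
open scoped TensorProduct

universe u

variable {A B : Type u} [CommRing A] [CommRing B] (F : ModuleCat.{u} A ⥤ ModuleCat.{u} B) [F.Additive]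

/-- The representing bimodule. -/
abbrev K : Type u := F.obj (ModuleCat.of A A)

/-- Multiplication by `a` on `A`. -/
noncomputable def mulA (a : A) : ModuleCat.of A A ⟶ ModuleCat.of A A := ModuleCat.ofHom (LinearMap.mulLeft A a)

/-- The `A`-action. -/
noncomputable def act : A →+* Module.End B (K F) where
  toFun a := (F.map (mulA a)).hom
  map_one' := by
    rw [show mulA (1 : A) = 𝟙 (ModuleCat.of A A) by ext; simp [mulA], F.map_id]
    rfl
  map_mul' a b := by
    rw [show mulA (a * b) = mulA b ≫ mulA a by ext; simp [mulA, mul_assoc], F.map_comp]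
    rfl
  map_zero' := by
    rw [show mulA (0 : A) = 0 by ext; simp [mulA], F.map_zero]
    rfl
  map_add' a b := by
    rw [show mulA (a + b) = mulA a + mulA b by ext; simp [mulA, add_mul], F.map_add]
    rfl

noncomputable instance instModule : Module A (K F) := Module.compHom (K F) (act F)

theorem smul_def (a : A) (k : K F) : a • k = (F.map (mulA a)).hom k := rfl

instance instSMulComm : SMulCommClass A B (K F) :=
  ⟨fun a b k => ((F.map (mulA a)).hom.map_smul b k)⟩

/-- The map `A → M` sending `1` to `m`. -/
noncomputable def pt {M : ModuleCat.{u} A} (m : M) : ModuleCat.of A A ⟶ M :=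
  ModuleCat.ofHom (LinearMap.toSpanSingleton A M m)

theorem pt_smul {M : ModuleCat.{u} A} (a : A) (m : M) : pt (a • m) = mulA a ≫ pt m := by
  ext; simp [pt, mulA]

theorem pt_comp {M N : ModuleCat.{u} A} (f : M ⟶ N) (m : M) : pt m ≫ f = pt (f.hom m) := by
  ext; simp [pt]

/-- The comparison map, additively. -/
noncomputable def betaAdd (M : ModuleCat.{u} A) : (K F ⊗[A] M) →+ F.obj M :=
  TensorProduct.liftAddHom
    { toFun := fun k =>
        { toFun := fun m => (F.map (pt m)).hom k
          map_zero' := by
            rw [show pt (0 : M) = 0 by ext; simp [pt], F.map_zero]; rfl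
          map_add' := fun m m' => by
            rw [show pt (m + m') = pt m + pt m' by ext; simp [pt], F.map_add]; rfl }
      map_zero' := by
        ext m
        exact map_zero (F.map (pt m)).hom
      map_add' := fun k k' => by
        ext m
        exact map_add (F.map (pt m)).hom k k' }
    (fun a k m => by
      show (F.map (pt m)).hom (a • k) = (F.map (pt (a • m))).hom k
      rw [pt_smul, F.map_comp]
      rfl)

theorem betaAdd_tmul {M : ModuleCat.{u} A} (k : K F) (m : M) : betaAdd F M (k ⊗ₜ[A] m) = (F.map (pt m)).hom k := by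
  rw [betaAdd, TensorProduct.liftAddHom_tmul]
  rfl

/-- The comparison map. -/
noncomputable def beta (M : ModuleCat.{u} A) : (K F ⊗[A] M) →ₗ[B] F.obj M where
  toFun := betaAdd F M
  map_add' := map_add _
  map_smul' b z := by
    simp only [RingHom.id_apply]
    induction z using TensorProduct.induction_on with
    | zero => simp
    | tmul k m =>
      rw [TensorProduct.smul_tmul', betaAdd_tmul, betaAdd_tmul]
      exact map_smul (F.map (pt m)).hom b k
    | add x y hx hy => rw [smul_add, map_add, map_add, hx, hy, smul_add]

theorem beta_tmul {M : ModuleCat.{u} A} (k : K F) (m : M) : beta F M (k ⊗ₜ[A] m) = (F.map (pt m)).hom k :=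
  betaAdd_tmul F k m

theorem beta_natural {M N : ModuleCat.{u} A} (f : M ⟶ N) (z : K F ⊗[A] M) :
    beta F N (f.hom.lTensor (K F) z) = (F.map f).hom (beta F M z) := by
  induction z using TensorProduct.induction_on with
  | zero => simp
  | tmul k m =>
    rw [LinearMap.lTensor_tmul, beta_tmul, beta_tmul, ← pt_comp, F.map_comp]
    rfl
  | add x y hx hy => rw [map_add, map_add, map_add, map_add, hx, hy]

theorem beta_free (ι : Type u) [∀ J : Type u, PreservesColimitsOfShape (Discrete J) F] :
    Function.Bijective (beta F (ModuleCat.of A (ι →₀ A))) := by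
  classical
  let c := ModuleCat.finsuppCocone A A ι
  have hc : IsColimit (F.mapCocone c) := isColimitOfPreserves F (ModuleCat.finsuppCoconeIsColimit A A ι)
  let s : Cocone (Discrete.functor (fun _ : ι => ModuleCat.of A A) ⋙ F) :=
    { pt := ModuleCat.of B (K F ⊗[A] (ι →₀ A))
      ι := Discrete.natTrans fun i => ModuleCat.ofHom (X := F.obj (ModuleCat.of A A))
        { toFun := fun k => k ⊗ₜ[A] Finsupp.single i.as (1 : A)
          map_add' := fun _ _ => TensorProduct.add_tmul _ _ _
          map_smul' := fun _ _ => (TensorProduct.smul_tmul' _ _ _).symm } }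
  let γ : F.obj (ModuleCat.of A (ι →₀ A)) ⟶ s.pt := hc.desc s
  have hfac : ∀ (i : ι) (k : K F), γ.hom ((F.map (pt (Finsupp.single i (1 : A) : ModuleCat.of A (ι →₀ A)))).hom k) =
      k ⊗ₜ[A] Finsupp.single i (1 : A) := by
    intro i k
    have h := congrArg (fun g => g.hom k) (hc.fac s ⟨i⟩)
    have he : (pt (Finsupp.single i (1 : A) : ModuleCat.of A (ι →₀ A))) = ModuleCat.ofHom (Finsupp.lsingle i) := by
      ext; simp [pt]
    rw [he]
    exact h
  have hl : ∀ z, γ.hom (beta F (ModuleCat.of A (ι →₀ A)) z) = z := by
    intro z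
    induction z using TensorProduct.induction_on with
    | zero => exact (congrArg γ.hom (map_zero _)).trans (map_zero _)
    | tmul k v =>
      change ι →₀ A at v
      induction v using Finsupp.induction_linear with
      | zero => simp
      | add v w hv hw => rw [TensorProduct.tmul_add, map_add, map_add, hv, hw]
      | single i a =>
        rw [← Finsupp.smul_single_one i a]
        rw [← TensorProduct.smul_tmul, beta_tmul]
        exact hfac i (a • k)
    | add x y hx hy => rw [map_add, map_add, hx, hy]
  have hr : γ ≫ ModuleCat.ofHom (beta F (ModuleCat.of A (ι →₀ A))) = 𝟙 _ := by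
    refine hc.hom_ext fun i => ?_
    refine (hc.fac_assoc s i _).trans (Eq.trans ?_ (Category.comp_id _).symm)
    ext k
    show beta F (ModuleCat.of A (ι →₀ A)) (k ⊗ₜ[A] (Finsupp.single i.as (1 : A) : ModuleCat.of A (ι →₀ A))) = _
    rw [beta_tmul]
    have he : (pt (Finsupp.single i.as (1 : A) : ModuleCat.of A (ι →₀ A))) = ModuleCat.ofHom (Finsupp.lsingle i.as) := by
      ext; simp [pt]
    rw [he]
    rfl
  exact ⟨Function.LeftInverse.injective hl, Function.RightInverse.surjective (fun y => congrArg (fun g => g.hom y) hr)⟩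

theorem beta_bijective [PreservesFiniteColimits F] [∀ J : Type u, PreservesColimitsOfShape (Discrete J) F]
    (M : ModuleCat.{u} A) : Function.Bijective (beta F M) := by
  classical
  let π : ModuleCat.of A (M →₀ A) ⟶ M := ModuleCat.ofHom (Finsupp.linearCombination A (id : M → M))
  have hπ : Function.Surjective π.hom := fun m => ⟨Finsupp.single m 1, by simp [π]⟩
  let K' := LinearMap.ker π.hom
  let d : ModuleCat.of A (K' →₀ A) ⟶ ModuleCat.of A (M →₀ A) :=
    ModuleCat.ofHom (Finsupp.linearCombination A (Subtype.val : K' → (M →₀ A)))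
  have hd : LinearMap.range d.hom = LinearMap.ker π.hom := by
    rw [show d.hom = Finsupp.linearCombination A (Subtype.val : K' → (M →₀ A)) from rfl, Finsupp.range_linearCombination,
      Subtype.range_coe_subtype]
    exact Submodule.span_eq K'
  have hex : Function.Exact d.hom π.hom := LinearMap.exact_iff.mpr hd.symm
  have hdπ : d ≫ π = 0 := by
    ext1
    exact LinearMap.ext fun x => hex.apply_apply_eq_zero x
  let S : ShortComplex (ModuleCat.{u} A) := ShortComplex.mk d π hdπ
  haveI : Epi S.g := (ModuleCat.epi_iff_surjective _).mpr hπ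
  have hS : S.Exact := (ShortComplex.ShortExact.moduleCat_exact_iff_function_exact S).mpr hex
  have htfae : PreservesFiniteColimits F ↔ ∀ (T : ShortComplex (ModuleCat.{u} A)), T.Exact ∧ Epi T.g → (T.map F).Exact ∧ Epi (F.map T.g) :=
    (Functor.preservesFiniteColimits_tfae F).out 3 1
  obtain ⟨hFS, hFg⟩ := htfae.mp inferInstance S ⟨hS, inferInstance⟩
  have hFex : Function.Exact (F.map d).hom (F.map π).hom :=
    (ShortComplex.ShortExact.moduleCat_exact_iff_function_exact (S.map F)).mp hFS
  have hFs : Function.Surjective (F.map π).hom := (ModuleCat.epi_iff_surjective (F.map S.g)).mp hFg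
  have hTex : Function.Exact (d.hom.lTensor (K F)) (π.hom.lTensor (K F)) := lTensor_exact (K F) hex hπ
  refine ⟨?_, fun y => ?_⟩
  · rw [injective_iff_map_eq_zero]
    intro z hz
    obtain ⟨y, rfl⟩ := LinearMap.lTensor_surjective (K F) hπ z
    rw [beta_natural] at hz
    obtain ⟨w, hw⟩ := (hFex _).mp hz
    obtain ⟨w', rfl⟩ := (beta_free F K').2 w
    rw [← beta_natural] at hw
    rw [← (beta_free F M).1 hw]
    exact hTex.apply_apply_eq_zero w'
  · obtain ⟨x, rfl⟩ := hFs y
    obtain ⟨z, rfl⟩ := (beta_free F M).2 x
    exact ⟨_, beta_natural F π z⟩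

/-- The equivalence. -/
noncomputable def equiv [PreservesFiniteColimits F] [∀ J : Type u, PreservesColimitsOfShape (Discrete J) F]
    (M : ModuleCat.{u} A) : (K F ⊗[A] M) ≃ₗ[B] F.obj M :=
  LinearEquiv.ofBijective (beta F M) (beta_bijective F M)

theorem natTrans_ext [PreservesFiniteColimits F] [∀ J : Type u, PreservesColimitsOfShape (Discrete J) F]
    {G : ModuleCat.{u} A ⥤ ModuleCat.{u} B} (t t' : F ⟶ G) (h : t.app (ModuleCat.of A A) = t'.app (ModuleCat.of A A)) :
    t = t' := by
  ext1; ext1 M
  refine ModuleCat.hom_ext (LinearMap.ext fun y => ?_)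
  obtain ⟨z, rfl⟩ := (beta_bijective F M).2 y
  induction z using TensorProduct.induction_on with
  | zero => simp
  | tmul k m =>
    rw [beta_tmul]
    have h1 := congrArg (fun g => g.hom k) (t.naturality (pt m))
    have h2 := congrArg (fun g => g.hom k) (t'.naturality (pt m))
    simp only [ModuleCat.hom_comp, LinearMap.comp_apply] at h1 h2
    rw [h1, h2, h]
  | add x y hx hy => rw [map_add, map_add, map_add, hx, hy]

theorem exists_natTrans_iff [PreservesFiniteColimits F] [∀ J : Type u, PreservesColimitsOfShape (Discrete J) F]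
    (G : ModuleCat.{u} A ⥤ ModuleCat.{u} B) [G.Additive] (φ : F.obj (ModuleCat.of A A) ⟶ G.obj (ModuleCat.of A A)) :
    (∃ t : F ⟶ G, t.app (ModuleCat.of A A) = φ) ↔
      ∀ a : A, F.map (a • 𝟙 (ModuleCat.of A A)) ≫ φ = φ ≫ G.map (a • 𝟙 (ModuleCat.of A A)) := by
  constructor
  · rintro ⟨t, rfl⟩ a
    exact t.naturality _
  · intro h
    have hmul : ∀ a : A, a • 𝟙 (ModuleCat.of A A) = mulA a := fun a => by ext; simp [mulA]
    have hlin : ∀ (a : A) (k : K F), φ.hom (a • k) = a • φ.hom k := fun a k => by
      have := congrArg (fun g => g.hom k) (h a)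
      rw [hmul] at this
      exact this
    let φ' : K F →ₗ[A] K G := { toFun := φ.hom, map_add' := map_add φ.hom, map_smul' := hlin }
    let app : ∀ M : ModuleCat.{u} A, F.obj M ⟶ G.obj M := fun M => ModuleCat.ofHom
      { toFun := fun y => beta G M (φ'.rTensor M ((equiv F M).symm y))
        map_add' := fun x y => by rw [map_add, map_add, map_add]
        map_smul' := fun b y => by
          rw [map_smul]
          generalize (equiv F M).symm y = z
          induction z using TensorProduct.induction_on with
          | zero => simp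
          | tmul k m =>
            rw [TensorProduct.smul_tmul', LinearMap.rTensor_tmul, LinearMap.rTensor_tmul, beta_tmul, beta_tmul,
              RingHom.id_apply]
            exact (congrArg _ (φ.hom.map_smul b k)).trans (map_smul _ b _)
          | add x y hx hy => simp only [smul_add, map_add, hx, hy] }
    refine ⟨{ app := app, naturality := fun M N f => ?_ }, ?_⟩
    · refine ModuleCat.hom_ext (LinearMap.ext fun y => ?_)
      obtain ⟨z, rfl⟩ := (beta_bijective F M).2 y
      show beta G N (φ'.rTensor N ((equiv F N).symm ((F.map f).hom (beta F M z)))) =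
        (G.map f).hom (beta G M (φ'.rTensor M ((equiv F M).symm (beta F M z))))
      have e1 : (equiv F M).symm (beta F M z) = z := (equiv F M).symm_apply_apply z
      have e2 : (equiv F N).symm ((F.map f).hom (beta F M z)) = f.hom.lTensor (K F) z := by
        rw [← beta_natural]
        exact (equiv F N).symm_apply_apply _
      rw [e1, e2, ← beta_natural]
      congr 1
      clear e1 e2
      induction z using TensorProduct.induction_on with
      | zero => simp
      | tmul k m => rfl
      | add x y hx hy => simp only [map_add, hx, hy]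
    · refine ModuleCat.hom_ext (LinearMap.ext fun k => ?_)
      show beta G _ (φ'.rTensor _ ((equiv F _).symm k)) = φ.hom k
      have hk : (equiv F (ModuleCat.of A A)).symm k = k ⊗ₜ[A] (1 : A) := by
        rw [LinearEquiv.symm_apply_eq]
        show k = beta F _ (k ⊗ₜ[A] (1 : A))
        rw [beta_tmul, show pt ((1 : A) : ModuleCat.of A A) = 𝟙 (ModuleCat.of A A) by ext; simp [pt], F.map_id]
        rfl
      rw [hk, LinearMap.rTensor_tmul, beta_tmul,
        show pt ((1 : A) : ModuleCat.of A A) = 𝟙 (ModuleCat.of A A) by ext; simp [pt], G.map_id]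
      rfl

end Groth.Agent.H15.EW
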