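import Mathlib.RingTheory.Localization.Away.Basic
import Mathlib.RingTheory.Ideal.Quotient.Operations
import Mathlib.RingTheory.Finiteness.Ideal
import Mathlib.Tactic.LinearCombination
import Mathlib.Tactic.Ring

/-!
# Transporting a finite modification across a truncation
-/

set_option autoImplicit false

noncomputable section

universe u

namespace Groth.Agent.H15.GlueRing

theorem exists_conductor (A' A : Type u) [CommRing A'] [CommRing A] [Algebra A' A]
    [Module.Finite A' A] (f : A') (hf : algebraMap A' A f ∈ nonZeroDivisors A)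
    (hloc : Function.Bijective (IsLocalization.Away.map (Localization.Away f)
      (Localization.Away (algebraMap A' A f)) (algebraMap A' A) f)) :
    ∃ c : ℕ, ∀ a : A, ∃ a' : A', algebraMap A' A a' = algebraMap A' A f ^ c * a := by
  classical
  let F := algebraMap A' A f
  have hinjF : Function.Injective (algebraMap A (Localization.Away F)) :=
    IsLocalization.injective _ (show Submonoid.powers F ≤ nonZeroDivisors A from (Submonoid.powers_le).2 hf)
  have hone : ∀ a : A, ∃ (c : ℕ) (a' : A'), algebraMap A' A a' = F ^ c * a := fun a => by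
    obtain ⟨z, hz⟩ := hloc.2 (algebraMap A (Localization.Away F) a)
    obtain ⟨⟨a', ⟨_, c, rfl⟩⟩, hza⟩ := IsLocalization.surj (Submonoid.powers f) z
    refine ⟨c, a', hinjF ?_⟩
    have e := congrArg (IsLocalization.Away.map (Localization.Away f) (Localization.Away F) (algebraMap A' A) f) hza
    simp only [map_mul, IsLocalization.Away.map, IsLocalization.map_eq, map_pow] at e hz
    rw [hz] at e
    rw [map_mul, map_pow, mul_comm]
    exact e.symm
  obtain ⟨s, hs⟩ := Module.Finite.fg_top (R := A') (M := A)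
  choose c a' hca using hone
  refine ⟨s.sup c, fun a => ?_⟩
  have ha : a ∈ Submodule.span A' (s : Set A) := hs ▸ Submodule.mem_top
  induction ha using Submodule.span_induction with
  | mem x hx =>
    refine ⟨f ^ (s.sup c - c x) * a' x, ?_⟩
    rw [map_mul, map_pow, hca, ← mul_assoc, ← pow_add, Nat.sub_add_cancel (Finset.le_sup hx)]
  | zero => exact ⟨0, by simp⟩
  | add x y _ _ hx hy =>
    obtain ⟨u, hu⟩ := hx
    obtain ⟨v, hv⟩ := hy
    exact ⟨u + v, by rw [map_add, hu, hv, mul_add]⟩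
  | smul r x _ hx =>
    obtain ⟨u, hu⟩ := hx
    exact ⟨r * u, by rw [map_mul, hu, Algebra.smul_def, mul_left_comm]⟩

theorem main (A' A : Type u) [CommRing A'] [CommRing A] [Algebra A' A]
    (hinj : Function.Injective (algebraMap A' A)) [Module.Finite A' A] (f : A')
    (hf : algebraMap A' A f ∈ nonZeroDivisors A)
    (hloc : Function.Bijective (IsLocalization.Away.map (Localization.Away f)
      (Localization.Away (algebraMap A' A f)) (algebraMap A' A) f)) :
    ∃ n₀ : ℕ, 0 < n₀ ∧ ∀ n : ℕ, n₀ ≤ n →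
      ∀ (B' : Type u) [CommRing B'] (g : B'), g ∈ nonZeroDivisors B' →
        ∀ φ' : (A' ⧸ Ideal.span {f ^ n}) ≃+* (B' ⧸ Ideal.span {g ^ n}),
        φ' (Ideal.Quotient.mk (Ideal.span {f ^ n}) f) = Ideal.Quotient.mk (Ideal.span {g ^ n}) g →
        ∃ (B : Type u) (_ : CommRing B) (_ : Algebra B' B),
          Function.Injective (algebraMap B' B) ∧ Module.Finite B' B ∧
          ∃ φ : (A ⧸ Ideal.span {algebraMap A' A f}) ≃+* (B ⧸ Ideal.span {algebraMap B' B g}),
            ∀ (a' : A') (b' : B'),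
              φ' (Ideal.Quotient.mk (Ideal.span {f ^ n}) a') = Ideal.Quotient.mk (Ideal.span {g ^ n}) b' →
              φ (Ideal.Quotient.mk (Ideal.span {algebraMap A' A f}) (algebraMap A' A a')) =
                Ideal.Quotient.mk (Ideal.span {algebraMap B' B g}) (algebraMap B' B b') := by
  classical
  obtain ⟨c, hc⟩ := exists_conductor A' A f hf hloc
  choose j hj using hc
  refine ⟨2 * c + 1, by omega, fun n hn B' _ g hg φ' hφ' => ?_⟩
  set F := algebraMap A' A f with hF
  have hjlin : ∀ r a, j (r • a) = r * j a := fun r a => hinj (by rw [map_mul, hj, hj, Algebra.smul_def, mul_left_comm])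
  have hjadd : ∀ a b, j (a + b) = j a + j b := fun a b => hinj (by rw [map_add, hj, hj, hj, mul_add])
  have hjmul : ∀ a b, j a * j b = f ^ c * j (a * b) := fun a b => hinj (by rw [map_mul, map_mul, map_pow, hj, hj, hj]; ring)
  have hj1 : j 1 = f ^ c := hinj (by rw [hj, map_pow, mul_one])
  have hjalg : ∀ r, j (algebraMap A' A r) = f ^ c * r := fun r => hinj (by rw [hj, map_mul, map_pow])
  let J : Ideal A' :=
    { carrier := Set.range j
      add_mem' := by rintro _ _ ⟨a, rfl⟩ ⟨b, rfl⟩; exact ⟨a + b, hjadd a b⟩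
      zero_mem' := ⟨0, hinj (by rw [hj, mul_zero, map_zero])⟩
      smul_mem' := by rintro r _ ⟨a, rfl⟩; exact ⟨r • a, hjlin r a⟩ }
  have hJfg : J.FG := by
    obtain ⟨s, hs⟩ := Module.Finite.fg_top (R := A') (M := A)
    refine ⟨s.image j, le_antisymm (Submodule.span_le.2 fun z hz => by
      obtain ⟨a, -, rfl⟩ := Finset.mem_image.1 (Finset.mem_coe.1 hz)
      exact ⟨a, rfl⟩) ?_⟩
    rintro _ ⟨a, rfl⟩
    have ha : a ∈ Submodule.span A' (s : Set A) := hs ▸ Submodule.mem_top
    induction ha using Submodule.span_induction with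
    | mem x hx => exact Submodule.subset_span (Finset.mem_coe.2 (Finset.mem_image_of_mem _ hx))
    | zero => rw [show j 0 = 0 from hinj (by rw [hj, mul_zero, map_zero])]; exact Submodule.zero_mem _
    | add x y _ _ hx hy => rw [hjadd]; exact Submodule.add_mem _ hx hy
    | smul r x _ hx => rw [hjlin]; exact Submodule.smul_mem _ r hx
  let qA := Ideal.Quotient.mk (Ideal.span {f ^ n})
  let qB := Ideal.Quotient.mk (Ideal.span {g ^ n})
  have hpow : ∀ i, φ' (qA (f ^ i)) = qB (g ^ i) := fun i => by rw [map_pow, map_pow, hφ', map_pow]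
  have hqBn : qB (g ^ n) = 0 := Ideal.Quotient.eq_zero_iff_mem.2 (Ideal.mem_span_singleton_self _)
  let J' : Ideal B' := ((J.map qA).map φ'.toRingHom).comap qB
  have hmem : ∀ b, b ∈ J' ↔ ∃ a, φ' (qA (j a)) = qB b := by
    intro b
    rw [Ideal.mem_comap, Ideal.mem_map_iff_of_surjective φ'.toRingHom φ'.surjective]
    constructor
    · rintro ⟨x, hx, hxb⟩
      obtain ⟨_, ⟨a, rfl⟩, rfl⟩ := (Ideal.mem_map_iff_of_surjective qA Ideal.Quotient.mk_surjective).1 hx
      exact ⟨a, hxb⟩
    · rintro ⟨a, ha⟩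
      exact ⟨qA (j a), Ideal.mem_map_of_mem _ ⟨a, rfl⟩, ha⟩
  have hJ'fg : J'.FG := by
    refine Submodule.fg_of_fg_map_of_fg_inf_ker (Submodule.mkQ (Ideal.span {g ^ n})) ?_ ?_
    · have e : Submodule.map (Submodule.mkQ (Ideal.span {g ^ n})) J' =
          (((J.map qA).map φ'.toRingHom).restrictScalars B') := by
        ext z
        constructor
        · rintro ⟨b, hb, rfl⟩; exact hb
        · intro hz
          obtain ⟨b, rfl⟩ := Ideal.Quotient.mk_surjective z
          exact ⟨b, hz, rfl⟩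
      rw [e]
      exact Submodule.FG.restrictScalars_of_surjective ((hJfg.map qA).map φ'.toRingHom) Ideal.Quotient.mk_surjective
    · rw [Submodule.ker_mkQ]
      have : J' ⊓ Ideal.span {g ^ n} = Ideal.span {g ^ n} := inf_eq_right.2 (Ideal.span_le.2 (Set.singleton_subset_iff.2
        ((hmem _).2 ⟨0, by rw [show j 0 = 0 from hinj (by rw [hj, mul_zero, map_zero]), map_zero, map_zero, hqBn]⟩)))
      rw [this]
      exact Submodule.fg_span_singleton _
  let L := Localization.Away g
  have hgL : Function.Injective (algebraMap B' L) :=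
    IsLocalization.injective _ (show Submonoid.powers g ≤ nonZeroDivisors B' from (Submonoid.powers_le).2 hg)
  let G : L := algebraMap B' L g
  let ι : L := IsLocalization.Away.invSelf g
  have hGι : G * ι = 1 := IsLocalization.Away.mul_invSelf g
  have hpw : ∀ i, G ^ i * ι ^ i = 1 := fun i => by rw [← mul_pow, hGι, one_pow]
  let R : B' → A → Prop := fun b a => φ' (qA (j a)) = qB b
  let v : B' → L := fun b => algebraMap B' L b * ι ^ c
  have hlift : ∀ a, ∃ b, R b a := fun a => by
    obtain ⟨b, hb⟩ := Ideal.Quotient.mk_surjective (φ' (qA (j a)))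
    exact ⟨b, hb.symm⟩
  have hRadd : ∀ {b a b' a'}, R b a → R b' a' → R (b + b') (a + a') := fun {b a b' a'} h h' => by
    simp only [R] at h h' ⊢
    rw [hjadd, map_add, map_add, h, h', map_add]
  have hRmul : ∀ {b a} (r : B') (r' : A'), φ' (qA r') = qB r → R b a → R (r * b) (algebraMap A' A r' * a) :=
    fun {b a} r r' hr h => by
      simp only [R] at h ⊢
      rw [← Algebra.smul_def, hjlin, map_mul, map_mul, hr, h, map_mul]
  have hsur : ∀ t, ∃ t', φ' (qA t') = qB t := fun t => by
    obtain ⟨x, hx⟩ := φ'.surjective (qB t)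
    obtain ⟨t', rfl⟩ := Ideal.Quotient.mk_surjective x
    exact ⟨t', hx⟩
  have hRpow : ∀ e, c ≤ e → ∀ (t : B'), ∃ a, R (g ^ e * t) a ∧ (c < e → a ∈ Ideal.span {F}) := fun e he t => by
    obtain ⟨t', ht'⟩ := hsur t
    refine ⟨algebraMap A' A (f ^ (e - c) * t'), ?_, fun he' => ?_⟩
    · show φ' (qA (j _)) = qB _
      rw [hjalg, ← mul_assoc, ← pow_add, Nat.add_sub_cancel' he, map_mul, map_mul, hpow, ht', map_mul]
    · rw [map_mul, map_pow]
      exact Ideal.mul_mem_right _ _ (Ideal.pow_mem_of_mem _ (Ideal.mem_span_singleton_self _) _ (by omega))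
  have hprod : ∀ {b₁ a₁ b₂ a₂}, R b₁ a₁ → R b₂ a₂ →
      ∃ b₃ a₃, R b₃ a₃ ∧ a₃ - a₁ * a₂ ∈ Ideal.span {F} ∧ v b₁ * v b₂ = v b₃ := by
    intro b₁ a₁ b₂ a₂ h₁ h₂
    obtain ⟨b, hb⟩ := hlift (a₁ * a₂)
    have h : qB (b₁ * b₂) = qB (g ^ c * b) := by
      simp only [R] at h₁ h₂ hb
      rw [map_mul, ← h₁, ← h₂, map_mul qB, ← hb, ← map_mul φ', ← map_mul qA, hjmul, map_mul qA, map_mul φ', hpow]
    obtain ⟨t, ht⟩ := Ideal.mem_span_singleton'.1 ((Ideal.Quotient.mk_eq_mk_iff_sub_mem _ _).1 h)
    obtain ⟨e, he, hemem⟩ := hRpow (n - c) (by omega) t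
    refine ⟨b + g ^ (n - c) * t, a₁ * a₂ + e, hRadd hb he, by rw [add_sub_cancel_left]; exact hemem (by omega), ?_⟩
    have e1 : b₁ * b₂ = g ^ c * (b + g ^ (n - c) * t) := by
      rw [mul_add, ← mul_assoc, ← pow_add, Nat.add_sub_cancel' (show c ≤ n by omega)]
      linear_combination -ht
    calc v b₁ * v b₂ = algebraMap B' L (b₁ * b₂) * ι ^ c * ι ^ c := by simp only [v, map_mul]; ring
      _ = v (b + g ^ (n - c) * t) := by
        rw [e1, map_mul (algebraMap B' L) (g ^ c), map_pow]
        show G ^ c * _ * ι ^ c * ι ^ c = _ * ι ^ c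
        rw [mul_comm (G ^ c), mul_assoc _ (G ^ c), hpw, mul_one]
  have hzero : R 0 0 := by
    show φ' (qA (j 0)) = qB 0
    rw [show j 0 = 0 from hinj (by rw [hj, mul_zero, map_zero]), map_zero, map_zero, map_zero]
  have hone : ∀ r, ∃ r', R (g ^ c * r) (algebraMap A' A r') ∧ φ' (qA r') = qB r := fun r => by
    obtain ⟨r', hr'⟩ := hsur r
    exact ⟨r', by show φ' (qA (j _)) = qB _; rw [hjalg, map_mul, map_mul, hpow, hr', map_mul], hr'⟩
  have halg : ∀ r, v (g ^ c * r) = algebraMap B' L r := fun r => by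
    simp only [v, map_mul, map_pow]
    rw [mul_comm (algebraMap B' L g ^ c), mul_assoc, show algebraMap B' L g ^ c * ι ^ c = 1 from hpw c, mul_one]
  let B : Subalgebra B' L :=
    { carrier := {z | ∃ b a, R b a ∧ z = v b}
      mul_mem' := by
        rintro _ _ ⟨b₁, a₁, h₁, rfl⟩ ⟨b₂, a₂, h₂, rfl⟩
        obtain ⟨b₃, a₃, h₃, -, e⟩ := hprod h₁ h₂
        exact ⟨b₃, a₃, h₃, e⟩
      add_mem' := by
        rintro _ _ ⟨b₁, a₁, h₁, rfl⟩ ⟨b₂, a₂, h₂, rfl⟩
        exact ⟨b₁ + b₂, a₁ + a₂, hRadd h₁ h₂, by simp only [v, map_add, add_mul]⟩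
      algebraMap_mem' := fun r => by
        obtain ⟨r', hr, -⟩ := hone r
        exact ⟨g ^ c * r, _, hr, (halg r).symm⟩ }
  have hBv : ∀ {b a}, R b a → v b ∈ B := fun {b a} h => ⟨b, a, h, rfl⟩
  have hinjv : Function.Injective v := fun x y h => hgL (by
    have := congrArg (· * G ^ c) h
    simpa only [v, mul_assoc, mul_comm (ι ^ c), hpw, mul_one] using this)
  have hBinj : Function.Injective (algebraMap B' B) := fun x y h => hgL (congrArg Subtype.val h)
  have hfin : Module.Finite B' B := by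
    let vl : B' →ₗ[B'] L := (LinearMap.mulRight B' (ι ^ c)).comp (Algebra.linearMap B' L)
    have e : (Subalgebra.toSubmodule B) = Submodule.map vl J' := by
      ext z
      constructor
      · rintro ⟨b, a, h, rfl⟩; exact ⟨b, (hmem b).2 ⟨a, h⟩, rfl⟩
      · rintro ⟨b, hb, rfl⟩
        obtain ⟨a, ha⟩ := (hmem b).1 hb
        exact ⟨b, a, ha, rfl⟩
    have : (Subalgebra.toSubmodule B).FG := e ▸ Submodule.FG.map vl hJ'fg
    exact Module.Finite.iff_fg.2 this
  let GB : B := algebraMap B' B g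
  have key : ∀ {b a b' a'} (h : R b a) (h' : R b' a'),
      a - a' ∈ Ideal.span {F} ↔ (⟨v b, hBv h⟩ : B) - ⟨v b', hBv h'⟩ ∈ Ideal.span {GB} := by
    intro b a b' a' h h'
    rw [Ideal.mem_span_singleton', Ideal.mem_span_singleton']
    constructor
    · rintro ⟨e, he⟩
      obtain ⟨be, hbe⟩ := hlift e
      have hge := hRmul g f hφ' hbe
      have h0 : qB (b - (b' + g * be)) = 0 := by
        rw [map_sub, ← show φ' (qA (j a)) = qB b from h, ← show φ' (qA (j (a' + algebraMap A' A f * e))) = qB (b' + g * be) from hRadd h' hge,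
          show a' + algebraMap A' A f * e = a by rw [mul_comm, he]; ring, sub_self]
      obtain ⟨t, ht⟩ := Ideal.mem_span_singleton'.1 (Ideal.Quotient.eq_zero_iff_mem.1 h0)
      obtain ⟨e', he', -⟩ := hRpow (n - 1) (by omega) t
      refine ⟨⟨v (be + g ^ (n - 1) * t), hBv (hRadd hbe he')⟩, Subtype.ext ?_⟩
      show v _ * algebraMap B' L g = v b - v b'
      have : b - b' = g * (be + g ^ (n - 1) * t) := by
        rw [mul_add, ← mul_assoc, ← pow_succ', show n - 1 + 1 = n by omega]
        linear_combination -ht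
      calc v (be + g ^ (n - 1) * t) * algebraMap B' L g = algebraMap B' L (g * (be + g ^ (n - 1) * t)) * ι ^ c := by
            simp only [v, map_mul]; ring
        _ = v b - v b' := by rw [← this, map_sub, sub_mul]
    · rintro ⟨⟨_, be, e, hbe, rfl⟩, hz⟩
      have hz' : v be * algebraMap B' L g = v b - v b' := congrArg Subtype.val hz
      have hbb : b = b' + g * be := hinjv (by
        simp only [v, map_mul, map_add] at hz' ⊢
        linear_combination -hz')
      have hge := hRadd h' (hRmul g f hφ' hbe)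
      rw [← hbb] at hge
      have h0 : qA (j a - j (a' + algebraMap A' A f * e)) = 0 := by
        apply φ'.injective
        rw [map_sub, map_sub, show φ' (qA (j a)) = qB b from h, show φ' (qA (j (a' + algebraMap A' A f * e))) = qB b from hge,
          sub_self, map_zero]
      obtain ⟨t, ht⟩ := Ideal.mem_span_singleton'.1 (Ideal.Quotient.eq_zero_iff_mem.1 h0)
      refine ⟨e + F ^ (n - c - 1) * algebraMap A' A t, ?_⟩
      have h2 : F ^ c * (a - (a' + F * e)) = F ^ c * (F ^ (n - c) * algebraMap A' A t) := by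
        rw [← mul_assoc, ← pow_add, Nat.add_sub_cancel' (show c ≤ n by omega), mul_sub, ← hj, ← hj, ← map_sub, ← ht,
          map_mul, map_pow, mul_comm]
      have h3 := (mem_nonZeroDivisors_iff_right.1 (pow_mem hf c))
      have h4 : a - (a' + F * e) = F ^ (n - c) * algebraMap A' A t :=
        sub_eq_zero.1 (h3 _ (by rw [sub_mul, sub_eq_zero, mul_comm, h2, mul_comm]))
      rw [show n - c = n - c - 1 + 1 by omega, pow_succ] at h4
      linear_combination -h4
  let mkB := Ideal.Quotient.mk (Ideal.span {GB})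
  choose rep hrep using hlift
  let Φ₀ : A → B ⧸ Ideal.span {GB} := fun a => mkB ⟨v (rep a), hBv (hrep a)⟩
  have hΦ₀ : ∀ {b a} (h : R b a), Φ₀ a = mkB ⟨v b, hBv h⟩ := fun {b a} h =>
    (Ideal.Quotient.mk_eq_mk_iff_sub_mem _ _).2 ((key (hrep a) h).1 (by rw [sub_self]; exact Submodule.zero_mem _))
  let Φ : A →+* B ⧸ Ideal.span {GB} :=
    { toFun := Φ₀
      map_one' := by
        obtain ⟨r', hr, hr'⟩ := hone 1
        have h1 : R (g ^ c * 1) 1 := by
          show φ' (qA (j 1)) = qB _
          rw [hj1, hpow, mul_one]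
        rw [hΦ₀ h1, show (⟨v (g ^ c * 1), hBv h1⟩ : B) = 1 from Subtype.ext ((halg 1).trans (map_one _)), map_one]
      map_mul' := fun a₁ a₂ => by
        obtain ⟨b₃, a₃, h₃, hmem₃, e⟩ := hprod (hrep a₁) (hrep a₂)
        show Φ₀ _ = Φ₀ _ * Φ₀ _
        simp only [Φ₀]
        rw [← map_mul mkB, show (⟨v (rep a₁), hBv (hrep a₁)⟩ : B) * ⟨v (rep a₂), hBv (hrep a₂)⟩ = ⟨v b₃, hBv h₃⟩ from Subtype.ext e]
        exact ((Ideal.Quotient.mk_eq_mk_iff_sub_mem _ _).2 ((key h₃ (hrep (a₁ * a₂))).1 hmem₃)).symm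
      map_zero' := by
        rw [hΦ₀ hzero, show (⟨v 0, hBv hzero⟩ : B) = 0 from Subtype.ext (by simp [v]), map_zero]
      map_add' := fun a₁ a₂ => by
        rw [hΦ₀ (hRadd (hrep a₁) (hrep a₂))]
        simp only [Φ₀]
        rw [← map_add mkB]
        exact congrArg mkB (Subtype.ext (by simp only [v, map_add, add_mul]; rfl)) }
  have hker : RingHom.ker Φ = Ideal.span {F} := by
    ext a
    rw [RingHom.mem_ker]
    show Φ₀ a = 0 ↔ _
    rw [← map_zero mkB, show (0 : B) = ⟨v 0, hBv hzero⟩ from Subtype.ext (by simp [v]), Ideal.Quotient.mk_eq_mk_iff_sub_mem,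
      ← key (hrep a) hzero, sub_zero]
  have hsurj : Function.Surjective Φ := fun z => by
    obtain ⟨⟨_, b, a, h, rfl⟩, rfl⟩ := Ideal.Quotient.mk_surjective z
    exact ⟨a, hΦ₀ h⟩
  refine ⟨B, inferInstance, inferInstance, hBinj, hfin,
    (Ideal.quotEquivOfEq hker.symm).trans (RingHom.quotientKerEquivOfSurjective hsurj), fun a' b' hab => ?_⟩
  show Φ₀ (algebraMap A' A a') = _
  have h1 : R (g ^ c * b') (algebraMap A' A a') := by
    show φ' (qA (j _)) = qB _
    rw [hjalg, map_mul, map_mul, hpow, hab, map_mul]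
  rw [hΦ₀ h1]
  exact congrArg mkB (Subtype.ext (halg b'))

end Groth.Agent.H15.GlueRing
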