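import Mathlib.RingTheory.GradedAlgebra.Radical
import Mathlib.RingTheory.GradedAlgebra.Homogeneous.Ideal
import Mathlib.RingTheory.Ideal.Operations

/-!
# Homogeneous prime avoidance for `ℕ`-graded algebras
-/

set_option autoImplicit false

universe u v

namespace Groth.Agent.H15.HomogAvoid

variable {R : Type u} {A : Type v} [CommRing R] [CommRing A] [Algebra R A] (𝒜 : ℕ → Submodule R A) [GradedRing 𝒜]

theorem exists_hom_not_mem {J p : Ideal A} (hJ : J.IsHomogeneous 𝒜) (h : ¬ J ≤ p) :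
    ∃ d, ∃ a ∈ 𝒜 d, a ∈ J ∧ a ∉ p := by
  classical
  by_contra hcon
  push Not at hcon
  refine h fun x hx => ?_
  rw [← DirectSum.sum_support_decompose 𝒜 x]
  exact Ideal.sum_mem _ fun i _ => hcon i _ (DirectSum.decompose 𝒜 x i).2 (hJ i hx)

theorem exists_pos_not_mem {J p : Ideal A} (hJ : J.IsHomogeneous 𝒜) (hp : p.IsPrime)
    (hirr : ¬ (HomogeneousIdeal.irrelevant 𝒜).toIdeal ≤ p) (h : ¬ J ≤ p) :
    ∃ d, 0 < d ∧ ∃ a ∈ 𝒜 d, a ∈ J ∧ a ∉ p := by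
  obtain ⟨d, a, ha, haJ, hap⟩ := exists_hom_not_mem 𝒜 hJ h
  rw [HomogeneousIdeal.irrelevant_eq_span, Ideal.span_le, Set.not_subset] at hirr
  obtain ⟨b, hb, hbp⟩ := hirr
  simp only [Set.mem_iUnion] at hb
  obtain ⟨e, he, hb⟩ := hb
  exact ⟨d + e, by omega, a * b, SetLike.GradedMul.mul_mem ha hb, J.mul_mem_right _ haJ,
    fun hc => (hp.mem_or_mem hc).elim hap hbp⟩

theorem avoid {J : Ideal A} (hJ : J.IsHomogeneous 𝒜) (P : Finset (Ideal A))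
    (hP : ∀ p ∈ P, p.IsPrime ∧ ¬ (HomogeneousIdeal.irrelevant 𝒜).toIdeal ≤ p ∧ ¬ J ≤ p) :
    ∃ (z : A) (n : ℕ), 0 < n ∧ z ∈ 𝒜 n ∧ z ∈ J ∧ ∀ p ∈ P, z ∉ p := by
  classical
  let core : Ideal A → Ideal A := fun p => (p.homogeneousCore 𝒜).toIdeal
  let M := (P.image core).filter fun c => ∀ c' ∈ P.image core, c ≤ c' → c' = c
  have hmax : ∀ p ∈ P, ∃ m ∈ M, core p ≤ m := by
    intro p hp
    obtain ⟨m, hm, hle⟩ := ((P.image core).filter fun c => core p ≤ c).exists_maximal ⟨core p, Finset.mem_filter.2 ⟨Finset.mem_image_of_mem core hp, le_rfl⟩⟩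
    obtain ⟨hmP, hpm⟩ := Finset.mem_filter.1 hm
    exact ⟨m, Finset.mem_filter.2 ⟨hmP, fun c' hc' hmc => le_antisymm (hle (Finset.mem_filter.2 ⟨hc', hpm.trans hmc⟩) hmc) hmc⟩, hpm⟩
  have hMprop : ∀ m ∈ M, m.IsPrime ∧ m.IsHomogeneous 𝒜 ∧ ¬ (HomogeneousIdeal.irrelevant 𝒜).toIdeal ≤ m ∧ ¬ J ≤ m := by
    intro m hm
    obtain ⟨p, hp, rfl⟩ := Finset.mem_image.1 (Finset.mem_filter.1 hm).1
    obtain ⟨h1, h2, h3⟩ := hP p hp
    have hle := Ideal.toIdeal_homogeneousCore_le 𝒜 p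
    exact ⟨h1.homogeneousCore, (p.homogeneousCore 𝒜).isHomogeneous, fun h => h2 (h.trans hle), fun h => h3 (h.trans hle)⟩
  have hsel : ∀ m ∈ M, ∃ e, 0 < e ∧ ∃ c ∈ 𝒜 e, c ∈ J ∧ c ∉ m ∧ ∀ m' ∈ M, m' ≠ m → c ∈ m' := by
    intro m hm
    obtain ⟨hmp, hmh, hmi, hmJ⟩ := hMprop m hm
    obtain ⟨d, hd, a, ha, haJ, ham⟩ := exists_pos_not_mem 𝒜 hJ hmp hmi hmJ
    have hb : ∀ m' ∈ M.erase m, ∃ e, ∃ b ∈ 𝒜 e, b ∈ m' ∧ b ∉ m := fun m' hm' => by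
      obtain ⟨hne, hm'⟩ := Finset.mem_erase.1 hm'
      exact exists_hom_not_mem 𝒜 (hMprop m' hm').2.1 fun hle => hne ((Finset.mem_filter.1 hm').2 m (Finset.mem_filter.1 hm).1 hle).symm
    choose eb b hb hbm' hbm using hb
    refine ⟨d + ∑ y ∈ (M.erase m).attach, eb y.1 y.2, by omega, a * ∏ y ∈ (M.erase m).attach, b y.1 y.2,
      SetLike.GradedMul.mul_mem ha (SetLike.prod_mem_graded (A := 𝒜) (F := (M.erase m).attach) (i := fun y : {x // x ∈ M.erase m} => eb y.1 y.2) (g := fun y : {x // x ∈ M.erase m} => b y.1 y.2) fun y _ => hb y.1 y.2), J.mul_mem_right _ haJ, ?_, ?_⟩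
    · intro h
      refine (hmp.mem_or_mem h).elim ham fun h => ?_
      obtain ⟨y, -, hy⟩ := hmp.prod_mem_iff.1 h
      exact hbm y.1 y.2 hy
    · intro m' hm' hne
      exact m'.mul_mem_left _ (Ideal.prod_mem m' (Finset.mem_attach _ ⟨m', Finset.mem_erase.2 ⟨hne, hm'⟩⟩) (hbm' _ _))
  choose e he c hc hcJ hcm hcy using hsel
  let D := ∏ x ∈ M.attach, e x.1 x.2
  have hD : 0 < D := Finset.prod_pos fun x _ => he x.1 x.2
  have hdvd : ∀ x : {x // x ∈ M}, e x.1 x.2 ∣ D := fun x =>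
    Finset.dvd_prod_of_mem (fun x : {x // x ∈ M} => e x.1 x.2) (Finset.mem_attach _ x)
  have hq : ∀ x : {x // x ∈ M}, 0 < D / e x.1 x.2 := fun x => Nat.div_pos (Nat.le_of_dvd hD (hdvd x)) (he x.1 x.2)
  refine ⟨∑ x ∈ M.attach, c x.1 x.2 ^ (D / e x.1 x.2), D, hD, Submodule.sum_mem _ fun x _ => ?_,
    Ideal.sum_mem _ fun x _ => Ideal.pow_mem_of_mem _ (hcJ x.1 x.2) _ (hq x), fun p hp hmem => ?_⟩
  · have h := SetLike.pow_mem_graded (D / e x.1 x.2) (hc x.1 x.2)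
    rwa [smul_eq_mul, Nat.div_mul_cancel (hdvd x)] at h
  · obtain ⟨m, hm, hpm⟩ := hmax p hp
    have hmp := (hMprop m hm).1
    have hdeg : ∑ x ∈ M.attach, c x.1 x.2 ^ (D / e x.1 x.2) ∈ 𝒜 D := Submodule.sum_mem _ fun x _ => by
      have h := SetLike.pow_mem_graded (D / e x.1 x.2) (hc x.1 x.2)
      rwa [smul_eq_mul, Nat.div_mul_cancel (hdvd x)] at h
    have hmem' := hpm (Ideal.mem_homogeneousCore_of_homogeneous_of_mem ⟨D, hdeg⟩ hmem)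
    rw [← Finset.add_sum_erase _ _ (Finset.mem_attach M ⟨m, hm⟩)] at hmem'
    refine hcm m hm (hmp.mem_of_pow_mem _ ((Ideal.add_mem_iff_left _ ?_).1 hmem'))
    exact Ideal.sum_mem _ fun y hy => Ideal.pow_mem_of_mem _ (hcy y.1 y.2 m hm fun h => (Finset.mem_erase.1 hy).1 (Subtype.ext h.symm)) _ (hq y)

end Groth.Agent.H15.HomogAvoid
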