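import Groth.Agent.Lib.CycAlg.Smul
import Groth.Agent.Lib.Cyc.Ord
import Mathlib.Algebra.Module.Lattice
import Mathlib.LinearAlgebra.Matrix.Transvection
import Mathlib.LinearAlgebra.Determinant
import Groth.Prelude.Def_Tame

/-!
# Distance between lattices over a one-dimensional Noetherian local domain
-/

set_option autoImplicit false

universe u

namespace Groth.Agent.H15.LatticeDist

open Module

variable {A : Type u} [CommRing A] {V : Type u} [AddCommGroup V] [Module A V]

/-- The length of `M / (M ⊓ L)`. -/
noncomputable def rlen (M L : Submodule A V) : ℕ∞ := Module.length A (↥M ⧸ L.submoduleOf M)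

/-- The distance `len (M / M⊓N) - len (N / M⊓N)`. -/
noncomputable def dist (M N : Submodule A V) : ℤ :=
  ((rlen M (M ⊓ N)).toNat : ℤ) - ((rlen N (M ⊓ N)).toNat : ℤ)

theorem rlen_add {L N M : Submodule A V} (h₁ : L ≤ N) (h₂ : N ≤ M) :
    rlen M L = rlen N L + rlen M N := by
  let f : (↥N ⧸ L.submoduleOf N) →ₗ[A] (↥M ⧸ L.submoduleOf M) :=
    Submodule.mapQ _ _ (Submodule.inclusion h₂) (fun x hx => hx)
  let g : (↥M ⧸ L.submoduleOf M) →ₗ[A] (↥M ⧸ N.submoduleOf M) :=
    Submodule.factor (fun x hx => h₁ hx)
  refine Module.length_eq_add_of_exact f g ?_ ?_ ?_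
  · rw [injective_iff_map_eq_zero]
    intro q hq
    obtain ⟨x, rfl⟩ := Submodule.Quotient.mk_surjective _ q
    have hq' : (Submodule.Quotient.mk (Submodule.inclusion h₂ x) : ↥M ⧸ L.submoduleOf M) = 0 := hq
    have hmem : (x : V) ∈ L := (Submodule.Quotient.mk_eq_zero (L.submoduleOf M) (x := Submodule.inclusion h₂ x)).1 hq'
    exact (Submodule.Quotient.mk_eq_zero _).2 hmem
  · intro q
    obtain ⟨x, rfl⟩ := Submodule.Quotient.mk_surjective _ q
    exact ⟨Submodule.Quotient.mk x, rfl⟩
  · intro q
    obtain ⟨x, rfl⟩ := Submodule.Quotient.mk_surjective _ q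
    constructor
    · intro hx
      have hx' : (x : V) ∈ N := (Submodule.Quotient.mk_eq_zero (N.submoduleOf M) (x := x)).1 hx
      exact ⟨Submodule.Quotient.mk ⟨x, hx'⟩, rfl⟩
    · rintro ⟨y, hy⟩
      obtain ⟨y, rfl⟩ := Submodule.Quotient.mk_surjective _ y
      rw [← hy]
      exact (Submodule.Quotient.mk_eq_zero _).2 y.2

theorem rlen_self (M : Submodule A V) : rlen M M = 0 := by
  have : Subsingleton (↥M ⧸ M.submoduleOf M) := by
    exact Submodule.Quotient.subsingleton_iff.2 (Submodule.submoduleOf_self M)
  exact Module.length_eq_zero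

theorem rlen_map {f : V →ₗ[A] V} (hf : Function.Injective f) {L M : Submodule A V} (h : L ≤ M) :
    rlen (M.map f) (L.map f) = rlen M L := by
  have hmap : (L.submoduleOf M).map (Submodule.equivMapOfInjective f hf M).toLinearMap =
      (L.map f).submoduleOf (M.map f) := by
    ext ⟨y, hy⟩
    constructor
    · rintro ⟨x, hx, hxy⟩
      exact ⟨(x : V), hx, congrArg Subtype.val hxy⟩
    · rintro ⟨x, hx, hxy⟩
      exact ⟨⟨x, h hx⟩, hx, Subtype.ext hxy⟩
  exact (Submodule.Quotient.equiv _ _ (Submodule.equivMapOfInjective f hf M) hmap).length_eq.symm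

variable (K : Type u) [Field K] [Algebra A K] [Module K V] [IsScalarTower A K V]

theorem exists_smul_le [IsDomain A] [IsFractionRing A K] (M N : Submodule A V)
    [Submodule.IsLattice K M] [Submodule.IsLattice K N] :
    ∃ a : A, a ≠ 0 ∧ ∀ x ∈ M, a • x ∈ N := by
  have key : ∀ v : V, ∃ a : A, a ≠ 0 ∧ a • v ∈ N := by
    intro v
    have hv : v ∈ Submodule.span K (N : Set V) := by
      rw [Submodule.IsLattice.span_eq_top (A := K)]
      trivial
    induction hv using Submodule.span_induction with
    | mem x hx => exact ⟨1, one_ne_zero, by rwa [one_smul]⟩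
    | zero => exact ⟨1, one_ne_zero, by simp⟩
    | add x y _ _ hx hy =>
      obtain ⟨a, ha, hax⟩ := hx
      obtain ⟨b, hb, hby⟩ := hy
      refine ⟨a * b, mul_ne_zero ha hb, ?_⟩
      rw [smul_add]
      refine add_mem ?_ ?_
      · rw [mul_comm, mul_smul]; exact N.smul_mem _ hax
      · rw [mul_smul]; exact N.smul_mem _ hby
    | smul c x _ hx =>
      obtain ⟨a, ha, hax⟩ := hx
      obtain ⟨p, q, hq, hc⟩ := IsFractionRing.div_surjective A c
      refine ⟨a * q, mul_ne_zero ha (nonZeroDivisors.ne_zero hq), ?_⟩
      have hq0 : algebraMap A K q ≠ 0 :=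
        IsFractionRing.to_map_ne_zero_of_mem_nonZeroDivisors hq
      have e : (q • (c • x) : V) = p • x := by
        rw [← algebraMap_smul K q, ← algebraMap_smul K p, smul_smul, ← hc, mul_div_cancel₀ _ hq0]
      rw [mul_smul, e, smul_comm]
      exact N.smul_mem _ hax
  obtain ⟨s, hs⟩ := Submodule.IsLattice.fg (A := K) (M := M)
  classical
  choose a ha hav using key
  refine ⟨∏ x ∈ s, a x, Finset.prod_ne_zero_iff.2 fun x _ => ha x, fun x hx => ?_⟩
  rw [← hs] at hx
  induction hx using Submodule.span_induction with
  | mem g hg =>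
    obtain ⟨c, hc⟩ := Finset.dvd_prod_of_mem a hg
    rw [hc, mul_comm, mul_smul]
    exact N.smul_mem _ (hav g)
  | zero => simp
  | add u v _ _ hu hv => rw [smul_add]; exact add_mem hu hv
  | smul c u _ hu => rw [smul_comm]; exact N.smul_mem _ hu

theorem isLattice_map (M : Submodule A V) [Submodule.IsLattice K M] (g : V →ₗ[K] V)
    (hg : Function.Surjective g) : Submodule.IsLattice K (M.map (g.restrictScalars A)) where
  fg := Submodule.FG.map _ (Submodule.IsLattice.fg (A := K))
  span_eq_top := by
    rw [Submodule.map_coe, LinearMap.coe_restrictScalars, Submodule.span_image,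
      Submodule.IsLattice.span_eq_top (A := K), Submodule.map_top, LinearMap.range_eq_top.2 hg]

variable [IsDomain A] [IsNoetherianRing A] [IsFractionRing A K] [FiniteDimensional K V]

omit [FiniteDimensional K V] in
theorem isLattice_inf (M N : Submodule A V) [Submodule.IsLattice K M] [Submodule.IsLattice K N] :
    Submodule.IsLattice K (M ⊓ N) where
  fg := by
    have : Module.Finite A M := Submodule.IsLattice.finite K M
    have : IsNoetherian A ↥(M ⊓ N) := isNoetherian_of_le inf_le_left
    rw [← Module.Finite.iff_fg]
    infer_instance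
  span_eq_top := by
    obtain ⟨a, ha, haN⟩ := exists_smul_le K M N
    rw [eq_top_iff, ← Submodule.IsLattice.span_eq_top (A := K) (M := M), Submodule.span_le]
    intro x hx
    have ha0 : algebraMap A K a ≠ 0 := by simpa using ha
    have : x = (algebraMap A K a)⁻¹ • (a • x) := by
      rw [← algebraMap_smul K a x, smul_smul, inv_mul_cancel₀ ha0, one_smul]
    rw [SetLike.mem_coe, this]
    exact Submodule.smul_mem _ _ (Submodule.subset_span ⟨M.smul_mem a hx, haN x hx⟩)

omit [FiniteDimensional K V] in
theorem rlen_lt_top (hA : ringKrullDim A ≤ 1) (M L : Submodule A V) [Submodule.IsLattice K M]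
    [Submodule.IsLattice K L] : rlen M L < ⊤ := by
  obtain ⟨a, ha, haL⟩ := exists_smul_le K M L
  have : Module.Finite A M := Submodule.IsLattice.finite K M
  refine Groth.Agent.Lib.CycAlg.Smul.length_lt_top_of_killed (M := A) (x := a) ?_ _ ?_ ?_
  · rw [← Submodule.ideal_span_singleton_smul, smul_eq_mul, Ideal.mul_top,
      Module.supportDim_eq_ringKrullDim_quotient_annihilator, Ideal.annihilator_quotient]
    have h := ringKrullDim_quotient_succ_le_of_nonZeroDivisor
      (R := A) (r := a) (mem_nonZeroDivisors_of_ne_zero ha)
    generalize ringKrullDim (A ⧸ Ideal.span {a}) = d at h ⊢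
    have h' : d + 1 ≤ 0 + 1 := by simpa using h.trans hA
    induction d using WithBot.recBotCoe with
    | bot => exact bot_le
    | coe e =>
      have : e + 1 ≤ 0 + 1 := WithBot.coe_le_coe.1 h'
      exact WithBot.coe_le_coe.2 (WithTop.le_of_add_le_add_right WithTop.one_ne_top this)
  · intro p _
    rw [Module.support_eq_zeroLocus, PrimeSpectrum.mem_zeroLocus]
    intro r hr
    have : r = 0 := by simpa using Module.mem_annihilator.1 hr 1
    rw [this]
    exact zero_mem _
  · intro q
    obtain ⟨x, rfl⟩ := Submodule.Quotient.mk_surjective _ q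
    rw [← Submodule.Quotient.mk_smul, Submodule.Quotient.mk_eq_zero]
    exact haL x x.2

variable {K} (hA : ringKrullDim A ≤ 1)

include hA in
theorem dist_eq {L M N : Submodule A V} [Submodule.IsLattice K L] [Submodule.IsLattice K M]
    [Submodule.IsLattice K N] (h₁ : L ≤ M) (h₂ : L ≤ N) :
    dist M N = ((rlen M L).toNat : ℤ) - ((rlen N L).toNat : ℤ) := by
  have hI : L ≤ M ⊓ N := le_inf h₁ h₂
  have hlat : Submodule.IsLattice K (M ⊓ N) := isLattice_inf K M N
  rw [dist, rlen_add hI inf_le_left, rlen_add hI inf_le_right,
    ENat.toNat_add (rlen_lt_top K hA _ _).ne (rlen_lt_top K hA _ _).ne,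
    ENat.toNat_add (rlen_lt_top K hA _ _).ne (rlen_lt_top K hA _ _).ne]
  push_cast
  ring

include hA in
theorem dist_add (M N P : Submodule A V) [Submodule.IsLattice K M] [Submodule.IsLattice K N]
    [Submodule.IsLattice K P] : dist M N + dist N P = dist M P := by
  have : Submodule.IsLattice K (M ⊓ N) := isLattice_inf K M N
  have : Submodule.IsLattice K (M ⊓ N ⊓ P) := isLattice_inf K _ P
  rw [dist_eq (K := K) hA (L := M ⊓ N ⊓ P) (inf_le_left.trans inf_le_left)
      (inf_le_left.trans inf_le_right),
    dist_eq (K := K) hA (L := M ⊓ N ⊓ P) (inf_le_left.trans inf_le_right) inf_le_right,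
    dist_eq (K := K) hA (L := M ⊓ N ⊓ P) (inf_le_left.trans inf_le_left) inf_le_right]
  ring

omit [IsDomain A] [IsNoetherianRing A] in
theorem dist_self (M : Submodule A V) : dist M M = 0 := by simp [dist]

omit [IsDomain A] [IsNoetherianRing A] in
theorem dist_comm (M N : Submodule A V) : dist M N = - dist N M := by
  rw [dist, dist, inf_comm]
  ring

omit [IsDomain A] [IsNoetherianRing A] in
theorem dist_of_le {M N : Submodule A V} (h : N ≤ M) : dist M N = ((rlen M N).toNat : ℤ) := by
  rw [dist, inf_eq_right.2 h, rlen_self]
  simp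

theorem dist_map (g : V →ₗ[K] V) (hg : Function.Injective g) (M N : Submodule A V) :
    dist (M.map (g.restrictScalars A)) (N.map (g.restrictScalars A)) = dist M N := by
  have hg' : Function.Injective (g.restrictScalars A) := hg
  rw [dist, dist, ← Submodule.map_inf _ hg', rlen_map hg' inf_le_left, rlen_map hg' inf_le_right]

/-- `dist M (g M)`. -/
noncomputable def shift (M : Submodule A V) (g : V →ₗ[K] V) : ℤ :=
  dist M (M.map (g.restrictScalars A))

include hA in
theorem shift_indep (M N : Submodule A V) [Submodule.IsLattice K M] [Submodule.IsLattice K N]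
    (g : V →ₗ[K] V) (hg : Function.Bijective g) : shift M g = shift N g := by
  have : Submodule.IsLattice K (M.map (g.restrictScalars A)) := isLattice_map K M g hg.2
  have : Submodule.IsLattice K (N.map (g.restrictScalars A)) := isLattice_map K N g hg.2
  have h1 := dist_add (K := K) hA M N (N.map (g.restrictScalars A))
  have h2 := dist_add (K := K) hA M (M.map (g.restrictScalars A)) (N.map (g.restrictScalars A))
  have h3 := dist_map (A := A) g hg.1 M N
  simp only [shift]
  omega

include hA in
theorem shift_comp (M : Submodule A V) [Submodule.IsLattice K M]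
    (g h : V →ₗ[K] V) (hg : Function.Bijective g) (hh : Function.Bijective h) :
    shift M (g ∘ₗ h) = shift M g + shift M h := by
  have : Submodule.IsLattice K (M.map (h.restrictScalars A)) := isLattice_map K M h hh.2
  have : Submodule.IsLattice K (M.map ((g ∘ₗ h).restrictScalars A)) :=
    isLattice_map K M _ (hg.2.comp hh.2)
  have h1 := dist_add (K := K) hA M (M.map (h.restrictScalars A))
    (M.map ((g ∘ₗ h).restrictScalars A))
  have h2 := shift_indep hA M (M.map (h.restrictScalars A)) g hg
  have h3 : (M.map (h.restrictScalars A)).map (g.restrictScalars A) =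
      M.map ((g ∘ₗ h).restrictScalars A) := (Submodule.map_comp _ _ M).symm
  simp only [shift] at h2 ⊢
  rw [h3] at h2
  omega

open Matrix

variable {ι : Type} [Fintype ι] [DecidableEq ι] (b : Basis ι K V)

theorem isLattice_span_basis : Submodule.IsLattice K (Submodule.span A (Set.range b)) where
  fg := Submodule.fg_span (Set.finite_range _)
  span_eq_top := by rw [Submodule.span_span_of_tower, b.span_eq]

theorem shift_of_algebraMap (i : ι) {a : A} (ha : a ≠ 0) :
    shift (Submodule.span A (Set.range b))
      (Matrix.toLin b b (diagonal (Function.update 1 i (algebraMap A K a)))) =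
      ((Ring.ord A a).toNat : ℤ) := by
  classical
  set g := Matrix.toLin b b (diagonal (Function.update 1 i (algebraMap A K a))) with hg
  set L := Submodule.span A (Set.range b) with hL
  have hrepr : ∀ y j, b.repr (g y) j =
      Function.update (1 : ι → K) i (algebraMap A K a) j * b.repr y j := by
    intro y j
    rw [hg, Matrix.toLin_apply, map_sum, Finsupp.finsetSum_apply,
      Finset.sum_eq_single j (fun k _ hk => by simp [Finsupp.single_apply, hk]) (by simp)]
    simp [Matrix.mulVec_diagonal]
  have hle : L.map (g.restrictScalars A) ≤ L := by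
    rintro _ ⟨y, hy, rfl⟩
    rw [SetLike.mem_coe, hL, b.mem_span_iff_repr_mem A] at hy
    rw [hL, b.mem_span_iff_repr_mem A]
    intro j
    obtain ⟨c, hc⟩ := hy j
    rw [LinearMap.restrictScalars_apply, hrepr, ← hc]
    by_cases hj : j = i
    · subst hj; exact ⟨a * c, by simp⟩
    · exact ⟨c, by simp [Function.update_of_ne hj]⟩
  rw [shift, dist_of_le hle, rlen, Ring.ord]
  let φ : ↥L →ₗ[A] (A ⧸ Ideal.span {a}) :=
    (Ideal.span {a}).mkQ ∘ₗ Finsupp.lapply i ∘ₗ (b.restrictScalars A).repr.toLinearMap
  have hφsurj : Function.Surjective φ := by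
    intro q
    obtain ⟨c, rfl⟩ := Submodule.Quotient.mk_surjective _ q
    refine ⟨c • b.restrictScalars A i, ?_⟩
    simp only [φ, LinearMap.comp_apply, LinearEquiv.coe_toLinearMap, map_smul, Basis.repr_self,
      Finsupp.lapply_apply, Finsupp.single_eq_same, Submodule.mkQ_apply]
    rw [← Submodule.Quotient.mk_smul, smul_eq_mul, mul_one]
  have hker : LinearMap.ker φ = (L.map (g.restrictScalars A)).submoduleOf L := by
    ext x
    simp only [φ, LinearMap.mem_ker, LinearMap.comp_apply, LinearEquiv.coe_toLinearMap,
      Finsupp.lapply_apply, Submodule.mkQ_apply, Submodule.Quotient.mk_eq_zero,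
      Ideal.mem_span_singleton]
    constructor
    · rintro ⟨c, hc⟩
      have hcoord : ∀ j, ∃ d : A, b.repr (x : V) j =
          Function.update (1 : ι → K) i (algebraMap A K a) j * algebraMap A K d := by
        intro j
        by_cases hj : j = i
        · subst hj
          refine ⟨c, ?_⟩
          rw [← b.restrictScalars_repr_apply A x j, hc]
          simp
        · exact ⟨(b.restrictScalars A).repr x j, by
            rw [b.restrictScalars_repr_apply A]; simp [Function.update_of_ne hj]⟩
      choose d hd using hcoord
      have hy : ∀ j, b.repr (∑ k, d k • b k) j = algebraMap A K (d j) := by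
        intro j
        rw [show (∑ k, d k • b k) = ∑ k, (algebraMap A K (d k)) • b k by simp [algebraMap_smul]]
        rw [b.repr_sum_self]
      refine ⟨∑ k, d k • b k, ?_, b.repr.injective (Finsupp.ext fun j => ?_)⟩
      · rw [SetLike.mem_coe, hL, b.mem_span_iff_repr_mem A]
        exact fun j => ⟨d j, (hy j).symm⟩
      · rw [LinearMap.restrictScalars_apply, hrepr, hy]
        exact (hd j).symm
    · rintro ⟨y, hy, hyx⟩
      rw [SetLike.mem_coe, hL, b.mem_span_iff_repr_mem A] at hy
      obtain ⟨c, hc⟩ := hy i
      refine ⟨c, IsFractionRing.injective A K ?_⟩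
      rw [b.restrictScalars_repr_apply A]
      have : b.repr (x : V) i = algebraMap A K a * b.repr y i := by
        rw [show (x : V) = g y from hyx.symm, hrepr]
        simp
      rw [this, ← hc, map_mul]
  exact congrArg (fun t : ℕ∞ => (t.toNat : ℤ))
    (((LinearMap.ker φ).quotEquivOfEq _ hker).symm.trans
      (φ.quotKerEquivOfSurjective hφsurj)).length_eq

theorem bijective_toLin {M : Matrix ι ι K} (hM : M.det ≠ 0) :
    Function.Bijective (Matrix.toLin b b M) := by
  refine (Module.End.isUnit_iff _).1 ?_
  rw [LinearMap.isUnit_iff_isUnit_det, LinearMap.det_toLin]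
  exact isUnit_iff_ne_zero.2 hM

include hA in
theorem shift_transvection (t : TransvectionStruct ι K) :
    shift (Submodule.span A (Set.range b)) (Matrix.toLin b b t.toMatrix) = 0 := by
  classical
  obtain ⟨p, q, hq, hc⟩ := IsFractionRing.div_surjective A t.c
  have hq0 : algebraMap A K q ≠ 0 := IsFractionRing.to_map_ne_zero_of_mem_nonZeroDivisors hq
  have hqc : algebraMap A K q * t.c = algebraMap A K p := by
    rw [← hc, mul_div_cancel₀ _ hq0]
  set b' : ι → V := fun k => if k = t.j then q • b k else b k with hb'
  set L := Submodule.span A (Set.range b') with hL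
  have : Submodule.IsLattice K L := by
    refine ⟨Submodule.fg_span (Set.finite_range _), ?_⟩
    rw [hL, Submodule.span_span_of_tower, eq_top_iff, ← b.span_eq, Submodule.span_le]
    rintro _ ⟨k, rfl⟩
    by_cases hk : k = t.j
    · have : b k = (algebraMap A K q)⁻¹ • b' k := by
        rw [show b' k = algebraMap A K q • b k by simp [hb', hk, algebraMap_smul], smul_smul,
          inv_mul_cancel₀ hq0, one_smul]
      rw [this]
      exact Submodule.smul_mem _ _ (Submodule.subset_span ⟨k, rfl⟩)
    · exact Submodule.subset_span ⟨k, by simp [hb', hk]⟩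
  have hdet : t.toMatrix.det ≠ 0 := by simp
  have := isLattice_span_basis (A := A) b
  rw [shift_indep hA (Submodule.span A (Set.range b)) L _ (bijective_toLin b hdet)]
  set g := Matrix.toLin b b t.toMatrix with hg
  have happ : ∀ k, g (b k) = b k + (if k = t.j then t.c • b t.i else 0) := by
    intro k
    rw [hg, TransvectionStruct.toMatrix, transvection, map_add, LinearMap.add_apply,
      Matrix.toLin_one, LinearMap.id_apply, Matrix.toLin_self]
    congr 1
    by_cases hk : k = t.j
    · subst hk
      rw [if_pos rfl, Finset.sum_eq_single t.i (fun m _ hm => by simp [hm.symm]) (by simp)]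
      simp
    · simp [hk, Matrix.single_apply, Ne.symm hk]
  have hb'i : b' t.i = b t.i := by simp [hb', t.hij]
  have happ' : ∀ k, g (b' k) = b' k + (if k = t.j then p • b' t.i else 0) := by
    intro k
    by_cases hk : k = t.j
    · simp only [hb', hk, if_true]
      rw [← algebraMap_smul K q, map_smul, happ, if_pos rfl, smul_add, smul_smul, hqc,
        algebraMap_smul, algebraMap_smul]
      simp [t.hij]
    · simp [hb', hk, happ]
  have hLg : L.map (g.restrictScalars A) = L := by
    refine le_antisymm ?_ ?_
    · rw [hL, Submodule.map_span, Submodule.span_le]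
      rintro _ ⟨_, ⟨k, rfl⟩, rfl⟩
      rw [LinearMap.restrictScalars_apply, happ', SetLike.mem_coe]
      refine add_mem (Submodule.subset_span ⟨k, rfl⟩) ?_
      split
      · exact Submodule.smul_mem _ _ (Submodule.subset_span ⟨_, rfl⟩)
      · exact zero_mem _
    · conv_lhs => rw [hL]
      rw [Submodule.span_le]
      rintro _ ⟨k, rfl⟩
      by_cases hk : k = t.j
      · refine ⟨b' k - p • b' t.i, sub_mem (Submodule.subset_span ⟨k, rfl⟩)
          (Submodule.smul_mem _ _ (Submodule.subset_span ⟨_, rfl⟩)), ?_⟩
        rw [map_sub, map_smul, LinearMap.restrictScalars_apply, LinearMap.restrictScalars_apply,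
          happ', happ', if_pos hk, if_neg t.hij]
        simp
      · exact ⟨b' k, Submodule.subset_span ⟨k, rfl⟩, by simp [happ', hk]⟩
  rw [shift, hLg, dist_self]

theorem shift_id (M : Submodule A V) : shift M (LinearMap.id : V →ₗ[K] V) = 0 := by
  rw [shift, show (LinearMap.id : V →ₗ[K] V).restrictScalars A = LinearMap.id from rfl,
    Submodule.map_id, dist_self]

include hA in
theorem shift_eq_ordFrac [IsLocalRing A] (M : Submodule A V) [Submodule.IsLattice K M]
    (φ : V ≃ₗ[K] V) :
    shift M φ.toLinearMap = CycAlg.ordFrac A K (LinearMap.det φ.toLinearMap) := by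
  classical
  have : Ring.KrullDimLE 1 A := Ring.krullDimLE_iff.2 hA
  let b := Module.finBasis K V
  set L := Submodule.span A (Set.range b) with hL
  have : Submodule.IsLattice K L := isLattice_span_basis b
  rw [shift_indep hA M L _ φ.bijective]
  suffices H : ∀ N : Matrix (Fin (finrank K V)) (Fin (finrank K V)) K, N.det ≠ 0 →
      shift L (Matrix.toLin b b N) = CycAlg.ordFrac A K N.det by
    have hdet : LinearMap.det φ.toLinearMap ≠ 0 := φ.isUnit_det'.ne_zero
    rw [← LinearMap.det_toMatrix b] at hdet ⊢
    have := H _ hdet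
    rwa [Matrix.toLin_toMatrix] at this
  intro N hN
  refine diagonal_transvection_induction_of_det_ne_zero
    (fun N => shift L (Matrix.toLin b b N) = CycAlg.ordFrac A K N.det) N hN ?_ ?_ ?_
  · intro D hD
    rw [det_diagonal] at hD ⊢
    have hD' : ∀ k, D k ≠ 0 := fun k => Finset.prod_ne_zero_iff.1 hD k (Finset.mem_univ k)
    have hsingle : ∀ (i) (d : K), d ≠ 0 →
        shift L (Matrix.toLin b b (diagonal (Function.update 1 i d))) = CycAlg.ordFrac A K d := by
      intro i d hd
      obtain ⟨p, q, hq, rfl⟩ := IsFractionRing.div_surjective A d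
      have hq0 : algebraMap A K q ≠ 0 := IsFractionRing.to_map_ne_zero_of_mem_nonZeroDivisors hq
      have hp : p ≠ 0 := by rintro rfl; simp at hd
      have hdd : ∀ x : K, x ≠ 0 → (diagonal (Function.update (1 : Fin _ → K) i x)).det ≠ 0 := by
        intro x hx
        rw [det_diagonal, Finset.prod_ne_zero_iff]
        intro k _
        by_cases hk : k = i
        · subst hk; simpa using hx
        · simp [Function.update_of_ne hk]
      have hmul : diagonal (Function.update (1 : Fin _ → K) i (algebraMap A K p / algebraMap A K q)) *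
          diagonal (Function.update 1 i (algebraMap A K q)) =
          diagonal (Function.update 1 i (algebraMap A K p)) := by
        rw [diagonal_mul_diagonal]
        congr 1
        funext k
        by_cases hk : k = i
        · subst hk; simp [hq0]
        · simp [Function.update_of_ne hk]
      have h := shift_comp hA L _ _ (bijective_toLin b (hdd _ hd)) (bijective_toLin b (hdd _ hq0))
      rw [← Matrix.toLin_mul, hmul, shift_of_algebraMap b i hp,
        shift_of_algebraMap b i (nonZeroDivisors.ne_zero hq)] at h
      have h1 := Groth.Agent.Lib.Cyc.Ord.ordFrac_algebraMap A (K := K) (mem_nonZeroDivisors_of_ne_zero hp)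
      have h2 := Groth.Agent.Lib.Cyc.Ord.ordFrac_algebraMap A (K := K) hq
      have h3 := Groth.Agent.Lib.Cyc.Ord.ordFrac_mul A _ _ hd hq0
      rw [div_mul_cancel₀ _ hq0] at h3
      omega
    suffices ∀ s : Finset (Fin (finrank K V)),
        shift L (Matrix.toLin b b (diagonal (fun k => if k ∈ s then D k else 1))) =
          CycAlg.ordFrac A K (∏ k ∈ s, D k) by simpa using this Finset.univ
    intro s
    induction s using Finset.induction with
    | empty =>
      simp only [Finset.notMem_empty, if_false, diagonal_one, Matrix.toLin_one, Finset.prod_empty]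
      rw [shift_id, Groth.Agent.Lib.Cyc.Ord.ordFrac_one]
    | insert i s hi ih =>
      have hmul : diagonal (fun k => if k ∈ insert i s then D k else 1) =
          diagonal (Function.update (1 : Fin _ → K) i (D i)) *
            diagonal (fun k => if k ∈ s then D k else 1) := by
        rw [diagonal_mul_diagonal]
        congr 1
        funext k
        by_cases hk : k = i
        · subst hk; simp [hi]
        · simp [Function.update_of_ne hk, hk]
      rw [hmul, Matrix.toLin_mul b b b, shift_comp hA L _ _ ?_ ?_, hsingle i _ (hD' i), ih,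
        Finset.prod_insert hi,
        Groth.Agent.Lib.Cyc.Ord.ordFrac_mul A _ _ (hD' i) (Finset.prod_ne_zero_iff.2 fun k _ => hD' k)]
      · refine bijective_toLin b ?_
        rw [det_diagonal, Finset.prod_ne_zero_iff]
        intro k _
        by_cases hk : k = i
        · subst hk; simpa using hD' k
        · simp [Function.update_of_ne hk]
      · refine bijective_toLin b ?_
        rw [det_diagonal, Finset.prod_ne_zero_iff]
        intro k _
        split
        · exact hD' k
        · exact one_ne_zero
  · intro t
    rw [shift_transvection hA b t, TransvectionStruct.det, Groth.Agent.Lib.Cyc.Ord.ordFrac_one]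
  · intro X Y hX hY hXs hYs
    rw [Matrix.toLin_mul b b b, shift_comp hA L _ _ (bijective_toLin b hX) (bijective_toLin b hY),
      hXs, hYs, det_mul, Groth.Agent.Lib.Cyc.Ord.ordFrac_mul A _ _ hX hY]

end Groth.Agent.H15.LatticeDist
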