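import Mathlib.RingTheory.MvPowerSeries.Substitution
import Mathlib.RingTheory.MvPowerSeries.Derivative
import Mathlib.RingTheory.MvPowerSeries.Inverse
import Mathlib.RingTheory.MvPolynomial.Homogeneous
import Mathlib.RingTheory.LocalRing.MaximalIdeal.Basic
import Mathlib.LinearAlgebra.Matrix.NonsingularInverse

/-!
# The formal Morse lemma, in any characteristic
-/

set_option autoImplicit false

noncomputable section

universe u

namespace Groth.Agent.H15.MorseLemma

open MvPowerSeries Matrix

variable {k : Type u} [Field k] {n : ℕ}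

local notation "S" => MvPowerSeries (Fin n) k

/-- All coefficients in degrees `< N` vanish. -/
def Z (N : ℕ) (a : S) : Prop := ∀ d : Fin n →₀ ℕ, d.degree < N → coeff d a = 0

theorem Z.add {N : ℕ} {a b : S} (ha : Z N a) (hb : Z N b) : Z N (a + b) := fun d hd => by
  rw [map_add, ha d hd, hb d hd, add_zero]

theorem Z.neg {N : ℕ} {a : S} (ha : Z N a) : Z N (-a) := fun d hd => by rw [map_neg, ha d hd, neg_zero]

theorem Z.sum {ι : Type} {N : ℕ} {a : ι → S} (s : Finset ι) (ha : ∀ i ∈ s, Z N (a i)) : Z N (∑ i ∈ s, a i) :=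
  fun d hd => by rw [map_sum]; exact Finset.sum_eq_zero fun i hi => ha i hi d hd

theorem Z.mul {N M : ℕ} {a b : S} (ha : Z N a) (hb : Z M b) : Z (N + M) (a * b) := by
  classical
  intro d hd
  rw [coeff_mul]
  refine Finset.sum_eq_zero fun p hp => ?_
  rw [Finset.mem_antidiagonal] at hp
  have : p.1.degree + p.2.degree = d.degree := by rw [← map_add, hp]
  by_cases h : p.1.degree < N
  · rw [ha _ h, zero_mul]
  · rw [hb p.2 (by omega), mul_zero]

theorem Z.zero' (a : S) : Z 0 a := fun d hd => absurd hd (Nat.not_lt_zero _)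

theorem Z.mono {N M : ℕ} {a : S} (h : M ≤ N) (ha : Z N a) : Z M a := fun d hd => ha d (by omega)

theorem Z_one_iff {a : S} : Z 1 a ↔ constantCoeff a = 0 :=
  ⟨fun h => by simpa using h 0 (by simp), fun h d hd => by
    have : d = 0 := (Finsupp.degree_eq_zero_iff d).1 (by omega)
    simpa [this] using h⟩

/-- Entrywise vanishing in low degrees. -/
def ZM (N : ℕ) (a : Matrix (Fin n) (Fin n) S) : Prop := ∀ i j, Z N (a i j)

theorem ZM.mul {N M : ℕ} {a b : Matrix (Fin n) (Fin n) S} (ha : ZM N a) (hb : ZM M b) : ZM (N + M) (a * b) :=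
  fun i j => by rw [Matrix.mul_apply]; exact Z.sum _ fun l _ => (ha i l).mul (hb l j)

theorem ZM.mul_left {M : ℕ} {b : Matrix (Fin n) (Fin n) S} (a : Matrix (Fin n) (Fin n) S) (hb : ZM M b) :
    ZM M (a * b) := fun i j => by
  have := ZM.mul (N := 0) (a := a) (fun _ _ => Z.zero' _) hb i j
  rwa [zero_add] at this

theorem ZM.mul_right {M : ℕ} {b : Matrix (Fin n) (Fin n) S} (a : Matrix (Fin n) (Fin n) S) (hb : ZM M b) :
    ZM M (b * a) := fun i j => by
  have := ZM.mul (M := 0) (b := a) hb (fun _ _ => Z.zero' _) i j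
  rwa [add_zero] at this

theorem ZM.sub {N : ℕ} {a b : Matrix (Fin n) (Fin n) S} (ha : ZM N a) (hb : ZM N b) : ZM N (a - b) :=
  fun i j => by rw [Matrix.sub_apply, sub_eq_add_neg]; exact (ha i j).add (hb i j).neg

theorem ZM.add {N : ℕ} {a b : Matrix (Fin n) (Fin n) S} (ha : ZM N a) (hb : ZM N b) : ZM N (a + b) :=
  fun i j => (ha i j).add (hb i j)

theorem ZM.transpose {N : ℕ} {a : Matrix (Fin n) (Fin n) S} (ha : ZM N a) : ZM N aᵀ := fun i j => ha j i

theorem exists_solution (C A G : Matrix (Fin n) (Fin n) S) (hG : ZM 1 G) :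
    ∃ M : Matrix (Fin n) (Fin n) S, ZM 1 M ∧ M = C * (G - Mᵀ * A * M) := by
  let Φ : Matrix (Fin n) (Fin n) S → Matrix (Fin n) (Fin n) S := fun M => C * (G - Mᵀ * A * M)
  let s : ℕ → Matrix (Fin n) (Fin n) S := fun j => Φ^[j] 0
  have hsucc : ∀ j, s (j + 1) = Φ (s j) := fun j => Function.iterate_succ_apply' Φ j 0
  have hone : ∀ M, ZM 1 M → ZM 1 (Φ M) := fun M hM =>
    ZM.mul_left C (hG.sub (ZM.mul_left (Mᵀ * A) hM))
  have hs1 : ∀ j, ZM 1 (s j) := fun j => by
    induction j with
    | zero => exact fun _ _ _ _ => by simp [s]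
    | succ j ih => rw [hsucc]; exact hone _ ih
  have hcontract : ∀ N a b, ZM 1 a → ZM 1 b → ZM N (a - b) → ZM (N + 1) (Φ a - Φ b) := by
    intro N a b ha hb hab
    have e : Φ a - Φ b = C * (bᵀ * A * (b - a) + (b - a)ᵀ * A * a) := by
      simp only [Φ, ← Matrix.mul_sub]
      congr 1
      rw [Matrix.transpose_sub, Matrix.sub_mul, Matrix.sub_mul, Matrix.mul_sub]
      abel
    have hba : ZM N (b - a) := fun i j => by
      have := (hab i j).neg
      rwa [Matrix.sub_apply, neg_sub] at this
    rw [e]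
    refine ZM.mul_left C (ZM.add ?_ ((hba.transpose.mul_right A).mul ha))
    rw [add_comm N 1]
    exact (hb.transpose.mul_right A).mul hba
  have hstep : ∀ j, ZM (j + 1) (s (j + 1) - s j) := by
    intro j
    induction j with
    | zero => exact (hs1 1).sub (hs1 0)
    | succ j ih => rw [hsucc (j + 1)]; conv => arg 2; arg 2; rw [hsucc j]
                   exact hcontract _ _ _ (hs1 _) (hs1 _) ih
  have hstab : ∀ a b (d : Fin n →₀ ℕ) j, d.degree + 1 ≤ j →
      coeff d (s j a b) = coeff d (s (d.degree + 1) a b) := by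
    intro a b d j hj
    induction j, hj using Nat.le_induction with
    | base => rfl
    | succ j hj ih =>
      have := hstep j a b d (by omega)
      rw [Matrix.sub_apply, map_sub, sub_eq_zero] at this
      rw [this, ih]
  let M : Matrix (Fin n) (Fin n) S := fun a b d => coeff d (s (d.degree + 1) a b)
  have hM : ∀ j, ZM j (M - s j) := fun j a b d hd => by
    rw [Matrix.sub_apply, map_sub, sub_eq_zero]
    exact (hstab a b d j hd).symm
  have hM1 : ZM 1 M := fun a b d hd => hs1 _ a b d hd
  refine ⟨M, hM1, ?_⟩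
  ext a b d
  have h1 := hcontract d.degree _ _ hM1 (hs1 d.degree) (hM d.degree) a b d (by omega)
  have h2 := hM (d.degree + 1) a b d (by omega)
  rw [Matrix.sub_apply, map_sub, sub_eq_zero] at h1 h2
  rw [hsucc] at h2
  exact h2.trans h1.symm

/-- Dividing a series without constant term by the variable `X i`, for the least variable of each monomial. -/
def D (i : Fin n) (g : S) : S := fun d => if ∀ j < i, d j = 0 then coeff (d + Finsupp.single i 1) g else 0

theorem coeff_X_mul' (i : Fin n) (g : S) (d : Fin n →₀ ℕ) :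
    coeff d (X i * g) = if Finsupp.single i 1 ≤ d then coeff (d - Finsupp.single i 1) g else 0 := by
  classical
  rw [X_def, coeff_monomial_mul]
  split <;> simp

theorem sum_X_mul_D (g : S) (hg : constantCoeff g = 0) : ∑ i, X i * D i g = g := by
  classical
  ext d
  simp only [map_sum, coeff_X_mul']
  by_cases hd : d = 0
  · subst hd
    rw [coeff_zero_eq_constantCoeff, hg]
    refine Finset.sum_eq_zero fun i _ => if_neg fun h => ?_
    have := h i
    simp at this
  · have hne : (Finset.univ.filter fun j => d j ≠ 0).Nonempty := by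
      obtain ⟨j, hj⟩ := Finsupp.ne_iff.1 hd
      exact ⟨j, Finset.mem_filter.2 ⟨Finset.mem_univ _, hj⟩⟩
    set i₀ := (Finset.univ.filter fun j => d j ≠ 0).min' hne with hi₀
    have h0 : d i₀ ≠ 0 := (Finset.mem_filter.1 (Finset.min'_mem _ hne)).2
    have hle : Finsupp.single i₀ 1 ≤ d := Finsupp.single_le_iff.2 (Nat.one_le_iff_ne_zero.2 h0)
    rw [Finset.sum_eq_single i₀]
    · rw [if_pos hle]
      show (if ∀ j < i₀, (d - Finsupp.single i₀ 1 : Fin n →₀ ℕ) j = 0 then _ else _) = _
      rw [if_pos, tsub_add_cancel_of_le hle]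
      intro j hj
      by_contra h
      have : d j ≠ 0 := fun h' => h (by simp [Finsupp.tsub_apply, h'])
      exact (not_le.2 hj) (Finset.min'_le _ j (Finset.mem_filter.2 ⟨Finset.mem_univ _, this⟩))
    · intro i _ hne'
      split
      · rename_i hi
        show (if ∀ j < i, (d - Finsupp.single i 1 : Fin n →₀ ℕ) j = 0 then _ else _) = _
        rw [if_neg]
        intro h
        have hdi : d i ≠ 0 := Nat.one_le_iff_ne_zero.1 (Finsupp.single_le_iff.1 hi)
        have hlt : i₀ < i := lt_of_le_of_ne (Finset.min'_le _ i (Finset.mem_filter.2 ⟨Finset.mem_univ _, hdi⟩)) (Ne.symm hne')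
        have := h i₀ hlt
        rw [Finsupp.tsub_apply, Finsupp.single_eq_of_ne hne'.symm, tsub_zero] at this
        exact h0 this
      · rfl
    · simp

theorem coeff_single_X_mul (a j : Fin n) (g : S) :
    coeff (Finsupp.single j 1) (X a * g) = if a = j then constantCoeff g else 0 := by
  classical
  rw [coeff_X_mul']
  by_cases h : a = j
  · subst h; simp
  · rw [if_neg h, if_neg]
    rw [Finsupp.single_le_iff, Finsupp.single_eq_of_ne h]
    omega

theorem coeff_one_pderiv (i j : Fin n) (F : Fin n → Fin n → S) :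
    coeff (Finsupp.single j 1) (MvPowerSeries.pderiv k i (∑ a, X a * ∑ b, X b * F a b)) =
      constantCoeff (F i j) + constantCoeff (F j i) := by
  classical
  have hX : ∀ a, MvPowerSeries.pderiv k i (X a : S) = if a = i then 1 else 0 := fun a => by
    rw [← MvPolynomial.coe_X, MvPowerSeries.pderiv_coe, MvPolynomial.pderiv_X, Pi.single_apply]
    simp only [eq_comm]
    split <;> simp
  simp only [map_sum, Derivation.leibniz, smul_eq_mul, hX, map_add, Finset.sum_add_distrib]
  rw [add_comm]
  congr 1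
  · rw [Finset.sum_eq_single i (fun b _ hb => by simp [hb]) (by simp)]
    simp [coeff_single_X_mul]
  · simp [mul_ite, Finset.mul_sum, Finset.sum_add_distrib, coeff_single_X_mul, map_sum, mul_add]

theorem morse (f : S) (hf0 : constantCoeff f = 0)
    (hJ : Ideal.span (Set.range fun i : Fin n => MvPowerSeries.pderiv k i f) = IsLocalRing.maximalIdeal S) :
    ∃ (ε : Fin n → S) (_ : ∀ i (m : Fin n →₀ ℕ), m.degree < 2 → coeff m (ε i) = 0)
      (q : MvPolynomial (Fin n) k) (_ : q.IsHomogeneous 2)
      (_ : HasSubst (fun i : Fin n => X i + ε i)),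
      f = MvPowerSeries.subst (fun i : Fin n => X i + ε i) (q : S) := by
  classical
  have hm : ∀ a : S, a ∈ IsLocalRing.maximalIdeal S ↔ constantCoeff a = 0 := fun a => by
    rw [IsLocalRing.mem_maximalIdeal, mem_nonunits_iff, MvPowerSeries.isUnit_iff_constantCoeff, isUnit_iff_ne_zero, not_not]
  have hd : ∀ i, constantCoeff (MvPowerSeries.pderiv k i f) = 0 := fun i =>
    (hm _).1 (hJ ▸ Ideal.subset_span ⟨i, rfl⟩)
  let F : Matrix (Fin n) (Fin n) S := fun a b => D b (D a f)
  have hlin : ∀ a, constantCoeff (D a f) = 0 := fun a => by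
    have := hd a
    rw [← coeff_zero_eq_constantCoeff_apply, MvPowerSeries.coeff_pderiv] at this
    show (if ∀ j < a, (0 : Fin n →₀ ℕ) j = 0 then _ else _) = _
    rw [if_pos]
    · simpa using this
    · intros
      rfl
  have hf : f = ∑ a, X a * ∑ b, X b * F a b := by
    conv_lhs => rw [← sum_X_mul_D f hf0]
    exact Finset.sum_congr rfl fun a _ => by rw [sum_X_mul_D _ (hlin a)]
  let A : Matrix (Fin n) (Fin n) k := F.map constantCoeff
  have hH : ∀ i j, coeff (Finsupp.single j 1) (MvPowerSeries.pderiv k i f) = (A + Aᵀ) i j := fun i j => by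
    rw [hf, coeff_one_pderiv]
    rfl
  have hX : ∀ l, ∃ c : Fin n → S, ∑ i, c i * MvPowerSeries.pderiv k i f = X l := fun l =>
    (Ideal.mem_span_range_iff_exists_fun).1 (hJ ▸ (hm _).2 (constantCoeff_X l))
  choose c hc using hX
  let C : Matrix (Fin n) (Fin n) k := fun l i => constantCoeff (c l i)
  have hCH : C * (A + Aᵀ) = 1 := by
    ext l j
    have h := congrArg (coeff (Finsupp.single j 1)) (hc l)
    rw [map_sum, coeff_X] at h
    have hterm : ∀ i, coeff (Finsupp.single j 1) (c l i * MvPowerSeries.pderiv k i f) =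
        C l i * (A + Aᵀ) i j := fun i => by
      conv_lhs => rw [← sum_X_mul_D _ (hd i), Finset.mul_sum, map_sum]
      simp only [mul_left_comm (c l i), coeff_single_X_mul, map_mul, Finset.sum_ite_eq', Finset.mem_univ, if_true]
      rw [← hH]
      congr 1
      conv_rhs => rw [← sum_X_mul_D _ (hd i), map_sum]
      simp [coeff_single_X_mul]
    simp only [hterm] at h
    rw [Matrix.mul_apply, h, Matrix.one_apply]
    simp [Finsupp.single_left_inj, eq_comm]
  let AS : Matrix (Fin n) (Fin n) S := A.map MvPowerSeries.C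
  let CS : Matrix (Fin n) (Fin n) S := C.map MvPowerSeries.C
  obtain ⟨M, hM1, hM⟩ := exists_solution CS AS (F - AS) fun a b => Z_one_iff.2 (by simp [AS, A])
  have hinv : (AS + ASᵀ) * CS = 1 := by
    have := congrArg (fun m : Matrix (Fin n) (Fin n) k => m.map (MvPowerSeries.C (σ := Fin n))) (mul_eq_one_comm.1 hCH)
    simpa [AS, CS, Matrix.map_mul, Matrix.transpose_map, Matrix.map_add] using this
  have heq : (AS + ASᵀ) * M + Mᵀ * AS * M = F - AS := by
    conv_lhs => arg 1; rw [hM]
    rw [← Matrix.mul_assoc, hinv, one_mul, sub_add_cancel]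
  let x : Fin n → S := fun i => X i
  let ε : Fin n → S := M *ᵥ x
  have hε : ∀ i (m : Fin n →₀ ℕ), m.degree < 2 → coeff m (ε i) = 0 := fun i =>
    Z.sum (N := 2) Finset.univ fun j _ => (hM1 i j).mul (Z_one_iff.2 (constantCoeff_X j))
  have hsub : HasSubst (fun i : Fin n => X i + ε i) :=
    hasSubst_of_constantCoeff_zero fun i => by
      rw [map_add, constantCoeff_X, zero_add, ← coeff_zero_eq_constantCoeff_apply]
      exact hε i 0 (by simp)
  let q : MvPolynomial (Fin n) k := ∑ a, ∑ b, MvPolynomial.C (A a b) * (MvPolynomial.X a * MvPolynomial.X b)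
  refine ⟨ε, hε, q, ?_, hsub, ?_⟩
  · refine MvPolynomial.IsHomogeneous.sum _ _ _ fun a _ => MvPolynomial.IsHomogeneous.sum _ _ _ fun b _ => ?_
    exact ((MvPolynomial.isHomogeneous_X _ a).mul (MvPolynomial.isHomogeneous_X _ b)).C_mul _
  · rw [MvPowerSeries.subst_coe]
    have hq : MvPolynomial.aeval (fun i : Fin n => X i + ε i) q = (x + ε) ⬝ᵥ (AS *ᵥ (x + ε)) := by
      simp only [q, map_sum, map_mul, MvPolynomial.aeval_C, MvPolynomial.aeval_X, dotProduct, mulVec,
        Finset.mul_sum, Pi.add_apply, AS, Matrix.map_apply, MvPowerSeries.c_eq_algebraMap, x]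
      refine Finset.sum_congr rfl fun a _ => Finset.sum_congr rfl fun b _ => ?_
      ring
    rw [hq]
    have hF : f = x ⬝ᵥ (F *ᵥ x) := by
      rw [hf]
      simp [dotProduct, mulVec, x, mul_comm]
    rw [hF, show F = AS + ((AS + ASᵀ) * M + Mᵀ * AS * M) by rw [heq]; abel]
    simp only [ε, Matrix.add_mulVec, dotProduct_add, add_dotProduct, Matrix.mulVec_add, ← Matrix.mulVec_mulVec,
      Matrix.add_mul]
    have e1 : ∀ v, (M *ᵥ x) ⬝ᵥ v = x ⬝ᵥ (Mᵀ *ᵥ v) := fun v => by
      rw [Matrix.mulVec_transpose, dotProduct_comm x, ← Matrix.dotProduct_mulVec, dotProduct_comm]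
    have e2 : x ⬝ᵥ (ASᵀ *ᵥ (M *ᵥ x)) = (M *ᵥ x) ⬝ᵥ (AS *ᵥ x) := by
      rw [Matrix.mulVec_transpose, dotProduct_comm, ← Matrix.dotProduct_mulVec, dotProduct_comm]
    rw [e2, e1, e1]
    abel

end Groth.Agent.H15.MorseLemma
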