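import Mathlib.RingTheory.GradedAlgebra.Basic
import Mathlib.Algebra.Polynomial.AlgebraMap
import Mathlib.Algebra.Algebra.Operations

/-! The pieces `S_{≥ n}` of a graded algebra and their products. -/

set_option autoImplicit false
universe u

open DirectSum Polynomial

namespace Groth.Agent.H15.NatDeg

variable {R A : Type u} [CommRing R] [CommRing A] [Algebra R A]
  (𝒜 : ℕ → Submodule R A) [GradedAlgebra 𝒜]

/-- `S_{≥ n}`. -/
def ge (n : ℕ) : Submodule R A := ⨆ (m : ℕ) (_ : n ≤ m), 𝒜 m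

omit [GradedAlgebra 𝒜] in
theorem le_ge {n m : ℕ} (h : n ≤ m) : 𝒜 m ≤ ge 𝒜 n := le_iSup₂_of_le m h le_rfl

omit [GradedAlgebra 𝒜] in
theorem ge_anti {n n' : ℕ} (h : n' ≤ n) : ge 𝒜 n ≤ ge 𝒜 n' :=
  iSup₂_le fun _ hm => le_ge 𝒜 (h.trans hm)

theorem mul_mem {i j : ℕ} : 𝒜 i * 𝒜 j ≤ 𝒜 (i + j) :=
  Submodule.mul_le.2 fun _ ha _ hb => SetLike.GradedMul.mul_mem ha hb

theorem pow_mem : ∀ j : ℕ, 𝒜 1 ^ j ≤ 𝒜 j
  | 0 => by rw [pow_zero, Submodule.one_le]; exact SetLike.GradedOne.one_mem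
  | j + 1 => by rw [pow_succ]; exact (mul_le_mul' (pow_mem j) le_rfl).trans (mul_mem 𝒜)

theorem ge_mul_ge (i j : ℕ) : ge 𝒜 i * ge 𝒜 j ≤ ge 𝒜 (i + j) := by
  simp only [ge, Submodule.iSup_mul, Submodule.mul_iSup]
  exact iSup₂_le fun a ha => iSup₂_le fun b hb => (mul_mem 𝒜).trans (le_ge 𝒜 (by omega))

theorem ge_mul_ge_le (i j : ℕ) : ge 𝒜 i * ge 𝒜 j ≤ 𝒜 i * 𝒜 j ⊔ ge 𝒜 (i + j + 1) := by
  simp only [ge, Submodule.iSup_mul, Submodule.mul_iSup]
  refine iSup₂_le fun a ha => iSup₂_le fun b hb => ?_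
  by_cases h : a = j ∧ b = i
  · obtain ⟨rfl, rfl⟩ := h; exact le_sup_left
  · exact ((mul_mem 𝒜).trans (le_ge 𝒜 (by omega))).trans le_sup_right

theorem eq_of_le_sup {n : ℕ} {U : Submodule R A} (hU : U ≤ 𝒜 n) (h : 𝒜 n ≤ U ⊔ ge 𝒜 (n + 1)) : 𝒜 n = U := by
  refine le_antisymm (fun x hx => ?_) hU
  obtain ⟨y, hy, z, hz, rfl⟩ := Submodule.mem_sup.1 (h hx)
  have hz' : z ∈ 𝒜 n := by simpa using Submodule.sub_mem _ hx (hU hy)
  have hk : ge 𝒜 (n + 1) ≤ LinearMap.ker (GradedAlgebra.proj 𝒜 n) := iSup₂_le fun m hm w hw => by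
    rw [LinearMap.mem_ker, GradedAlgebra.proj_apply, decompose_of_mem_ne 𝒜 hw (by omega)]
  have h0 := hk hz
  rw [LinearMap.mem_ker, GradedAlgebra.proj_apply, decompose_of_mem_same 𝒜 hz'] at h0
  rwa [h0, add_zero]

variable {B : Type u} [CommRing B] [Algebra R B] (ℬ : ℕ → Submodule R B) (φ : B →ₐ[R] Polynomial A)

theorem map_monomial_mul (i j : ℕ) (U V : Submodule R A) :
    Submodule.map ((monomial i : A →ₗ[A] A[X]).restrictScalars R) U * Submodule.map ((monomial j : A →ₗ[A] A[X]).restrictScalars R) V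
      = Submodule.map ((monomial (i + j) : A →ₗ[A] A[X]).restrictScalars R) (U * V) := by
  refine le_antisymm (Submodule.mul_le.2 ?_) (Submodule.map_le_iff_le_comap.2 (Submodule.mul_le.2 ?_))
  · rintro _ ⟨a, ha, rfl⟩ _ ⟨b, hb, rfl⟩
    exact ⟨a * b, Submodule.mul_mem_mul ha hb, (monomial_mul_monomial i j a b).symm⟩
  · intro a ha b hb
    rw [Submodule.mem_comap, LinearMap.restrictScalars_apply]
    rw [← monomial_mul_monomial]
    exact Submodule.mul_mem_mul ⟨a, ha, rfl⟩ ⟨b, hb, rfl⟩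

theorem map_monomial_inj (n : ℕ) : Function.Injective
    (Submodule.map ((monomial n : A →ₗ[A] A[X]).restrictScalars R) : Submodule R A → Submodule R A[X]) :=
  Submodule.map_injective_of_injective fun a b h => by simpa using congrArg (fun p => coeff p n) h

end Groth.Agent.H15.NatDeg
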