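import Groth.Agent.Lib.Dim.Local
import Mathlib.LinearAlgebra.Eigenspace.Zero
import Mathlib.LinearAlgebra.Basis.Fin
import Mathlib.LinearAlgebra.Matrix.Charpoly.Coeff
import Mathlib.LinearAlgebra.Matrix.MvPolynomial
import Mathlib.LinearAlgebra.Matrix.Block
import Mathlib.LinearAlgebra.Matrix.GeneralLinearGroup.Defs
import Mathlib.RingTheory.Nullstellensatz
import Mathlib.RingTheory.KrullDimension.Basic
import Mathlib.RingTheory.Localization.Away.Basic

/-!
# The nilpotent cone of `n × n` matrices
-/

set_option autoImplicit false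

noncomputable section

universe u

namespace Groth.Agent.H15.NilCone

open Matrix

variable {k : Type u} [Field k]

theorem exists_flag_basis : ∀ (m : ℕ) {V : Type u} [AddCommGroup V] [Module k V] [FiniteDimensional k V],
    Module.finrank k V = m → ∀ f : Module.End k V, IsNilpotent f →
      ∃ b : Module.Basis (Fin m) k V, ∀ i j, j ≤ i → b.repr (f (b j)) i = 0
  | 0, V, _, _, _, hV, _, _ =>
    ⟨(Module.finBasis k V).reindex (finCongr hV), fun i => i.elim0⟩
  | m + 1, V, _, _, _, hV, f, hf => by
    have hr : LinearMap.range f ≠ ⊤ := by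
      intro h
      obtain ⟨N, hN⟩ := hf
      have hbij : Function.Bijective f := ⟨LinearMap.injective_iff_surjective.2 (LinearMap.range_eq_top.1 h), LinearMap.range_eq_top.1 h⟩
      have : Nontrivial V := Module.nontrivial_of_finrank_eq_succ hV
      obtain ⟨v, hv⟩ := exists_ne (0 : V)
      have hinj : Function.Injective (f ^ N) := by
        rw [Module.End.coe_pow]
        exact hbij.1.iterate N
      exact hv (hinj (by rw [hN]; simp))
    obtain ⟨φ, hφ0, hφ⟩ := Submodule.exists_le_ker_of_lt_top _ (lt_top_iff_ne_top.2 hr)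
    obtain ⟨v, hv⟩ : ∃ v, φ v ≠ 0 := by
      by_contra h
      push Not at h
      exact hφ0 (LinearMap.ext h)
    set W := LinearMap.ker φ
    have hW : Module.finrank k W = m := by
      have h : Module.finrank k W + 1 = Module.finrank k V := Module.Dual.finrank_ker_add_one_of_ne_zero hφ0
      omega
    have hfW : ∀ x, f x ∈ W := fun x => hφ (LinearMap.mem_range_self f x)
    let g : Module.End k W := f.restrict fun x _ => hfW x
    have hg : IsNilpotent g := by
      obtain ⟨N, hN⟩ := hf
      refine ⟨N, LinearMap.ext fun x => Subtype.ext ?_⟩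
      have : ∀ M, ((g ^ M) x : V) = (f ^ M) (x : V) := by
        intro M
        induction M with
        | zero => rfl
        | succ M ih =>
          rw [pow_succ', Module.End.mul_apply, pow_succ', Module.End.mul_apply, ← ih]
          rfl
      rw [this, hN]
      rfl
    obtain ⟨b, hb⟩ := exists_flag_basis m hW g hg
    let B : Module.Basis (Fin (m + 1)) k V := Module.Basis.mkFinSnoc b v
      (fun c x hx h => by
        have := congrArg φ h
        rw [map_add, map_smul, LinearMap.mem_ker.1 hx, add_zero, map_zero, smul_eq_mul] at this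
        exact (mul_eq_zero.1 this).resolve_right hv)
      (fun z => ⟨-(φ z / φ v), by
        show φ (z + -(φ z / φ v) • v) = 0
        rw [map_add, map_smul, smul_eq_mul, neg_mul, div_mul_cancel₀ _ hv, add_neg_cancel]⟩)
    have hB : ∀ i, B (Fin.castSucc i) = (b i : V) := fun i => by
      simp [B, Module.Basis.coe_mkFinSnoc]
    have hrepr : ∀ w : W, (∀ i : Fin m, B.repr (w : V) i.castSucc = b.repr w i) ∧ B.repr (w : V) (Fin.last m) = 0 := by
      intro w
      classical
      have hw : (w : V) = ∑ i, b.repr w i • B i.castSucc := by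
        simp only [hB]
        have h := congrArg W.subtype (b.sum_repr w)
        simp only [map_sum, map_smul, Submodule.subtype_apply] at h
        exact h.symm
      constructor
      · intro i
        conv_lhs => rw [hw]
        simp [map_sum, Finsupp.single_apply, Finset.sum_apply']
      · conv_lhs => rw [hw]
        simp [map_sum, Finsupp.single_apply, Finset.sum_apply', (Fin.castSucc_lt_last _).ne]
    refine ⟨B, fun i j hij => ?_⟩
    rcases Fin.eq_castSucc_or_eq_last i with ⟨i, rfl⟩ | rfl
    · obtain ⟨j, rfl⟩ : ∃ j', Fin.castSucc j' = j := by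
        rcases Fin.eq_castSucc_or_eq_last j with ⟨j', h⟩ | h
        · exact ⟨j', h.symm⟩
        · exact absurd (h ▸ hij) (not_le.2 (Fin.castSucc_lt_last i))
      rw [hB, (hrepr ⟨f (b j), hfW _⟩).1]
      exact hb i j (Fin.castSucc_le_castSucc_iff.1 hij)
    · exact (hrepr ⟨f (B j), hfW _⟩).2

theorem exists_conj_strict {n : ℕ} (A : Matrix (Fin n) (Fin n) k) (hA : IsNilpotent A) :
    ∃ g U : Matrix (Fin n) (Fin n) k, IsUnit g.det ∧ (∀ i j, j ≤ i → U i j = 0) ∧ A = g * U * g⁻¹ := by
  have hA' : IsNilpotent (Matrix.toLin' A) := hA.map (Matrix.toLinAlgEquiv' (R := k))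
  obtain ⟨b, hb⟩ := exists_flag_basis n (Module.finrank_fin_fun k) (Matrix.toLin' A) hA'
  let e := Pi.basisFun k (Fin n)
  refine ⟨e.toMatrix b, LinearMap.toMatrix b b (Matrix.toLin' A), ?_, fun i j h => ?_, ?_⟩
  · exact IsUnit.of_mul_eq_one (b.toMatrix e).det (by rw [← Matrix.det_mul, e.toMatrix_mul_toMatrix_flip b, Matrix.det_one])
  · rw [LinearMap.toMatrix_apply]
    exact hb i j h
  · have hinv : (e.toMatrix b)⁻¹ = b.toMatrix e := Matrix.inv_eq_right_inv (e.toMatrix_mul_toMatrix_flip b)
    rw [hinv, basis_toMatrix_mul_linearMap_toMatrix_mul_basis_toMatrix, LinearMap.toMatrix_eq_toMatrix',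
      LinearMap.toMatrix'_toLin']

theorem charpoly_strict {n : ℕ} {R : Type u} [CommRing R] (U : Matrix (Fin n) (Fin n) R)
    (hU : ∀ i j, j ≤ i → U i j = 0) : U.charpoly = Polynomial.X ^ n := by
  rw [Matrix.charpoly_of_upperTriangular _ (fun i j h => hU i j (le_of_lt h))]
  simp [fun i => hU i i le_rfl]

theorem roots_zero {D : Type u} [CommRing D] [IsDomain D] {n : ℕ} (a : Fin n → D)
    (h : ∏ i, (Polynomial.X - Polynomial.C (a i)) = Polynomial.X ^ n) (i : Fin n) : a i = 0 := by
  have := congrArg (Polynomial.eval (a i)) h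
  rw [← Finset.mul_prod_erase _ _ (Finset.mem_univ i), Polynomial.eval_mul, Polynomial.eval_sub,
    Polynomial.eval_X, Polynomial.eval_C, sub_self, zero_mul, Polynomial.eval_pow, Polynomial.eval_X] at this
  exact eq_zero_of_pow_eq_zero this.symm

variable (k) (n : ℕ)

local notation "P" => MvPolynomial (Fin n × Fin n) k

/-- The ideal of the nilpotent cone. -/
abbrev I : Ideal (MvPolynomial (Fin n × Fin n) k) :=
  Ideal.span (Set.range (fun i : Fin n => (Matrix.charpoly (Matrix.mvPolynomialX (Fin n) (Fin n) k)).coeff (i : ℕ)))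

theorem charpoly_map_eq_iff {S : Type u} [CommRing S] (f : P →+* S) :
    I k n ≤ RingHom.ker f ↔ ((Matrix.mvPolynomialX (Fin n) (Fin n) k).map f).charpoly = Polynomial.X ^ n := by
  rw [Matrix.charpoly_map, Ideal.span_le, Set.range_subset_iff]
  constructor
  · intro h
    ext i
    rw [Polynomial.coeff_map, Polynomial.coeff_X_pow]
    rcases lt_trichotomy i n with hi | rfl | hi
    · rw [if_neg hi.ne]
      exact h ⟨i, hi⟩
    · rw [if_pos rfl]
      have hm := Matrix.charpoly_monic (Matrix.mvPolynomialX (Fin i) (Fin i) k)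
      have hd : (Matrix.mvPolynomialX (Fin i) (Fin i) k).charpoly.natDegree = i := by
        rw [Matrix.charpoly_natDegree_eq_dim, Fintype.card_fin]
      have hlc := hm.coeff_natDegree
      rw [hd] at hlc
      rw [hlc, map_one]
    · rw [if_neg hi.ne', Polynomial.coeff_eq_zero_of_natDegree_lt, map_zero]
      rwa [Matrix.charpoly_natDegree_eq_dim, Fintype.card_fin]
  · intro h i
    show f _ = 0
    rw [← Polynomial.coeff_map, h, Polynomial.coeff_X_pow, if_neg i.2.ne]

/-- Coordinates for pairs of a matrix and a strictly upper triangular matrix. -/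
abbrev T := MvPolynomial ((Fin n × Fin n) ⊕ (Fin n × Fin n)) k

/-- The generic matrix. -/
def g₀ : Matrix (Fin n) (Fin n) (T k n) := Matrix.of fun i j => MvPolynomial.X (Sum.inl (i, j))

/-- The generic strictly upper triangular matrix. -/
def U₀ : Matrix (Fin n) (Fin n) (T k n) :=
  Matrix.of fun i j => if j ≤ i then 0 else MvPolynomial.X (Sum.inr (i, j))

/-- Evaluation at a pair of matrices. -/
def ev (g U : Matrix (Fin n) (Fin n) k) : T k n →+* k :=
  MvPolynomial.eval (Sum.elim (fun p => g p.1 p.2) fun p => U p.1 p.2)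

theorem g₀_map (g U : Matrix (Fin n) (Fin n) k) : (g₀ k n).map (ev k n g U) = g := by
  ext i j
  simp [g₀, ev]

theorem U₀_map (g U : Matrix (Fin n) (Fin n) k) (hU : ∀ i j, j ≤ i → U i j = 0) :
    (U₀ k n).map (ev k n g U) = U := by
  ext i j
  simp only [Matrix.map_apply, U₀, Matrix.of_apply]
  split
  · rw [map_zero, hU i j ‹_›]
  · simp [ev]

theorem det_g₀_ne : (g₀ k n).det ≠ 0 := fun h => by
  have := congrArg (ev k n 1 0) h
  rw [RingHom.map_det, map_zero, RingHom.mapMatrix_apply, g₀_map, Matrix.det_one] at this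
  exact one_ne_zero this

/-- The parameter ring of the cone. -/
abbrev L := Localization.Away (g₀ k n).det

/-- The invertible generic matrix. -/
def G : Matrix (Fin n) (Fin n) (L k n) := (g₀ k n).map (algebraMap (T k n) (L k n))

theorem hG : IsUnit (G k n).det := by
  have e : (G k n).det = algebraMap (T k n) (L k n) (g₀ k n).det := ((algebraMap (T k n) (L k n)).map_det (g₀ k n)).symm
  rw [e]
  exact IsLocalization.Away.algebraMap_isUnit _

/-- The generic nilpotent matrix. -/
def M : Matrix (Fin n) (Fin n) (L k n) :=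
  G k n * (U₀ k n).map (algebraMap (T k n) (L k n)) * (G k n)⁻¹

/-- The parametrisation of the cone. -/
def par : P →+* L k n :=
  MvPolynomial.eval₂Hom ((algebraMap (T k n) (L k n)).comp MvPolynomial.C) fun p => M k n p.1 p.2

theorem par_map : (Matrix.mvPolynomialX (Fin n) (Fin n) k).map (par k n) = M k n := by
  ext i j
  simp [par]

theorem I_le_ker : I k n ≤ RingHom.ker (par k n) := by
  rw [charpoly_map_eq_iff, par_map]
  refine (Matrix.charpoly_units_conj ((G k n).nonsingInvUnit (hG k n)) ((U₀ k n).map (algebraMap (T k n) (L k n)))).trans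
    (charpoly_strict _ fun i j h => ?_)
  simp [U₀, h]

theorem M_map (g U : Matrix (Fin n) (Fin n) k) (hg : IsUnit g.det) (hU : ∀ i j, j ≤ i → U i j = 0) :
    ∃ ψ : L k n →+* k, (M k n).map ψ = g * U * g⁻¹ ∧ ∀ t, ψ (algebraMap (T k n) (L k n) t) = ev k n g U t := by
  have hu : IsUnit (ev k n g U (g₀ k n).det) := by
    rw [RingHom.map_det, RingHom.mapMatrix_apply, g₀_map]
    exact hg
  refine ⟨IsLocalization.Away.lift (g₀ k n).det hu, ?_, fun t => IsLocalization.Away.lift_eq _ hu t⟩
  generalize hψ : (IsLocalization.Away.lift (g₀ k n).det hu : L k n →+* k) = ψ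
  have hψ' : ∀ N : Matrix (Fin n) (Fin n) (T k n),
      (N.map (algebraMap (T k n) (L k n))).map ψ = N.map (ev k n g U) := fun N => by
    ext i j
    rw [← hψ]
    exact IsLocalization.Away.lift_eq _ hu _
  have hψG : (G k n).map ψ = g := (hψ' _).trans (g₀_map k n g U)
  have hψinv : ((G k n)⁻¹).map ψ = g⁻¹ := by
    refine (Matrix.inv_eq_right_inv ?_).symm
    rw [← hψG, ← Matrix.map_mul, Matrix.mul_nonsing_inv _ (hG k n), Matrix.map_one _ (map_zero _) (map_one _)]
  rw [M, Matrix.map_mul, Matrix.map_mul, hψG, hψinv, hψ', U₀_map k n g U hU]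

theorem ker_le [IsAlgClosed k] : RingHom.ker (par k n) ≤ (I k n).radical := by
  intro f hf
  rw [← MvPolynomial.vanishingIdeal_zeroLocus_eq_radical (K := k), MvPolynomial.mem_vanishingIdeal_iff]
  intro x hx
  let A : Matrix (Fin n) (Fin n) k := Matrix.of fun i j => x (i, j)
  have hev : I k n ≤ RingHom.ker (MvPolynomial.aeval (R := k) x).toRingHom := fun p hp =>
    MvPolynomial.mem_zeroLocus_iff.1 hx p hp
  have hAX : (Matrix.mvPolynomialX (Fin n) (Fin n) k).map (MvPolynomial.aeval (R := k) x).toRingHom = A := by
    ext i j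
    simp [A]
  have hchar := (charpoly_map_eq_iff k n _).1 hev
  rw [hAX] at hchar
  have hnil : IsNilpotent A := ⟨n, by
    have := Matrix.aeval_self_charpoly A
    rwa [hchar, map_pow, Polynomial.aeval_X] at this⟩
  obtain ⟨g, U, hg, hU, hA⟩ := exists_conj_strict A hnil
  obtain ⟨ψ, hψM, hψ⟩ := M_map k n g U hg hU
  rw [← hA] at hψM
  have hcomp : ψ.comp (par k n) = (MvPolynomial.aeval (R := k) x).toRingHom := by
    refine MvPolynomial.ringHom_ext (fun r => ?_) fun p => ?_
    · simp [par, hψ, ev]
    · have := congrFun (congrFun hψM p.1) p.2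
      simpa [par, A] using this
  have := RingHom.congr_fun hcomp f
  rw [RingHom.comp_apply, show par k n f = 0 from hf, map_zero] at this
  exact this.symm

theorem exists_prime [IsAlgClosed k] : (I k n).radical.IsPrime := by
  have : IsDomain (L k n) :=
    IsLocalization.isDomain_localization (powers_le_nonZeroDivisors_of_noZeroDivisors (det_g₀_ne k n))
  have hp : (RingHom.ker (par k n)).IsPrime := RingHom.ker_isPrime _
  rw [show (I k n).radical = RingHom.ker (par k n) from le_antisymm (hp.radical_le_iff.2 (I_le_ker k n)) (ker_le k n)]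
  exact hp

open Groth.Agent.Lib.Dim in
theorem main [IsAlgClosed k] : IrreducibleSpace (PrimeSpectrum (P ⧸ I k n)) ∧
    ringKrullDim (P ⧸ I k n) = ((n ^ 2 - n : ℕ) : WithBot ℕ∞) := by
  classical
  have hQ := exists_prime k n
  set Q := (I k n).radical with hQdef
  refine ⟨?_, ?_⟩
  · rw [PrimeSpectrum.irreducibleSpace_iff_isPrime_nilradical]
    have h : (⊥ : Ideal (P ⧸ I k n)).comap (Ideal.Quotient.mk _) = I k n := Ideal.mk_ker
    have e : (nilradical (P ⧸ I k n)).comap (Ideal.Quotient.mk _) = Q := by
      rw [nilradical, ← Ideal.zero_eq_bot] at *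
      rw [Ideal.comap_radical, h]
    have := Ideal.map_isPrime_of_surjective (f := Ideal.Quotient.mk (I k n)) Ideal.Quotient.mk_surjective (I := Q)
      (by rw [Ideal.mk_ker]; exact Ideal.le_radical)
    rwa [← e, Ideal.map_comap_of_surjective _ Ideal.Quotient.mk_surjective] at this
  · have h1 : ringKrullDim (P ⧸ I k n) = ringKrullDim (P ⧸ Q) := by
      rw [ringKrullDim_quotient, ringKrullDim_quotient]
      rw [show PrimeSpectrum.zeroLocus ((Q : Ideal P) : Set P) = PrimeSpectrum.zeroLocus (I k n : Set P) from PrimeSpectrum.zeroLocus_radical _]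
    have hdom : IsDomain (P ⧸ Q) := Ideal.Quotient.isDomain Q
    set D := Basic.trdegNat k (P ⧸ Q) with hD
    rw [h1, Basic.ringKrullDim_eq_trdegNat k (P ⧸ Q), ← hD]
    have hlow : n * n ≤ n + D := by
      have h2 := Basic.height_add_dimQ k Q
      have htr : Basic.trdegNat k P = n * n := by
        have := Basic.ringKrullDim_eq_trdegNat k P
        rw [MvPolynomial.ringKrullDim_of_isNoetherianRing, ringKrullDim_eq_zero_of_field] at this
        simp at this
        exact_mod_cast this.symm
      have hdQ : Basic.dimQ k Q = D := rfl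
      have hht : Q.height ≤ n := by
        have hmin : (I k n).minimalPrimes = {Q} := by
          rw [← Ideal.radical_minimalPrimes, ← hQdef, Ideal.minimalPrimes_eq_subsingleton_self]
        have e : Q.height = (I k n).height := by rw [Ideal.height_eq_inf_minimalPrimes (I := I k n), hmin]; simp
        rw [e]
        refine (Ideal.height_le_spanFinrank _ fun h => hQ.ne_top (by rw [hQdef, h, Ideal.radical_top])).trans ?_
        refine Nat.cast_le.2 ((Submodule.spanFinrank_span_le_ncard_of_finite (Set.finite_range _)).trans ?_)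
        rw [← Set.image_univ]
        exact (Set.ncard_image_le Set.finite_univ).trans (by simp [Set.ncard_univ])
      rw [htr, hdQ] at h2
      have h3 : ((n * n : ℕ) : ℕ∞) ≤ ((n + D : ℕ) : ℕ∞) := by
        rw [← h2, Nat.cast_add]
        exact add_le_add hht le_rfl
      exact_mod_cast h3
    have hup : D ≤ n * n - n := by
      let ev : P →+* k := MvPolynomial.constantCoeff
      have hIev : I k n ≤ RingHom.ker ev := by
        rw [charpoly_map_eq_iff]
        refine charpoly_strict _ fun i j _ => ?_
        simp [ev]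
      have hQev : Q ≤ RingHom.ker ev := (RingHom.ker_isPrime ev).radical_le_iff.2 hIev
      let evb : P ⧸ Q →+* k := Ideal.Quotient.lift Q ev hQev
      have hm : (RingHom.ker evb).IsMaximal := RingHom.ker_isMaximal_of_surjective _ fun x =>
        ⟨Ideal.Quotient.mk Q (MvPolynomial.C x), MvPolynomial.constantCoeff_C _ x⟩
      set m := RingHom.ker evb
      let S : Finset (Fin n × Fin n) := Finset.univ.filter fun p => p.1 ≠ p.2
      let J : Ideal (P ⧸ Q) := Ideal.span (↑(S.image fun p => Ideal.Quotient.mk Q (MvPolynomial.X p)) : Set (P ⧸ Q))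
      have hJm : J ≤ m := Ideal.span_le.2 fun z hz => by
        rw [Finset.mem_coe, Finset.mem_image] at hz
        obtain ⟨p, -, rfl⟩ := hz
        exact MvPolynomial.constantCoeff_X _ p
      have hmin : J.minimalPrimes = {m} := by
        have hrad : ∀ q : Ideal (P ⧸ Q), q.IsPrime → J ≤ q → m ≤ q := by
          intro q hq hJq z hz
          obtain ⟨w, rfl⟩ := Ideal.Quotient.mk_surjective z
          let π : P →+* (P ⧸ Q) ⧸ q := (Ideal.Quotient.mk q).comp (Ideal.Quotient.mk Q)
          have hqdom : IsDomain ((P ⧸ Q) ⧸ q) := Ideal.Quotient.isDomain q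
          have hoff : ∀ i j, i ≠ j → π (MvPolynomial.X (i, j)) = 0 := fun i j hij =>
            Ideal.Quotient.eq_zero_iff_mem.2 (hJq (Ideal.subset_span (Finset.mem_coe.2
              (Finset.mem_image_of_mem _ (Finset.mem_filter.2 ⟨Finset.mem_univ _, hij⟩)))))
          have hchar := (charpoly_map_eq_iff k n (S := (P ⧸ Q) ⧸ q) π).1 fun y hy => by
            show Ideal.Quotient.mk q (Ideal.Quotient.mk Q y) = 0
            rw [Ideal.Quotient.eq_zero_iff_mem.2 (Ideal.le_radical hy), map_zero]
          have hdiag : ((Matrix.mvPolynomialX (Fin n) (Fin n) k).map π) =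
              Matrix.diagonal fun i => π (MvPolynomial.X (i, i)) := by
            ext i j
            by_cases hij : i = j
            · subst hij; simp
            · simp [Matrix.diagonal_apply_ne _ hij, hoff i j hij]
          rw [hdiag, Matrix.charpoly_diagonal] at hchar
          have hX : ∀ p, π (MvPolynomial.X p) = 0 := by
            rintro ⟨i, j⟩
            by_cases hij : i = j
            · subst hij
              exact @roots_zero ((P ⧸ Q) ⧸ q) _ hqdom n (fun l => π (MvPolynomial.X (l, l))) hchar i
            · exact hoff i j hij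
          have hπ : π = (π.comp MvPolynomial.C).comp ev := by
            refine MvPolynomial.ringHom_ext (fun r => by simp [ev]) fun p => by simp [ev, hX p]
          rw [← Ideal.Quotient.eq_zero_iff_mem]
          show π w = 0
          rw [hπ, RingHom.comp_apply]
          have : ev w = 0 := hz
          rw [this, map_zero]
        refine Set.eq_singleton_iff_unique_mem.2 ⟨⟨⟨hm.isPrime, hJm⟩, fun q hq _ => hrad q hq.1 hq.2⟩, fun q hq => ?_⟩
        exact (hm.eq_of_le hq.1.1.ne_top (hrad q hq.1.1 hq.1.2)).symm
      have e : m.height = J.height := by rw [Ideal.height_eq_inf_minimalPrimes (I := J), hmin]; simp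
      have h4 := Local.height_maximal k m
      rw [e, ← hD] at h4
      have h5 := (Ideal.height_le_spanFinrank J fun h => hm.ne_top (top_le_iff.1 (h ▸ hJm))).trans
        (Nat.cast_le.2 (Submodule.spanFinrank_span_le_ncard_of_finite (Finset.finite_toSet _)))
      rw [h4, Nat.cast_le, Set.ncard_coe_finset] at h5
      refine h5.trans (Finset.card_image_le.trans ?_)
      show (Finset.univ.filter fun p : Fin n × Fin n => p.1 ≠ p.2).card ≤ _
      have : (Finset.univ.filter fun p : Fin n × Fin n => p.1 ≠ p.2) = (Finset.univ : Finset (Fin n)).offDiag := by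
        ext p; simp [Finset.mem_offDiag]
      rw [this, Finset.offDiag_card]
      simp
    congr 2
    rw [sq]
    omega

end Groth.Agent.H15.NilCone
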