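import Groth.Agent.Lib.KRes.KSub
import Mathlib.Algebra.Category.ModuleCat.Abelian
import Mathlib.Algebra.Homology.ShortComplex.ModuleCat
import Mathlib.Algebra.Module.LocalizedModule.Exact
import Mathlib.RingTheory.Ideal.AssociatedPrime.Finiteness
import Mathlib.RingTheory.Length
import Mathlib.RingTheory.Support
import Mathlib.RingTheory.HopkinsLevitzki
import Mathlib.RingTheory.Ideal.MinimalPrime.Localization
import Mathlib.RingTheory.Polynomial.Basic
import Mathlib.RingTheory.PrincipalIdealDomain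
import Mathlib.RingTheory.KrullDimension.Basic
import Mathlib.RingTheory.Ideal.Height
import Mathlib.RingTheory.MvPolynomial.Basic
import Mathlib.Algebra.MvPolynomial.Division

/-!
# The Grothendieck group of the node
-/

set_option autoImplicit false

noncomputable section

universe u

open CategoryTheory

namespace Groth.Agent.H15.NodeK0

open Groth.Agent.Lib.KRes

variable (R : Type u) [CommRing R] [IsNoetherianRing R]

/-- Finite modules. -/
abbrev Fin' : ObjectProperty (ModuleCat.{u} R) := fun M => Module.Finite R M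

/-- Length at a minimal prime. -/
def F (p : Ideal R) [p.IsPrime] (M : ModuleCat.{u} R) : ℤ :=
  ((Module.length (Localization.AtPrime p) (LocalizedModule p.primeCompl M)).toNat : ℤ)

theorem length_ne_top (p : Ideal R) [p.IsPrime] (hp : p ∈ minimalPrimes R) (M : Type u) [AddCommGroup M] [Module R M]
    [Module.Finite R M] : Module.length (Localization.AtPrime p) (LocalizedModule p.primeCompl M) ≠ ⊤ := by
  have : Ring.KrullDimLE 0 (Localization.AtPrime p) := by
    rw [Ring.krullDimLE_iff, IsLocalization.AtPrime.ringKrullDim_eq_height p, Ideal.height_eq_zero_iff.2 hp]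
    simp
  have : IsArtinianRing (Localization.AtPrime p) :=
    isArtinianRing_iff_isNoetherianRing_krullDimLE_zero.2 ⟨inferInstance, inferInstance⟩
  exact Module.length_ne_top

theorem F_add (p : Ideal R) [p.IsPrime] (hp : p ∈ minimalPrimes R) (S : ShortComplex (ModuleCat.{u} R))
    (hS : S.ShortExact) (h₁ : Fin' R S.X₁) (h₂ : Fin' R S.X₂) (h₃ : Fin' R S.X₃) :
    F R p S.X₂ = F R p S.X₁ + F R p S.X₃ := by
  have : Module.Finite R S.X₁ := h₁
  have : Module.Finite R S.X₂ := h₂
  have : Module.Finite R S.X₃ := h₃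
  let f := LocalizedModule.map p.primeCompl S.f.hom
  let g := LocalizedModule.map p.primeCompl S.g.hom
  have h := Module.length_eq_add_of_exact f g
    (IsLocalizedModule.map_injective p.primeCompl _ _ _ hS.moduleCat_injective_f)
    (IsLocalizedModule.map_surjective p.primeCompl _ _ _ hS.moduleCat_surjective_g)
    (LocalizedModule.map_exact p.primeCompl _ _ ((ShortComplex.ShortExact.moduleCat_exact_iff_function_exact S).1 hS.exact))
  simp only [F, h]
  rw [ENat.toNat_add (length_ne_top R p hp _) (length_ne_top R p hp _)]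
  push_cast
  rfl

theorem F_quotient_ne_zero (p : Ideal R) [p.IsPrime] (hp : p ∈ minimalPrimes R) :
    F R p (ModuleCat.of R (R ⧸ p)) ≠ 0 := by
  have hmem : (⟨p, ‹_›⟩ : PrimeSpectrum R) ∈ Module.support R (R ⧸ p) := by
    rw [Module.mem_support_iff']
    refine ⟨Ideal.Quotient.mk p 1, fun r hr h => hr ?_⟩
    rwa [Algebra.smul_def, map_one, mul_one, Ideal.Quotient.algebraMap_eq, Ideal.Quotient.eq_zero_iff_mem] at h
  have : Nontrivial (LocalizedModule p.primeCompl (R ⧸ p)) := hmem
  simp only [F, ne_eq, Int.natCast_eq_zero, ENat.toNat_eq_zero]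
  rintro (h | h)
  · exact (Module.length_pos (R := Localization.AtPrime p) (M := LocalizedModule p.primeCompl (R ⧸ p))).ne' h
  · exact length_ne_top R p hp _ h

theorem F_quotient_eq_zero (p q : Ideal R) [p.IsPrime] (h : ¬ q ≤ p) : F R p (ModuleCat.of R (R ⧸ q)) = 0 := by
  have hmem : (⟨p, ‹_›⟩ : PrimeSpectrum R) ∉ Module.support R (R ⧸ q) := fun hm =>
    h (Ideal.annihilator_quotient.ge.trans (Module.annihilator_le_of_mem_support hm))
  rw [Module.notMem_support_iff] at hmem
  simp only [F, Int.natCast_eq_zero, ENat.toNat_eq_zero]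
  exact Or.inl Module.length_eq_zero

theorem clSub_iso {M N : ModuleCat.{u} R} (e : M ≅ N) (hM : Fin' R M) (hN : Fin' R N) :
    KZero.clSub (Fin' R) M = KZero.clSub (Fin' R) N := by
  have hZ : Limits.IsZero (ModuleCat.of R PUnit.{u + 1}) := ModuleCat.isZero_of_subsingleton _
  have h0 : Fin' R (ModuleCat.of R PUnit.{u + 1}) := inferInstanceAs (Module.Finite R PUnit)
  have := KSub.rel (KSub.shortExact_iso e hZ) hM hN h0
  dsimp at this
  rw [this, KSub.clSub_zero hZ h0, add_zero]

theorem rel_lin {M N Q : Type u} [AddCommGroup M] [Module R M] [AddCommGroup N] [Module R N] [AddCommGroup Q]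
    [Module R Q] [Module.Finite R M] [Module.Finite R N] [Module.Finite R Q] (f : M →ₗ[R] N) (g : N →ₗ[R] Q)
    (hf : Function.Injective f) (hg : Function.Surjective g) (h : Function.Exact f g) :
    KZero.clSub (Fin' R) (ModuleCat.of R N) = KZero.clSub (Fin' R) (ModuleCat.of R M) + KZero.clSub (Fin' R) (ModuleCat.of R Q) := by
  let S : ShortComplex (ModuleCat.{u} R) :=
    ShortComplex.mk (ModuleCat.ofHom f) (ModuleCat.ofHom g) (by ext x; exact h.apply_apply_eq_zero x)
  have hS : S.ShortExact := by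
    refine { exact := (ShortComplex.ShortExact.moduleCat_exact_iff_function_exact S).2 h, mono_f := ?_, epi_g := ?_ }
    · exact (ModuleCat.mono_iff_injective _).2 hf
    · exact (ModuleCat.epi_iff_surjective _).2 hg
  exact KSub.rel hS ‹Module.Finite R M› ‹Module.Finite R N› ‹Module.Finite R Q›

theorem bijective (px py : Ideal R) [px.IsPrime] [py.IsPrime] (hx : px ∈ minimalPrimes R) (hy : py ∈ minimalPrimes R)
    (hxy : ¬ py ≤ px) (hyx : ¬ px ≤ py) (hcover : ∀ q : Ideal R, q.IsPrime → px ≤ q ∨ py ≤ q)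
    (hPx : IsPrincipalIdealRing (R ⧸ px)) (hPy : IsPrincipalIdealRing (R ⧸ py)) :
    Function.Bijective (fun p : ℤ × ℤ => p.1 • KZero.clSub (Fin' R) (ModuleCat.of R (R ⧸ px)) +
      p.2 • KZero.clSub (Fin' R) (ModuleCat.of R (R ⧸ py))) := by
  have hfin : ∀ I : Ideal R, Fin' R (ModuleCat.of R (R ⧸ I)) := fun I => inferInstanceAs (Module.Finite R (R ⧸ I))
  let Lx := KSub.lift (F R px) (fun S hS h₁ h₂ h₃ => F_add R px hx S hS h₁ h₂ h₃)
  let Ly := KSub.lift (F R py) (fun S hS h₁ h₂ h₃ => F_add R py hy S hS h₁ h₂ h₃)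
  constructor
  · rintro ⟨a, b⟩ ⟨a', b'⟩ h
    have h1 := congrArg Lx h
    have h2 := congrArg Ly h
    simp only [map_add, map_zsmul, Lx, Ly, KSub.lift_cl _ _ (hfin _), smul_eq_mul,
      F_quotient_eq_zero R px py hxy, F_quotient_eq_zero R py px hyx, mul_zero, add_zero, zero_add] at h1 h2
    exact Prod.ext (mul_right_cancel₀ (F_quotient_ne_zero R px hx) h1) (mul_right_cancel₀ (F_quotient_ne_zero R py hy) h2)
  · let φ : ℤ × ℤ →+ KZero.K0sub (Fin' R) :=
      ((zmultiplesHom _ (KZero.clSub (Fin' R) (ModuleCat.of R (R ⧸ px)))).coprod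
        (zmultiplesHom _ (KZero.clSub (Fin' R) (ModuleCat.of R (R ⧸ py)))))
    suffices h : φ.range = ⊤ by
      intro z
      obtain ⟨p, hp⟩ := h ▸ AddSubgroup.mem_top z
      exact ⟨p, hp⟩
    have hprime : ∀ (p₀ : Ideal R) [p₀.IsPrime], IsPrincipalIdealRing (R ⧸ p₀) →
        KZero.clSub (Fin' R) (ModuleCat.of R (R ⧸ p₀)) ∈ φ.range →
        ∀ q : Ideal R, q.IsPrime → p₀ ≤ q → KZero.clSub (Fin' R) (ModuleCat.of R (R ⧸ q)) ∈ φ.range := by
      intro p₀ _ hP hmem q hq hle
      rcases hle.eq_or_lt with rfl | hlt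
      · exact hmem
      obtain ⟨h', hh'⟩ := hP.principal (q.map (Ideal.Quotient.mk p₀))
      obtain ⟨h, rfl⟩ := Ideal.Quotient.mk_surjective h'
      have hq' : q = Ideal.span {h} ⊔ p₀ := by
        have e := congrArg (Ideal.comap (Ideal.Quotient.mk p₀)) hh'
        rw [Ideal.comap_map_of_surjective _ Ideal.Quotient.mk_surjective, ← RingHom.ker_eq_comap_bot, Ideal.mk_ker,
          sup_eq_left.2 hle] at e
        rw [e, ← Ideal.map_comap_of_surjective (Ideal.Quotient.mk p₀) Ideal.Quotient.mk_surjective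
          (Submodule.span _ {Ideal.Quotient.mk p₀ h})]
        rw [show (Submodule.span (R ⧸ p₀) {Ideal.Quotient.mk p₀ h} : Ideal (R ⧸ p₀)) = (Ideal.span {h}).map (Ideal.Quotient.mk p₀) by
          rw [Ideal.map_span, Set.image_singleton]]
        rw [Ideal.map_comap_of_surjective _ Ideal.Quotient.mk_surjective, Ideal.comap_map_of_surjective _ Ideal.Quotient.mk_surjective,
          ← RingHom.ker_eq_comap_bot, Ideal.mk_ker]
      have hh0 : h ∉ p₀ := fun hm => hlt.ne (le_antisymm hle (hq' ▸ sup_le (Ideal.span_le.2 (Set.singleton_subset_iff.2 hm)) le_rfl))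
      let f : (R ⧸ p₀) →ₗ[R] (R ⧸ p₀) := LinearMap.lsmul R (R ⧸ p₀) h
      let g : (R ⧸ p₀) →ₗ[R] (R ⧸ q) := Submodule.factor hle
      have := rel_lin R f g (fun a b hab => by
          have : IsDomain (R ⧸ p₀) := Ideal.Quotient.isDomain p₀
          simp only [f, LinearMap.lsmul_apply, Algebra.smul_def, Ideal.Quotient.algebraMap_eq] at hab
          exact mul_left_cancel₀ (fun h0 => hh0 (Ideal.Quotient.eq_zero_iff_mem.1 h0)) hab)
        (Submodule.factor_surjective hle) (fun z => by
          obtain ⟨a, rfl⟩ := Ideal.Quotient.mk_surjective z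
          constructor
          · intro ha
            have haq : a ∈ q := Ideal.Quotient.eq_zero_iff_mem.1 ha
            rw [hq', Submodule.mem_sup] at haq
            obtain ⟨u, hu, v, hv, rfl⟩ := haq
            obtain ⟨w, rfl⟩ := Ideal.mem_span_singleton'.1 hu
            refine ⟨Ideal.Quotient.mk p₀ w, ?_⟩
            simp only [f, LinearMap.lsmul_apply, Algebra.smul_def, Ideal.Quotient.algebraMap_eq, map_add, map_mul,
              Ideal.Quotient.eq_zero_iff_mem.2 hv, add_zero, mul_comm]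
          · rintro ⟨w, hw⟩
            obtain ⟨w, rfl⟩ := Ideal.Quotient.mk_surjective w
            rw [← hw]
            show g (Ideal.Quotient.mk p₀ (h * w)) = 0
            exact Ideal.Quotient.eq_zero_iff_mem.2 (q.mul_mem_right _ (hq' ▸ Ideal.mem_sup_left (Ideal.mem_span_singleton_self h))))
      rw [left_eq_add.mp this]
      exact φ.range.zero_mem
    refine KSub.closure_eq_top fun M hM => ?_
    have : Module.Finite R M := hM
    refine IsNoetherianRing.induction_on_isQuotientEquivQuotientPrime (A := R) this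
      (motive := fun N _ _ _ => KZero.clSub (Fin' R) (ModuleCat.of R N) ∈ φ.range) ?_ ?_ ?_
    · intro N _ _ _ _
      rw [KSub.clSub_zero (ModuleCat.isZero_of_subsingleton (ModuleCat.of R N)) ‹Module.Finite R N›]
      exact φ.range.zero_mem
    · intro N _ _ hN q e
      rw [clSub_iso R e.toModuleIso hN (hfin _)]
      rcases hcover q.1 q.2 with h | h
      · exact hprime px hPx ⟨(1, 0), by simp [φ]⟩ q.1 q.2 h
      · exact hprime py hPy ⟨(0, 1), by simp [φ]⟩ q.1 q.2 h
    · intro N₁ _ _ _ N₂ _ _ _ N₃ _ _ _ f g hf hg h h₁ h₃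
      rw [rel_lin R f g hf hg h]
      exact φ.range.add_mem h₁ h₃

variable (k : Type u) [Field k]

local notation "P" => MvPolynomial (Fin 2) k
local notation "I" => Ideal.span {(MvPolynomial.X 0 * MvPolynomial.X 1 : MvPolynomial (Fin 2) k)}

theorem axis (i j : Fin 2) (hij : i ≠ j) :
    (Ideal.span {Ideal.Quotient.mk I (MvPolynomial.X i)}).IsPrime ∧
      IsPrincipalIdealRing ((P ⧸ I) ⧸ Ideal.span {Ideal.Quotient.mk I (MvPolynomial.X i)}) := by
  have hI : I ≤ Ideal.span {(MvPolynomial.X i : P)} := by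
    rw [Ideal.span_le, Set.singleton_subset_iff, SetLike.mem_coe, Ideal.mem_span_singleton]
    fin_cases i
    · exact dvd_mul_right _ _
    · exact dvd_mul_left _ _
  have hmap : Ideal.span {Ideal.Quotient.mk I (MvPolynomial.X i)} = (Ideal.span {(MvPolynomial.X i : P)}).map (Ideal.Quotient.mk I) := by
    rw [Ideal.map_span, Set.image_singleton]
  constructor
  · rw [hmap]
    have : (Ideal.span {(MvPolynomial.X i : P)}).IsPrime :=
      (Ideal.span_singleton_prime (MvPolynomial.X_ne_zero i)).2 MvPolynomial.X_prime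
    exact Ideal.map_isPrime_of_surjective Ideal.Quotient.mk_surjective (by rwa [Ideal.mk_ker])
  · set q := Ideal.span {Ideal.Quotient.mk I (MvPolynomial.X i)}
    let ψ : Polynomial k →ₐ[k] (P ⧸ I) ⧸ q := Polynomial.aeval (Ideal.Quotient.mk q (Ideal.Quotient.mk I (MvPolynomial.X j)))
    refine IsPrincipalIdealRing.of_surjective ψ.toRingHom fun z => ?_
    obtain ⟨z, rfl⟩ := Ideal.Quotient.mk_surjective z
    obtain ⟨a, rfl⟩ := Ideal.Quotient.mk_surjective z
    induction a using MvPolynomial.induction_on with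
    | C r => exact ⟨Polynomial.C r, by simp [ψ]; rfl⟩
    | add a b ha hb =>
      obtain ⟨u, hu⟩ := ha
      obtain ⟨v, hv⟩ := hb
      exact ⟨u + v, by rw [map_add, hu, hv, map_add, map_add]⟩
    | mul_X a l ha =>
      obtain ⟨u, hu⟩ := ha
      rw [map_mul, map_mul, ← hu]
      by_cases hl : l = j
      · exact ⟨u * Polynomial.X, by rw [hl]; simp [ψ]⟩
      · have : l = i := by omega
        refine ⟨0, ?_⟩
        rw [map_zero, this, Ideal.Quotient.eq_zero_iff_mem.2 (Ideal.mem_span_singleton_self _)]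
        exact (mul_zero (ψ u)).symm

theorem main :
    Function.Bijective (fun p : ℤ × ℤ =>
      p.1 • KZero.clSub (Fin' (P ⧸ I)) (ModuleCat.of (P ⧸ I) ((P ⧸ I) ⧸ Ideal.span {Ideal.Quotient.mk I (MvPolynomial.X 0)})) +
      p.2 • KZero.clSub (Fin' (P ⧸ I)) (ModuleCat.of (P ⧸ I) ((P ⧸ I) ⧸ Ideal.span {Ideal.Quotient.mk I (MvPolynomial.X 1)}))) := by
  obtain ⟨hp0, hP0⟩ := axis k 0 1 (by decide)
  obtain ⟨hp1, hP1⟩ := axis k 1 0 (by decide)
  have hcov : ∀ q : Ideal (P ⧸ I), q.IsPrime → Ideal.span {Ideal.Quotient.mk I (MvPolynomial.X 0)} ≤ q ∨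
      Ideal.span {Ideal.Quotient.mk I (MvPolynomial.X 1)} ≤ q := fun q hq => by
    have : Ideal.Quotient.mk I (MvPolynomial.X 0) * Ideal.Quotient.mk I (MvPolynomial.X 1) ∈ q := by
      rw [← map_mul, Ideal.Quotient.eq_zero_iff_mem.2 (Ideal.mem_span_singleton_self _)]
      exact q.zero_mem
    exact (hq.mem_or_mem this).imp (fun h => Ideal.span_le.2 (Set.singleton_subset_iff.2 h))
      (fun h => Ideal.span_le.2 (Set.singleton_subset_iff.2 h))
  have hne : ∀ i j : Fin 2, i ≠ j → ¬ Ideal.span {Ideal.Quotient.mk I (MvPolynomial.X i)} ≤ Ideal.span {Ideal.Quotient.mk I (MvPolynomial.X j)} := by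
    intro i j hij h
    rw [Ideal.span_le, Set.singleton_subset_iff, SetLike.mem_coe, Ideal.mem_span_singleton'] at h
    obtain ⟨c, hc⟩ := h
    obtain ⟨a, rfl⟩ := Ideal.Quotient.mk_surjective c
    rw [← map_mul, Ideal.Quotient.mk_eq_mk_iff_sub_mem, Ideal.mem_span_singleton] at hc
    obtain ⟨t, ht⟩ := hc
    have h2 := congrArg (MvPolynomial.eval fun l => if l = j then (0 : k) else 1) ht
    simp [hij] at h2
    rcases (show j = 0 ∨ j = 1 by omega) with rfl | rfl <;> simp at h2
  have hminimal : ∀ p : Ideal (P ⧸ I), p.IsPrime → (∀ q : Ideal (P ⧸ I), q.IsPrime → q ≤ p → p ≤ q) → p ∈ minimalPrimes (P ⧸ I) :=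
    fun p hp h => ⟨⟨hp, bot_le⟩, fun q hq hle => h q hq.1 hle⟩
  refine bijective (P ⧸ I) _ _ (hminimal _ hp0 fun q hq hle => (hcov q hq).resolve_right fun h => hne 1 0 (by decide) (h.trans hle))
    (hminimal _ hp1 fun q hq hle => (hcov q hq).resolve_left fun h => hne 0 1 (by decide) (h.trans hle))
    (hne 1 0 (by decide)) (hne 0 1 (by decide)) hcov hP0 hP1

end Groth.Agent.H15.NodeK0
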