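import Groth.Prelude.Def_Omega3
import Mathlib.RingTheory.Ideal.Quotient.Nilpotent
import Mathlib.RingTheory.Localization.Basic

/-!
Universal first order thickenings localize.
-/

namespace Groth.Agent.H15.ThickLoc

universe u

theorem univThickening_localization {A AS B B' BS B'S : Type u} [CommRing A] [CommRing AS] [CommRing B] [CommRing B']
    [CommRing BS] [CommRing B'S] [Algebra A B] [Algebra A B'] (π : B' →ₐ[A] B)
    (hπ : OmegaSh.IsUnivThickeningRing A B B' π) (T : Submonoid B) (T' : Submonoid B')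
    (hTT : ∀ t ∈ T', π t ∈ T) (hTT' : ∀ t ∈ T, ∃ t' ∈ T', π t' = t)
    [Algebra B BS] [IsLocalization T BS] [Algebra B' B'S] [IsLocalization T' B'S]
    [Algebra A AS] [Algebra AS BS] [Algebra AS B'S]
    [Algebra A BS] [IsScalarTower A AS BS] [IsScalarTower A B BS]
    [Algebra A B'S] [IsScalarTower A AS B'S] [IsScalarTower A B' B'S]
    (hext : ∀ (C : Type u) [CommRing C] (f g : AS →+* C), f.comp (algebraMap A AS) = g.comp (algebraMap A AS) → f = g)
    (πS : B'S →ₐ[AS] BS) (hπS : ∀ x : B', πS (algebraMap B' B'S x) = algebraMap B BS (π x)) :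
    OmegaSh.IsUnivThickeningRing AS BS B'S πS := by
  obtain ⟨hsurj, hsq, huniv⟩ := hπ
  have hmk : ∀ (b : B') (t : T'), πS (IsLocalization.mk' B'S b t) = IsLocalization.mk' BS (π b) ⟨π t, hTT t t.2⟩ := by
    intro b t
    rw [IsLocalization.eq_mk'_iff_mul_eq, ← hπS, ← map_mul, IsLocalization.mk'_spec, hπS]
  refine ⟨?_, ?_, ?_⟩
  · intro z
    obtain ⟨b, ⟨t, ht⟩, rfl⟩ := IsLocalization.exists_mk'_eq T z
    obtain ⟨t', ht', rfl⟩ := hTT' t ht
    obtain ⟨b', rfl⟩ := hsurj b
    exact ⟨IsLocalization.mk' B'S b' ⟨t', ht'⟩, hmk b' ⟨t', ht'⟩⟩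
  · rw [eq_bot_iff, pow_two, Ideal.mul_le]
    intro x hx y hy
    have hker : ∀ z, z ∈ RingHom.ker πS.toRingHom → ∃ (c : B') (t : T'), π c = 0 ∧ z = IsLocalization.mk' B'S c t := by
      intro z hz
      obtain ⟨b, t, rfl⟩ := IsLocalization.exists_mk'_eq T' z
      have hz' : πS (IsLocalization.mk' B'S b t) = 0 := hz
      rw [hmk, IsLocalization.mk'_eq_zero_iff] at hz'
      obtain ⟨⟨u, hu⟩, hub⟩ := hz'
      obtain ⟨u', hu', rfl⟩ := hTT' u hu
      exact ⟨u' * b, ⟨u', hu'⟩ * t, by rw [map_mul]; exact hub,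
        (IsLocalization.mk'_eq_iff_eq).mpr (congrArg _ (by simp only [Submonoid.coe_mul]; ring))⟩
    obtain ⟨c, t, hc, rfl⟩ := hker x hx
    obtain ⟨c', t', hc', rfl⟩ := hker y hy
    have h0 : c * c' = 0 := by
      have : c * c' ∈ RingHom.ker π.toRingHom ^ 2 := by
        rw [pow_two]; exact Ideal.mul_mem_mul (RingHom.mem_ker.mpr hc) (RingHom.mem_ker.mpr hc')
      rw [hsq] at this
      simpa using this
    rw [Ideal.mem_bot, ← IsLocalization.mk'_mul, h0, IsLocalization.mk'_zero]
  · intro C _ _ I hI a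
    letI : Algebra A C := ((algebraMap AS C).comp (algebraMap A AS)).toAlgebra
    haveI : IsScalarTower A AS C := IsScalarTower.of_algebraMap_eq fun _ => rfl
    haveI : IsScalarTower A AS (C ⧸ I) := IsScalarTower.of_algebraMap_eq fun _ => rfl
    obtain ⟨a', ha', huniq⟩ := huniv C I hI ((a.restrictScalars A).comp (IsScalarTower.toAlgHom A B BS))
    have ha'' : ∀ b, Ideal.Quotient.mk I (a' b) = a (algebraMap B BS (π b)) := fun b => DFunLike.congr_fun ha' b
    have hunit : ∀ t : T', IsUnit (a' t) := fun t => by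
      rw [← IsNilpotent.isUnit_quotient_mk_iff (I := I) ⟨2, hI⟩, ha'']
      exact (IsLocalization.map_units BS ⟨π t, hTT t t.2⟩).map a
    let g₀ : B'S →+* C := IsLocalization.lift (g := a'.toRingHom) hunit
    have hg₀ : ∀ b, g₀ (algebraMap B' B'S b) = a' b := fun b => IsLocalization.lift_eq hunit b
    have hAS : g₀.comp (algebraMap AS B'S) = algebraMap AS C := by
      refine hext C _ _ (RingHom.ext fun r => ?_)
      rw [RingHom.comp_apply, RingHom.comp_apply, ← IsScalarTower.algebraMap_apply,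
        IsScalarTower.algebraMap_apply A B' B'S, hg₀, AlgHom.commutes]
      rfl
    let g : B'S →ₐ[AS] C := { g₀ with commutes' := fun r => RingHom.congr_fun hAS r }
    refine ⟨g, ?_, fun g' hg' => ?_⟩
    · apply AlgHom.coe_ringHom_injective
      refine IsLocalization.ringHom_ext T' (RingHom.ext fun b => ?_)
      show Ideal.Quotient.mk I (g₀ (algebraMap B' B'S b)) = a (πS (algebraMap B' B'S b))
      rw [hg₀, ha'', hπS]
    · have h1 : (g'.restrictScalars A).comp (IsScalarTower.toAlgHom A B' B'S) = a' := by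
        refine huniq _ (AlgHom.ext fun b => ?_)
        show Ideal.Quotient.mk I (g' (algebraMap B' B'S b)) = a (algebraMap B BS (π b))
        rw [← hπS]
        exact DFunLike.congr_fun hg' _
      apply AlgHom.coe_ringHom_injective
      refine IsLocalization.ringHom_ext T' (RingHom.ext fun b => ?_)
      show g' (algebraMap B' B'S b) = g₀ (algebraMap B' B'S b)
      rw [hg₀, ← h1]
      rfl

end Groth.Agent.H15.ThickLoc
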